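/-
`E₈(2)` has no maximal subgroup with socle `L₂(64)`: definitions.
-/
import Cfsg.Agent.KSG.E83.Luc
import Cfsg.Agent.KSG.E83.Syl
import Cfsg.Agent.KSG.AltETr
import Cfsg.Agent.CHEV.SsLoc
import Cfsg.Agent.CHEV.Inv2E

set_option autoImplicit false
set_option backward.isDefEq.respectTransparency false

namespace CL.E82
open Module Function Finset CL.SL2Wt CL.Chev CL.AltE Cfsg.Lie
open Matrix hiding zpow_add zpow_mul zpow_sub one_zpow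
open scoped MatrixGroups

/-! ### the group and its adjoint module -/

/-- the field -/
abbrev K2 := AlgebraicClosure (ZMod 2)
/-- the finite group -/
abbrev G8 := chevE8.group (ZMod 2)
/-- the algebraic group -/
abbrev Γ8 := chevE8.SteinbergGroup K2
/-- the adjoint module -/
abbrev V8 := chevE8.Idx → K2
/-- the roots -/
abbrev R8 := Rt chevE8

theorem exA : ∃ p : (K2 →+* K2) × Monoid.End Γ8 × (G8 →* Γ8), (stS chevE8 K2).Alg p.1 2 p.2.1 ∧ Injective p.2.2 ∧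
    (∀ y, y ∈ p.2.2.range ↔ p.2.1 y = y) ∧
    ∀ r t, p.2.2 ((stG chevE8 (ZMod 2)).x r t) = (stS chevE8 K2).x r (algebraMap (ZMod 2) K2 t) := by
  obtain ⟨φ, σ, ψ, A, h⟩ := exists_alg (F := ZMod 2) (D := chevE8) (by simp) card_ker_E8
  rw [ZMod.card] at A
  exact ⟨(φ, σ, ψ), A, h⟩

/-- Frobenius of the field -/
noncomputable def phi : K2 →+* K2 := exA.choose.1
/-- Frobenius of the algebraic group -/
noncomputable def sig : Monoid.End Γ8 := exA.choose.2.1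
/-- the finite group in the algebraic group -/
noncomputable def psi : G8 →* Γ8 := exA.choose.2.2
theorem alg : (stS chevE8 K2).Alg phi 2 sig := exA.choose_spec.1
theorem psi_inj : Injective psi := exA.choose_spec.2.1
theorem psi_range (y : Γ8) : y ∈ psi.range ↔ sig y = y := exA.choose_spec.2.2.1 y
theorem psi_x (r : R8) (t : ZMod 2) :
    psi ((stG chevE8 (ZMod 2)).x r t) = (stS chevE8 K2).x r (algebraMap (ZMod 2) K2 t) := exA.choose_spec.2.2.2 r t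
theorem phi_apply (x : K2) : phi x = x ^ 2 := alg.frob.apply x

/-- the adjoint representation of the algebraic group -/
noncomputable def rG : Γ8 →* End K2 V8 := (toEnd _ K2).comp ((adj chevE8 K2).comp (thetaS chevE8 K2))
/-- the adjoint representation of the finite group -/
noncomputable def rho : G8 →* End K2 V8 := rG.comp psi
/-- root elements -/
noncomputable abbrev XG (r : R8) (c : K2) : Γ8 := (stS chevE8 K2).x r c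
/-- the torus -/
noncomputable abbrev tor8 : (Fin 8 → K2ˣ) →* Γ8 := alg.r3.torHom
/-- root characters -/
noncomputable abbrev ch (t : Fin 8 → K2ˣ) (r : R8) : K2ˣ := uchr t ((rootSys chevE8).wt r)
/-- root vectors -/
noncomputable abbrev ee (r : R8) : V8 := bas chevE8 K2 r
/-- coroot vectors -/
noncomputable abbrev hh (r : R8) : V8 := hv K2 r
/-- Frobenius of the module -/
noncomputable def Fr (v : V8) : V8 := fun i => v i ^ 2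
/-- the value of the root `r` at the Cartan component of `v` -/
noncomputable def lam (r : R8) (v : V8) : K2 := ∑ i : Fin 8, v (Sum.inl i) * (A (sm (D := chevE8) i) r : K2)

theorem rG_x (r : R8) (c : K2) (v : V8) : rG (XG r c) v = xR chevE8 K2 r c *ᵥ v := by
  change adj chevE8 K2 (thetaS chevE8 K2 _) *ᵥ v = _
  rw [thetaS_x]; rfl

theorem rho_apply (g : G8) : rho g = rG (psi g) := rfl

/-- coordinates -/
noncomputable def pr (i : chevE8.Idx) : V8 →ₗ[K2] K2 := LinearMap.proj i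
theorem pr_apply (i : chevE8.Idx) (v : V8) : pr i v = v i := rfl
/-- `ad e_r` -/
noncomputable def adE (r : R8) : End K2 V8 := rG (XG r 1) - 1 + (pr (Sum.inr (ng r))).smulRight (ee r)
/-- `ad h_i` -/
noncomputable def adH (i : Fin 8) : End K2 V8 :=
  toEnd _ K2 (diagonal (Sum.elim (fun _ => 0) fun s => (A (sm (D := chevE8) i) s : K2)))
/-- the Lie bracket -/
noncomputable def br : V8 →ₗ[K2] V8 →ₗ[K2] V8 :=
  ∑ r : R8, (pr (Sum.inr r)).smulRight (adE r) + ∑ i : Fin 8, (pr (Sum.inl i)).smulRight (adH i)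
/-- the derived subspace -/
noncomputable def der (M : Submodule K2 V8) : Submodule K2 V8 :=
  Submodule.span K2 {x | ∃ u ∈ M, ∃ v ∈ M, x = br u v}

/-! ### semisimple classes -/

/-- the value of a root at a Kac point -/
def val (c : Fin 8 → ℕ) (r : R8) : ℤ := ∑ i : Fin 8, co r i * c i
/-- `g` is conjugate to the torus element with Kac coordinates `c` -/
def IsCls (z : K2ˣ) (c : Fin 8 → ℕ) (g : G8) : Prop :=
  ∃ y t, y * psi g * y⁻¹ = tor8 t ∧ ∀ r, ch t r = z ^ val c r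
/-- Kac points of order 65 -/
def C65 : Fin 6 → Fin 8 → ℕ := ![![0, 8, 1, 2, 1, 1, 4, 2], ![1, 0, 0, 1, 1, 2, 4, 8], ![1, 5, 3, 1, 1, 2, 3, 3], ![4, 2, 0, 1, 4, 2, 0, 8], ![4, 2, 1, 2, 1, 1, 1, 8], ![5, 3, 0, 1, 2, 0, 3, 7]]
/-- Kac points of order 63 -/
def C63 : Fin 8 → Fin 8 → ℕ := ![![0, 0, 0, 1, 1, 2, 4, 8], ![1, 6, 3, 1, 0, 2, 3, 3], ![3, 2, 1, 0, 1, 1, 6, 5], ![3, 2, 4, 0, 1, 4, 2, 1], ![4, 2, 0, 1, 4, 2, 0, 7], ![6, 0, 2, 0, 1, 3, 7, 0], ![6, 3, 2, 1, 2, 1, 1, 0], ![7, 4, 1, 0, 2, 3, 0, 0]]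
/-- multiplicities -/
def M65 : Fin 6 → List ℕ := ![[12, 4, 4, 3, 4, 3, 3, 2, 4, 2, 3, 7, 3, 2, 2, 3, 4, 3, 2, 7, 3, 7, 7, 7, 3, 3, 2, 7, 2, 2, 3, 3, 4, 4, 3, 3, 2, 2, 7, 2, 3, 3, 7, 7, 7, 3, 7, 2, 3, 4, 3, 2, 2, 3, 7, 3, 2, 4, 2, 3, 3, 4, 3, 4, 4],
  [12, 7, 7, 4, 7, 3, 4, 3, 7, 3, 3, 2, 4, 2, 3, 3, 7, 4, 3, 2, 3, 2, 2, 2, 4, 3, 2, 2, 3, 3, 3, 4, 7, 7, 4, 3, 3, 3, 2, 2, 3, 4, 2, 2, 2, 3, 2, 3, 4, 7, 3, 3, 2, 4, 2, 3, 3, 7, 3, 4, 3, 7, 4, 7, 7],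
  [8, 3, 3, 4, 3, 5, 4, 3, 3, 3, 5, 4, 4, 3, 3, 5, 3, 4, 3, 4, 5, 4, 4, 4, 4, 5, 3, 4, 3, 3, 5, 4, 3, 3, 4, 5, 3, 3, 4, 3, 5, 4, 4, 4, 4, 5, 4, 3, 4, 3, 5, 3, 3, 4, 4, 5, 3, 3, 3, 4, 5, 3, 4, 3, 3],
  [12, 3, 3, 2, 3, 3, 2, 7, 3, 7, 3, 4, 2, 2, 7, 3, 3, 2, 7, 4, 3, 4, 4, 4, 2, 3, 2, 4, 7, 7, 3, 2, 3, 3, 2, 3, 7, 7, 4, 2, 3, 2, 4, 4, 4, 3, 4, 7, 2, 3, 3, 7, 2, 2, 4, 3, 7, 3, 7, 2, 3, 3, 2, 3, 3],
  [8, 4, 4, 3, 4, 5, 3, 4, 4, 4, 5, 3, 3, 3, 4, 5, 4, 3, 4, 3, 5, 3, 3, 3, 3, 5, 3, 3, 4, 4, 5, 3, 4, 4, 3, 5, 4, 4, 3, 3, 5, 3, 3, 3, 3, 5, 3, 4, 3, 4, 5, 4, 3, 3, 3, 5, 4, 4, 4, 3, 5, 4, 3, 4, 4],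
  [12, 2, 2, 7, 2, 3, 7, 4, 2, 4, 3, 3, 7, 2, 4, 3, 2, 7, 4, 3, 3, 3, 3, 3, 7, 3, 2, 3, 4, 4, 3, 7, 2, 2, 7, 3, 4, 4, 3, 2, 3, 7, 3, 3, 3, 3, 3, 4, 7, 2, 3, 4, 2, 7, 3, 3, 4, 2, 4, 7, 3, 2, 7, 2, 2]]
/-- multiplicities -/
def M63 : Fin 8 → List ℕ := ![[16, 7, 7, 4, 7, 3, 4, 3, 7, 3, 3, 2, 4, 2, 3, 4, 7, 3, 3, 2, 3, 2, 2, 3, 4, 2, 2, 3, 3, 3, 4, 7, 7, 4, 3, 3, 3, 2, 2, 4, 3, 2, 2, 3, 2, 3, 3, 7, 4, 3, 2, 4, 2, 3, 3, 7, 3, 4, 3, 7, 4, 7, 7],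
  [10, 3, 3, 4, 3, 5, 4, 3, 3, 3, 5, 4, 4, 4, 3, 4, 3, 5, 3, 4, 5, 5, 4, 5, 4, 4, 4, 3, 3, 5, 4, 3, 3, 4, 5, 3, 3, 4, 4, 4, 5, 4, 5, 5, 4, 3, 5, 3, 4, 3, 4, 4, 4, 5, 3, 3, 3, 4, 5, 3, 4, 3, 3],
  [10, 5, 5, 4, 5, 4, 4, 3, 5, 3, 4, 3, 4, 3, 3, 4, 5, 4, 3, 3, 4, 5, 3, 4, 4, 3, 3, 3, 3, 4, 4, 5, 5, 4, 4, 3, 3, 3, 3, 4, 4, 3, 5, 4, 3, 3, 4, 5, 4, 3, 3, 4, 3, 4, 3, 5, 3, 4, 4, 5, 4, 5, 5],
  [10, 3, 3, 3, 3, 3, 3, 9, 3, 4, 3, 3, 3, 3, 9, 3, 3, 3, 4, 3, 3, 8, 3, 3, 3, 3, 3, 4, 9, 3, 3, 3, 3, 3, 3, 9, 4, 3, 3, 3, 3, 3, 8, 3, 3, 4, 3, 3, 3, 9, 3, 3, 3, 3, 4, 3, 9, 3, 3, 3, 3, 3, 3],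
  [12, 3, 3, 2, 3, 3, 2, 9, 3, 6, 3, 3, 2, 3, 9, 2, 3, 3, 6, 3, 3, 7, 3, 3, 2, 3, 3, 6, 9, 3, 2, 3, 3, 2, 3, 9, 6, 3, 3, 2, 3, 3, 7, 3, 3, 6, 3, 3, 2, 9, 3, 2, 3, 3, 6, 3, 9, 2, 3, 3, 2, 3, 3],
  [16, 3, 3, 4, 3, 2, 4, 3, 3, 3, 2, 7, 4, 7, 3, 4, 3, 2, 3, 7, 2, 2, 7, 2, 4, 7, 7, 3, 3, 2, 4, 3, 3, 4, 2, 3, 3, 7, 7, 4, 2, 7, 2, 2, 7, 3, 2, 3, 4, 3, 7, 4, 7, 2, 3, 3, 3, 4, 2, 3, 4, 3, 3],
  [10, 4, 4, 4, 4, 3, 4, 3, 4, 3, 3, 5, 4, 5, 3, 4, 4, 3, 3, 5, 3, 5, 5, 3, 4, 5, 5, 3, 3, 3, 4, 4, 4, 4, 3, 3, 3, 5, 5, 4, 3, 5, 5, 3, 5, 3, 3, 4, 4, 3, 5, 4, 5, 3, 3, 4, 3, 4, 3, 4, 4, 4, 4],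
  [16, 2, 2, 4, 2, 7, 4, 3, 2, 3, 7, 3, 4, 3, 3, 4, 2, 7, 3, 3, 7, 2, 3, 7, 4, 3, 3, 3, 3, 7, 4, 2, 2, 4, 7, 3, 3, 3, 3, 4, 7, 3, 2, 7, 3, 3, 7, 2, 4, 3, 3, 4, 3, 7, 3, 2, 3, 4, 7, 2, 4, 2, 2]]

/-- a frame: the twisted torus containing `s` -/
structure Frm (s : G8) (y m : Γ8) (w : Equiv.Perm R8) (t : Fin 8 → K2ˣ) : Prop where
  acts : (stS chevE8 K2).Acts1 m w
  lang : m = y * (sig y)⁻¹
  conj : y * psi s * y⁻¹ = tor8 t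
  me : ∀ r, rG m (ee r) = ee (w r)
  mh : ∀ r, rG m (hh r) = hh (w r)

/-- the centraliser has type `A₁A₁T₆`, the factors are swapped -/
def FrmA (s : G8) : Prop := ∃ y m w t, ∃ a b : Fin 8, Frm s y m w t ∧ a ≠ b ∧
  A (sm (D := chevE8) a) (sm b) = 0 ∧ w (sm a) = sm b ∧ w (sm b) = sm a ∧
  ∀ r, ch t r = 1 ↔ r = sm a ∨ r = ng (sm a) ∨ r = sm b ∨ r = ng (sm b)

/-- the element is regular and its torus is not generated by it -/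
def FrmR (s : G8) : Prop := ∃ y m w t, Frm s y m w t ∧ (∀ r, ch t r ≠ 1) ∧
  ∃ t', (rootSys chevE8).act w⁻¹ t' = t' ^ 2 ∧ t' ∉ Subgroup.zpowers t

/-! ### `SL₂(64)` -/

/-- the data of `SL₂(64)` -/
structure Dt (F : Type*) [Field F] [Fintype F] where
  f : F →+* K2
  c : Fˣ
  s : SL(2, F)
  η : K2ˣ
  card : Fintype.card F = 64
  hc : orderOf c = 63
  hη : orderOf η = 65
  ev : Ev f s η

/-- a normal subgroup `SL₂(F)` with trivial centraliser -/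
structure Emb2 {F G : Type*} [Field F] [Group G] (H : Subgroup G) (θ : SL(2, F) →* G) : Prop where
  inj : Injective θ
  le : ∀ g, θ g ∈ H
  norm : ∀ h ∈ H, ∀ g, ∃ g', h * θ g * h⁻¹ = θ g'
  cen : ∀ h ∈ H, (∀ g, Commute h (θ g)) → h = 1

variable {F : Type*} [Field F] [Fintype F] (D : Dt F)

/-- the split torus element `diag(c, c⁻¹)` -/
def Dt.t : SL(2, F) := dg D.c⁻¹
/-- its eigenvalue -/
noncomputable def Dt.ζ : K2ˣ := Units.map D.f.toMonoidHom D.c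
/-- the Weyl element -/
def ww : SL(2, F) := mk 0 (-1) 1 0 (by simp)

/-- the indices of the weights `r - 2j` of the simple module `L(r)` -/
def JJ (r : ℕ) : Finset ℕ := (range 64).filter fun j => j &&& r = j
/-- multiplicity of the weight `k` modulo `n` in `L(r)` -/
def cw (n r k : ℕ) : ℕ := #((JJ r).filter fun j => (r + (n - 2) * j) % n = k % n)
/-- the good types -/
def LG : List ℕ := [0, 1, 2, 4, 5, 7, 8, 9, 10, 11, 14, 16, 17, 18, 20, 21, 22, 25, 27, 28, 32, 34, 35, 36, 37, 40, 42, 44, 45, 49, 50, 54, 56]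
/-- the chosen bit -/
def asg (m : ℕ) : ℕ := [0, 0, 1, 1, 2, 2, 2, 1, 3, 0, 3, 0, 3, 0, 2, 0, 4, 0, 1, 0, 4, 0, 1, 0, 4, 0, 1, 0, 3, 0, 1, 0, 5, 0, 1, 0, 2, 0, 1, 0, 5, 0, 1, 0, 2, 0, 1, 0, 5, 0, 1, 0, 2, 0, 1, 0, 4, 0, 1, 0, 2, 0, 1, 0].getD m 0

variable {W : Type} [AddCommGroup W] [Module K2 W] (ρ : SL(2, F) →* End K2 W)

/-- `R` is the multiset of the highest weights of the composition factors -/
def Ty (R : Multiset ℕ) : Prop := (∀ r ∈ R, r < 64) ∧ IsEig (ρ D.t) (R.bind (wts · (D.ζ : K2))) ∧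
  IsEig (ρ D.s) (R.bind (wts · (D.η : K2)))

/-- invariant subspaces -/
def Inv (U : Submodule K2 W) : Prop := ∀ g, ∀ v ∈ U, ρ g v ∈ U
/-- subrepresentation -/
noncomputable def subR (U : Submodule K2 W) (hU : Inv ρ U) : SL(2, F) →* End K2 U :=
  ⟨⟨fun g => (ρ g).restrict (hU g), by ext; simp⟩, fun g h => by ext; simp⟩
/-- quotient representation -/
noncomputable def quoR (U : Submodule K2 W) (hU : Inv ρ U) : SL(2, F) →* End K2 (W ⧸ U) :=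
  ⟨⟨fun g => U.mapQ U (ρ g) (hU g), by ext; simp⟩, fun g h => by ext; simp⟩
omit [Fintype F] in
theorem subR_val (U : Submodule K2 W) (hU : Inv ρ U) (g : SL(2, F)) (v : U) : (subR ρ U hU g v : W) = ρ g v := rfl
omit [Fintype F] in
theorem quoR_mk (U : Submodule K2 W) (hU : Inv ρ U) (g : SL(2, F)) (v : W) :
    quoR ρ U hU g (U.mkQ v) = U.mkQ (ρ g v) := rfl
/-- no fixed vectors -/
def NoFix : Prop := ∀ v, (∀ g, ρ g v = v) → v = 0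
/-- no fixed functionals -/
def NoFixD : Prop := ∀ φ : Dual K2 W, (∀ g v, φ (ρ g v) = φ v) → φ = 0
open Classical in
/-- the sum of all group elements vanishes -/
def SZ : Prop := ∑ g, ρ g = 0
open Classical in
/-- the Steinberg block idempotent -/
noncomputable def EE : End K2 W := ∑ u ∈ univ.filter (fun u : SL(2, F) => u ^ 2 = 1), ρ u
/-- simple module of highest weight `r` with its polynomial model -/
structure Simp (r : ℕ) (φ : Dual K2 W) (z : W) : Prop where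
  lt : r < 64
  ty : Ty D ρ {r}
  top : ∀ g, φ (ρ g z) = D.f (g 1 0) ^ r
  inj : ∀ x, (∀ g, φ (ρ g x) = 0) → x = 0
  span : Submodule.span K2 (Set.range fun h => ρ h z) = ⊤
/-- divided powers -/
noncomputable def XX (m : ℕ) : End K2 W := if m = 0 then 1 else ∑ a : F, D.f a ^ (63 - m) • ρ (up a)
/-- opposite divided powers -/
noncomputable def YY (m : ℕ) : End K2 W := ρ ww * XX D ρ m * ρ ww
/-- the middle factor -/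
noncomputable def CC (i : ℕ) : End K2 W :=
  ∑ m ∈ (Ioo 0 63).filter (asg · = i), YY D ρ (m - 2 ^ i) * XX D ρ (m - 2 ^ i)
/-- weight spaces of the split torus -/
noncomputable abbrev Wt (k : ℕ) : Submodule K2 W := (ρ D.t).eigenspace ((D.ζ : K2) ^ k)

end CL.E82
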