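/-
`E₈(2)`, `L₂(64)`: the group `SL₂(64)` and its normaliser.
-/
import Cfsg.Agent.KSG.E82.Defs
import Cfsg.Agent.S1265

set_option autoImplicit false
set_option backward.isDefEq.respectTransparency false

namespace CL.E82
open Module Function Finset CL.SL2Wt CL.Chev CL.AltE Cfsg.Lie
open Matrix hiding zpow_add zpow_mul zpow_sub one_zpow
open scoped MatrixGroups

variable {F : Type*} [Field F] [Fintype F]

/-- PROOF: as in `E83.kill` (KSG/E83/L2): `IsAlgClosed.lift`, `exists_root 2`, `E83.exists_ev`. -/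
theorem exists_dt (hF : Fintype.card F = 64) : Nonempty (Dt F) := by
  have : CharP F 2 := charP_of_card_eq_prime_pow (p := 2) (f := 6) hF
  let _ := ZMod.algebra F 2
  let f : F →+* K2 := (IsAlgClosed.lift (R := ZMod 2) (S := F) (M := K2)).toRingHom
  obtain ⟨-, ν, hν⟩ := exists_root 2 (n := 65) (by norm_num)
  obtain ⟨s, hs⟩ := E83.exists_ev (f := f) (ν := ν) (by rw [hF]; exact hν)
  obtain ⟨c, hc⟩ := IsCyclic.exists_ofOrder_eq_natCard (α := Fˣ)
  rw [Nat.card_units, Nat.card_eq_fintype_card, hF] at hc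
  have h0 := hν.ne_zero (by norm_num)
  refine ⟨⟨f, c, s, Units.mk0 ν h0, hF, hc, ?_, hs⟩⟩
  rw [← orderOf_units]
  exact hν.eq_orderOf.symm

theorem Dt.two (D : Dt F) : (2 : F) = 0 := by
  have : CharP F 2 := charP_of_card_eq_prime_pow (p := 2) (f := 6) D.card
  exact CharP.cast_eq_zero F 2

theorem Dt.hζ (D : Dt F) : orderOf D.ζ = 63 := by
  rw [← D.hc]
  exact orderOf_injective (Units.map D.f.toMonoidHom) (Units.map_injective D.f.injective) D.c

theorem Dt.evt (D : Dt F) : Ev D.f D.t D.ζ := by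
  refine ⟨![1, 0], ![0, 1], by simp, Fin.forall_fin_two.2 ⟨?_, ?_⟩, Fin.forall_fin_two.2 ⟨?_, ?_⟩⟩ <;>
    simp [Dt.t, Dt.ζ, dg]

omit [Fintype F] in
theorem ord_of_ev {f : F →+* K2} {g : SL(2, F)} {μ : K2ˣ} (h : Ev f g (μ : K2)) {n : ℕ} (hn : orderOf μ = n)
    (ho : Nat.Coprime n 2) : orderOf g = n := by
  rw [← hn]
  refine orderOf_eq_orderOf_iff.2 fun k => ⟨fun e => ?_, fun e => ?_⟩
  · have h1 := E83.ev_center (E83.ev_pow h k) (e ▸ one_mem _)
    rw [← pow_mul, ← Units.val_pow_eq_pow_val, Units.val_eq_one, ← orderOf_dvd_iff_pow_eq_one] at h1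
    rw [← orderOf_dvd_iff_pow_eq_one]
    exact (hn ▸ ho).dvd_of_dvd_mul_right h1
  · have h1 := E83.ev_pow h k
    rw [← Units.val_pow_eq_pow_val, e, Units.val_one] at h1
    exact E83.ev_one h1

/-- `E83.ev_pow`, `ev_one`, `ev_center` -/
theorem Dt.ord_s (D : Dt F) : orderOf D.s = 65 := by
  exact ord_of_ev D.ev D.hη (by norm_num)

theorem Dt.ord_t (D : Dt F) : orderOf D.t = 63 := by
  exact ord_of_ev D.evt D.hζ (by norm_num)

theorem Dt.ord_w (D : Dt F) : orderOf (ww : SL(2, F)) = 2 := by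
  have h2 := D.two
  refine orderOf_eq_prime (ext4 ?_) fun e => ?_
  · simp only [sq, mul_ap, ww, mk00, mk01, mk10, mk11]
    refine ⟨?_, by simp, by simp, ?_⟩ <;> simp <;> linear_combination -h2
  · simpa [ww] using congrArg (fun g : SL(2, F) => g 0 0) e

theorem Dt.w_t (D : Dt F) : ww * D.t * ww = D.t⁻¹ := by
  have h2 := D.two
  refine eq_inv_of_mul_eq_one_left (ext4 ?_)
  simp only [mul_ap, ww, Dt.t, dg, mk00, mk01, mk10, mk11]
  refine ⟨?_, by simp, by simp, ?_⟩ <;> simp <;> linear_combination -h2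

/-- PROOF: the centre of SL₂(F) is trivial (char 2), so SL₂(F) ≃ PSL₂(F) ≃ F*(H); F*(H) is normal in H and
`Cfsg.Agent.S1265.result`: C_H(F*(H)) ≤ F*(H) (see `E72.card_dvd_aut`). -/
theorem exists_emb (D : Dt F) {G : Type*} [Group G] [Finite G] (H : Subgroup G)
    (hH : Nonempty (Cfsg.generalizedFittingSubgroup H ≃* Matrix.ProjectiveSpecialLinearGroup (Fin 2) F)) :
    ∃ θ : SL(2, F) →* G, Emb2 H θ := by
  obtain ⟨e⟩ := hH
  have hZ : ∀ g ∈ Subgroup.center SL(2, F), g = 1 := fun g hg => by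
    obtain ⟨r, hr, e⟩ := Matrix.SpecialLinearGroup.mem_center_iff.1 hg
    have h1 : r = 1 := by
      have h2 : r ^ 2 = 1 := by simpa using hr
      have : (r - 1) ^ 2 = 0 := by linear_combination h2 + (1 - r) * D.two
      exact sub_eq_zero.1 (pow_eq_zero_iff two_ne_zero |>.1 this)
    apply Subtype.ext
    rw [← e, h1]
    simp
  let π : SL(2, F) →* Cfsg.generalizedFittingSubgroup H := e.symm.toMonoidHom.comp (QuotientGroup.mk' _)
  have hs : Surjective π := e.symm.surjective.comp (QuotientGroup.mk'_surjective _)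
  have hi : Injective π := (injective_iff_map_eq_one _).2 fun g hg => hZ g (by simpa [π] using hg)
  refine ⟨H.subtype.comp ((Cfsg.generalizedFittingSubgroup H).subtype.comp π),
    H.subtype_injective.comp ((Subgroup.subtype_injective _).comp hi), fun g => (π g : H).2, fun h hh g => ?_,
    fun h hh hc => ?_⟩
  · obtain ⟨g', hg'⟩ := hs ⟨(⟨h, hh⟩ : H) * π g * (⟨h, hh⟩ : H)⁻¹, Subgroup.Normal.conj_mem inferInstance _ (π g).2 _⟩
    exact ⟨g', (congrArg (fun y : Cfsg.generalizedFittingSubgroup H => ((y : H) : G)) hg').symm⟩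
  · have h3 := Cfsg.Agent.S1265.result (G := H) (x := ⟨h, hh⟩) fun y hy => by
      obtain ⟨g, hg⟩ := hs ⟨y, hy⟩
      have := (hc g).eq
      apply Subtype.ext
      rw [show y = (π g : H) by rw [hg]]
      exact this.symm
    obtain ⟨g, hg⟩ := hs ⟨⟨h, hh⟩, h3⟩
    have hg' : ((π g : H) : G) = h := by rw [hg]
    have : g = 1 := hZ g (Subgroup.mem_center_iff.2 fun g' => hi (Subtype.ext (Subtype.ext (by
      have := (hc g').eq
      rw [← hg'] at this
      simpa using this.symm))))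
    rw [← hg', this, map_one]
    rfl

end CL.E82
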