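/-
`E₈(2)`, `L₂(64)`: the composition factors on the adjoint module.
-/
import Cfsg.Agent.KSG.E82.Defs

set_option autoImplicit false
set_option backward.isDefEq.respectTransparency false

namespace CL.E82
open Module Function Finset CL.SL2Wt CL.Chev CL.AltE Cfsg.Lie
open Matrix hiding zpow_add zpow_mul zpow_sub one_zpow
open scoped MatrixGroups

/-- the functional: `Σ_{b ∈ weights of L(J)} m(-b)` -/
def fn (n J : ℕ) (m : ℕ → ℕ) : ℕ := ∑ j ∈ JJ J, m ((n - (J + (n - 2) * j) % n) % n)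

theorem fn_congr {n : ℕ} (hn : 0 < n) (J : ℕ) {m m' : ℕ → ℕ} (h : ∀ k < n, m k = m' k) : fn n J m = fn n J m' :=
  Finset.sum_congr rfl fun _ _ => h _ (Nat.mod_lt _ hn)

/-- packed histogram of the weights -/
def hist (n r : ℕ) : ℕ := ∑ j ∈ JJ r, 256 ^ ((r + (n - 2) * j) % n)

theorem cw63 : ∀ r < 64, ∀ k < 63, cw 63 r k = hist 63 r >>> (8 * k) % 256 := by decide +kernel

theorem cw65 : ∀ r < 64, ∀ k < 65, cw 65 r k = hist 65 r >>> (8 * k) % 256 := by decide +kernel

/-- PROOF: `decide +kernel` (63 * 64 cases; use a fast evaluator, e.g. packed histograms of the weights). -/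
theorem fn_simple : ∀ J < 63, ∀ r < 64, fn 63 J (cw 63 r) = fn 65 J (cw 65 r) + if r = 63 - J then 2 else 0 := by
  have : ∀ J < 63, ∀ r < 64, fn 63 J (fun k => hist 63 r >>> (8 * k) % 256) =
      fn 65 J (fun k => hist 65 r >>> (8 * k) % 256) + if r = 63 - J then 2 else 0 := by decide +kernel
  intro J hJ r hr
  rw [fn_congr (by norm_num) J (cw63 r hr), fn_congr (by norm_num) J (cw65 r hr), this J hJ r hr]

/-- sum over R -/
theorem fn_count {R : Multiset ℕ} (hR : ∀ r ∈ R, r < 64) {J : ℕ} (hJ : J < 63) :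
    fn 63 J (fun k => (R.map (cw 63 · k)).sum) = fn 65 J (fun k => (R.map (cw 65 · k)).sum) + 2 * R.count (63 - J) := by
  induction R using Multiset.induction with
  | empty => simp [fn]
  | cons r R ih =>
    have h1 := ih fun x hx => hR x (Multiset.mem_cons_of_mem hx)
    have h2 := fn_simple J hJ r (hR r (Multiset.mem_cons_self r R))
    simp only [fn, Multiset.map_cons, Multiset.sum_cons, Finset.sum_add_distrib, Multiset.count_cons,
      eq_comm (a := 63 - J)] at h1 h2 ⊢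
    rw [h1, h2]
    split_ifs <;> ring

/-- the counts of r = 1..63 come from `fn_count`; the count of 0 from k = 0 (cw 63 0 0 = 1) -/
theorem eq_of_cw {R R' : Multiset ℕ} (hR : ∀ r ∈ R, r < 64) (hR' : ∀ r ∈ R', r < 64)
    (h63 : ∀ k < 63, (R.map (cw 63 · k)).sum = (R'.map (cw 63 · k)).sum)
    (h65 : ∀ k < 65, (R.map (cw 65 · k)).sum = (R'.map (cw 65 · k)).sum) : R = R' := by
  have c : ∀ r, r ≠ 0 → R.count r = R'.count r := fun r r0 => by
    by_cases h : r < 64
    · have h1 := fn_count hR (J := 63 - r) (by omega)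
      rw [fn_congr (by norm_num) _ h63, fn_congr (by norm_num) _ h65, fn_count hR' (by omega),
        show 63 - (63 - r) = r by omega] at h1
      omega
    · rw [Multiset.count_eq_zero.2 (mt (hR r) h), Multiset.count_eq_zero.2 (mt (hR' r) h)]
  have e : R.filter (¬ · = 0) = R'.filter (¬ · = 0) := Multiset.ext.2 fun r => by
    by_cases h : r = 0 <;> simp [Multiset.count_filter, h, c]
  have h0 := h63 0 (by norm_num)
  rw [← R.filter_add_not (· = 0), ← R'.filter_add_not (· = 0), e, Multiset.filter_eq', Multiset.filter_eq'] at h0 ⊢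
  simp only [Multiset.map_add, Multiset.sum_add, Multiset.map_replicate, Multiset.sum_replicate,
    show cw 63 0 0 = 1 by decide +kernel, smul_eq_mul, mul_one, add_left_inj] at h0
  rw [h0]

theorem tab : ∀ (i : Fin 6) (j : Fin 8), (∀ J < 63, fn 65 J ((M65 i).getD · 0) ≤ fn 63 J ((M63 j).getD · 0) ∧
    fn 63 J ((M63 j).getD · 0) % 2 = fn 65 J ((M65 i).getD · 0) % 2) → i = 1 ∧ j = 0 ∨ i = 2 ∧ j = 1 ∨ i = 3 ∧ j = 4 := by
  decide +kernel

/-- PROOF: `fn_count` with the tables; for the 45 other pairs (i,j) some J < 63 has fn 63 J M63 < fn 65 J M65 or an odd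
difference (`decide +kernel`); for the three pairs the counts of r = 63 - J are explicit: in case (1,0) only
r ∈ {0,1,2,3,4,5,6,8,9,10,12,16,17,18,20,24,32,33,34,36,40,48,63} occur. -/
theorem num {R : Multiset ℕ} (hR : ∀ r ∈ R, r < 64) {i : Fin 6} {j : Fin 8}
    (h65 : ∀ k < 65, (R.map (cw 65 · k)).sum = (M65 i).getD k 0)
    (h63 : ∀ k < 63, (R.map (cw 63 · k)).sum = (M63 j).getD k 0) :
    (i = 1 ∧ ∀ r ∈ R, ∀ r' ∈ R, r ≠ 63 → r' ≠ 63 → r + r' ≠ 63) ∨
    (i = 2 ∧ j = 1 ∧ R.count 63 = 1 ∧ ∀ r ∈ R, r ≠ 63 → r ∈ LG) ∨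
    (i = 3 ∧ j = 4 ∧ R.count 63 = 0 ∧ ∀ r ∈ R, r ≠ 63 → r ∈ LG) := by
  have k : ∀ J < 63, fn 63 J ((M63 j).getD · 0) = fn 65 J ((M65 i).getD · 0) + 2 * R.count (63 - J) := fun J hJ => by
    rw [← fn_congr (by norm_num) J h63, ← fn_congr (by norm_num) J h65, fn_count hR hJ]
  have m : ∀ L : List ℕ, 0 ∈ L → (∀ J < 63, fn 63 J ((M63 j).getD · 0) = fn 65 J ((M65 i).getD · 0) ∨ J = 0 ∨ 63 - J ∈ L) →
      ∀ r ∈ R, r ≠ 63 → r ∈ L := fun L h0 h r hr h1 => by
    have := hR r hr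
    obtain rfl | r0 := eq_or_ne r 0
    · exact h0
    have h2 := k (63 - r) (by omega)
    have h3 := h (63 - r) (by omega)
    rw [show 63 - (63 - r) = r by omega] at h2 h3
    have := Multiset.count_pos.2 hr
    exact (h3.resolve_left (by omega)).resolve_left (by omega)
  have k0 := k 0 (by norm_num)
  rcases tab i j fun J hJ => by have := k J hJ; omega with ⟨rfl, rfl⟩ | ⟨rfl, rfl⟩ | ⟨rfl, rfl⟩
  · have := m [0, 1, 2, 3, 4, 5, 6, 8, 9, 10, 12, 16, 17, 18, 20, 24, 32, 33, 34, 36, 40, 48] (by simp) (by decide +kernel)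
    exact .inl ⟨rfl, fun r hr r' hr' h h' => (by decide : ∀ r ∈ _, ∀ r' ∈ _, r + r' ≠ 63) r (this r hr h) r' (this r' hr' h')⟩
  · refine .inr (.inl ⟨rfl, rfl, ?_, m LG (by decide) (by decide +kernel)⟩)
    have : fn 63 0 ((M63 1).getD · 0) = fn 65 0 ((M65 2).getD · 0) + 2 := by decide +kernel
    simp only [Nat.sub_zero] at k0
    omega
  · refine .inr (.inr ⟨rfl, rfl, ?_, m LG (by decide) (by decide +kernel)⟩)
    have : fn 63 0 ((M63 4).getD · 0) = fn 65 0 ((M65 3).getD · 0) := by decide +kernel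
    simp only [Nat.sub_zero] at k0
    omega

end CL.E82
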