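/-
`E₈(2)`, `L₂(64)`: types of modules.
-/
import Cfsg.Agent.KSG.E82.Grp
import Cfsg.Agent.KSG.E82.Num

set_option autoImplicit false
set_option backward.isDefEq.respectTransparency false

namespace CL.E82
open Module Function Finset CL.SL2Wt CL.Chev CL.AltE Cfsg.Lie
open Matrix hiding zpow_add zpow_mul zpow_sub one_zpow
open scoped MatrixGroups

variable {F : Type*} [Field F] [Fintype F] (D : Dt F) {W : Type} [AddCommGroup W] [Module K2 W]
  [FiniteDimensional K2 W] (ρ : SL(2, F) →* End K2 W)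

namespace TyX

theorem of_top {K V : Type*} [Field K] [AddCommGroup V] [Module K V] (f : F →+* K) (ρ : SL(2, F) →* End K V)
    {φ : Dual K V} {z : V} {r : ℕ} (hr : r < Fintype.card F) (inj : ∀ x, (∀ g, φ (ρ g x) = 0) → x = 0)
    (hz : ∀ g, φ (ρ g z) = f (g 1 0) ^ r) (e' : Submodule.span K (Set.range fun h => ρ h z) = ⊤) :
    ∀ g μ, Ev f g μ → IsEig (ρ g) (wts r μ) := by
  classical
  have mul : ∀ g g' x, ρ g (ρ g' x) = ρ (g * g') x := fun g g' x => by rw [map_mul]; rfl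
  have inj' : ∀ x x', (∀ g, φ (ρ g x) = φ (ρ g x')) → x = x' := fun x x' e =>
    sub_eq_zero.1 (inj _ fun g => by rw [map_sub, map_sub, e, sub_self])
  rintro g μ ⟨c, d, D, hc, hd⟩
  obtain ⟨e⟩ : Nonempty (Fin (r + 1) ↪ F) := Function.Embedding.nonempty_of_card_le (by simpa using hr)
  let lo : Fin (r + 1) → SL(2, F) := fun i => mk 1 0 (e i) 1 (by simp)
  have he : ∀ i j, i ≠ j → f (e i) - f (e j) ≠ 0 := fun i j ne => sub_ne_zero.2 fun e' =>
    ne (e.injective (f.injective e'))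
  let l : (Fin 2 → K) → SL(2, F) → K := fun c g => f (g 1 0) * c 0 + f (g 1 1) * c 1
  let a : SL(2, F) → K := fun h => (f (h 0 0) * d 1 - f (h 1 0) * d 0) / (c 0 * d 1 - c 1 * d 0)
  let b : SL(2, F) → K := fun h => (c 0 * f (h 1 0) - c 1 * f (h 0 0)) / (c 0 * d 1 - c 1 * d 0)
  let m : Fin (r + 1) → SL(2, F) → K := fun j g => l d g ^ j.1 * l c g ^ j.rev.1 * r.choose j
  have h1 : ∀ h g, φ (ρ g (ρ h z)) = ∑ j : Fin (r + 1), b h ^ j.1 * a h ^ j.rev.1 * m j g := fun h g => by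
    have : f ((g * h) 1 0) = b h * l d g + a h * l c g := by
      simp only [mul_ap, map_add, map_mul, a, b, l]; field_simp; ring
    rw [mul, hz, this, add_pow, ← Fin.sum_univ_eq_sum_range
      (fun j => (b h * l d g) ^ j * (a h * l c g) ^ (r - j) * r.choose j)]
    exact sum_congr rfl fun j _ => by simp only [m, Fin.val_rev, Nat.add_sub_add_right]; ring
  let M := projVandermonde (b ∘ lo) (a ∘ lo)
  have hM : IsUnit M.det := Ne.isUnit <| vdm_ne _ _ fun i j ne e' => by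
    apply he i j ne
    simp only [a, b, lo, Function.comp, mk00, mk10, map_one] at e'
    field_simp at e'
    exact mul_left_cancel₀ D (by linear_combination -e')
  let v : Fin (r + 1) → V := fun j => ∑ i, M⁻¹ j i • ρ (lo i) z
  have hv : ∀ j g, φ (ρ g (v j)) = m j g := fun j g => by
    have : ∀ i, φ (ρ g (ρ (lo i) z)) = (M *ᵥ fun k => m k g) i := fun i => h1 _ _
    simp only [v, map_sum, map_smul, this, smul_eq_mul]
    change (M⁻¹ *ᵥ (M *ᵥ fun k => m k g)) j = _
    rw [mulVec_mulVec, nonsing_inv_mul _ hM, one_mulVec]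
  let J := {j : Fin (r + 1) // (r.choose j : K) ≠ 0}
  have li : LinearIndependent K fun j : J => v j := Fintype.linearIndependent_iff.2 fun u hu => by
    let u' : Fin (r + 1) → K := fun j => if h : (r.choose j : K) ≠ 0 then u ⟨j, h⟩ * r.choose j else 0
    have := eq_zero_of_mulVec_eq_zero (vdm_ne (l d ∘ lo) (l c ∘ lo) fun i j ne e' => by
      apply he i j ne
      simp only [l, lo, Function.comp, mk11, mk10, map_one] at e'
      exact mul_left_cancel₀ D (by linear_combination e')) (v := u') (funext fun i => by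
      have := congrArg (fun x => φ (ρ (lo i) x)) hu
      simp only [map_sum, map_smul, hv, map_zero, smul_eq_mul] at this
      rw [Pi.zero_apply, ← this, mulVec, dotProduct, ← Fintype.sum_subtype_add_sum_subtype
        (fun j : Fin (r + 1) => (r.choose j : K) ≠ 0), sum_eq_zero (s := (univ : Finset {j : Fin (r + 1) // ¬ (r.choose j : K) ≠ 0}))
        fun j _ => by simp only [u', dif_neg j.2, mul_zero], add_zero]
      exact sum_congr rfl fun j _ => by simp only [u', dif_pos j.2, projVandermonde_apply, m, Function.comp]; ring)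
    intro j
    have := congrFun this j
    simp only [u', dif_pos j.2, Pi.zero_apply] at this
    exact (mul_eq_zero.1 this).resolve_right j.2
  have sp : ⊤ ≤ Submodule.span K (Set.range fun j : J => v j) := by
    rw [← e', Submodule.span_le]
    rintro _ ⟨h, rfl⟩
    change ρ h z ∈ Submodule.span _ _
    rw [inj' (ρ h z) (∑ j : Fin (r + 1), (b h ^ j.1 * a h ^ j.rev.1) • v j) fun g => by
      simp only [h1, map_sum, map_smul, hv, smul_eq_mul]]
    refine Submodule.sum_mem _ fun j _ => Submodule.smul_mem _ _ ?_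
    by_cases c : (r.choose j : K) ≠ 0
    · exact Submodule.subset_span ⟨⟨j, c⟩, rfl⟩
    · rw [inj (v j) fun g => by rw [hv]; simp only [m, not_not.1 c, mul_zero]]
      exact Submodule.zero_mem _
  have l1 : ∀ g', l c (g' * g) = μ * l c g' := fun g' => by
    simp only [l, mul_ap, map_add, map_mul]; linear_combination f (g' 1 0) * hc 0 + f (g' 1 1) * hc 1
  have l2 : ∀ g', l d (g' * g) = μ⁻¹ * l d g' := fun g' => by
    simp only [l, mul_ap, map_add, map_mul]; linear_combination f (g' 1 0) * hd 0 + f (g' 1 1) * hd 1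
  have := isEig_of_basis (Basis.mk li sp) (A := ρ g) (fun j => μ⁻¹ ^ j.1.1 * μ ^ j.1.rev.1) fun j => by
    rw [Basis.mk_apply]
    refine inj' _ _ fun g' => ?_
    rw [mul, map_smul, map_smul, hv, hv, smul_eq_mul]
    simp only [m, l1, l2]; ring
  convert this using 1
  rw [wts, ← Finset.univ_map_subtype, map_val, Multiset.map_map]
  rfl

theorem dim_eig {A : End K2 W} {n : ℕ} (h0 : (n : K2) ≠ 0) (hn : A ^ n = 1) {E : Multiset K2} (h : IsEig A E)
    [DecidableEq K2] (μ : K2) : finrank K2 (A.eigenspace μ) = E.count μ := by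
  obtain ⟨I, _, v, d, h1, h2, h3⟩ := exists_eb_top (J := Unit) (fun _ => A) (fun _ _ => Commute.refl _) h0 fun _ => hn
  have := isEig_of_basis (Basis.mk h1 h2.ge) (A := A) (d ()) fun i => by rw [Basis.mk_apply]; exact h3 () i
  rw [h.unique this, Multiset.count_map, ← top_inf_eq (A.eigenspace μ), ← h2,
    finrank_inf₁ h1 (h3 ()) μ (fun i => μ = d () i) fun i => eq_comm]
  rfl

theorem luc : ∀ r < 64, ∀ j < 64, (r.descFactorial j / j.factorial % 2 = 1 ↔ j &&& r = j) := by decide +kernel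

theorem luc' {r j : ℕ} (hr : r < 64) (hj : j < 64) : (r.choose j : K2) ≠ 0 ↔ j &&& r = j := by
  rw [Ne, CharP.cast_eq_zero_iff K2 2, ← luc r hr j hj, Nat.choose_eq_descFactorial_div_factorial]
  omega

theorem cnt {μ : K2ˣ} {n : ℕ} (h2 : 2 ≤ n) (hμ : orderOf μ = n) {r : ℕ} (hr : r < 64) (k : ℕ) [DecidableEq K2] :
    (wts r (μ : K2)).count ((μ : K2) ^ k) = cw n r k := by
  classical
  rw [wts, Multiset.count_map, cw]
  rw [← filter_val, ← card_def]
  have e : ∀ j : Fin (r + 1), (μ : K2) ^ k = (μ : K2)⁻¹ ^ j.1 * (μ : K2) ^ j.rev.1 ↔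
      (r + (n - 2) * j) % n = k % n := fun j => by
    have h1 : (μ : K2)⁻¹ ^ j.1 * (μ : K2) ^ j.rev.1 = ((μ ^ (r + (n - 2) * j) : K2ˣ) : K2) := by
      have h3 : (μ : K2) ^ n = 1 := by rw [← Units.val_pow_eq_pow_val, ← hμ, pow_orderOf_eq_one, Units.val_one]
      have h4 : (μ : K2) ^ j.1 ≠ 0 := pow_ne_zero _ μ.ne_zero
      have h5 : j.1 + (r + (n - 2) * j) = j.rev.1 + n * j := by
        obtain ⟨m, rfl⟩ := Nat.exists_eq_add_of_le h2
        have := j.2
        rw [Fin.val_rev, Nat.add_sub_cancel_left, add_mul]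
        omega
      rw [inv_pow, inv_mul_eq_iff_eq_mul₀ h4, Units.val_pow_eq_pow_val, ← pow_add, h5, pow_add, pow_mul, h3, one_pow,
        mul_one]
    rw [h1, ← Units.val_pow_eq_pow_val, Units.val_inj, pow_eq_pow_iff_modEq, hμ, eq_comm]
    rfl
  refine card_bij (fun j _ => j.1) (fun j hj => ?_) (fun _ _ _ _ h => Fin.ext h) fun j hj => ?_
  · simp only [mem_filter, mem_univ, true_and] at hj
    have := j.2
    exact mem_filter.2 ⟨mem_filter.2 ⟨mem_range.2 (by omega), (luc' hr (by omega)).1 hj.1⟩, (e j).1 hj.2⟩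
  · obtain ⟨h3, h4⟩ := mem_filter.1 hj
    obtain ⟨h5, h6⟩ := mem_filter.1 h3
    have h7 : j < r + 1 := Nat.lt_succ_of_le (h6 ▸ Nat.and_le_right)
    refine ⟨⟨j, h7⟩, ?_, rfl⟩
    simp only [mem_filter, mem_univ, true_and]
    exact ⟨(luc' hr (mem_range.1 h5)).2 h6, (e ⟨j, h7⟩).2 h4⟩

omit [Fintype F] in
theorem dim {g : SL(2, F)} {μ : K2ˣ} {n : ℕ} (h2 : 2 ≤ n) (ho : ¬ 2 ∣ n) (hμ : orderOf μ = n) (hg : orderOf g = n)
    {R : Multiset ℕ} (hR : ∀ r ∈ R, r < 64) (h : IsEig (ρ g) (R.bind (wts · (μ : K2)))) (k : ℕ) :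
    finrank K2 ((ρ g).eigenspace ((μ : K2) ^ k)) = (R.map (cw n · k)).sum := by
  classical
  rw [dim_eig (n := n) (by rwa [Ne, CharP.cast_eq_zero_iff K2 2]) (by rw [← map_pow, ← hg, pow_orderOf_eq_one, map_one]) h,
    Multiset.count_bind]
  exact congrArg _ (Multiset.map_congr rfl fun r hr => cnt h2 hμ (hR r hr) k)

end TyX

/-- `SL2Wt.exists_wts`, `Dt.evt` -/
theorem exists_ty : ∃ R, Ty D ρ R := by
  obtain ⟨R, h1, h2⟩ := SL2Wt.exists_wts D.f ρ
  exact ⟨R, fun r hr => D.card ▸ h1 r hr, h2 _ _ D.evt, h2 _ _ D.ev⟩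

/-- PROOF: general lemma: A ^ n = 1, (n : K2) ≠ 0, IsEig A E gives finrank (eigenspace A μ) = count μ E (`exists_eb_top`,
`isEig_of_basis`, `IsEig.unique`, `finrank_inf₁`).  (r.choose j : K2) ≠ 0 iff j &&& r = j (Lucas; or decide for r < 64);
μ⁻¹ ^ j * μ ^ (r - j) = μ ^ (r + (n-2) j) (compare `E83.sum_eq`). -/
theorem Ty.dim_t {R : Multiset ℕ} (h : Ty D ρ R) (k : ℕ) : finrank K2 (Wt D ρ k) = (R.map (cw 63 · k)).sum := by
  exact TyX.dim ρ (by omega) (by omega) D.hζ D.ord_t h.1 h.2.1 k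

theorem Ty.dim_s {R : Multiset ℕ} (h : Ty D ρ R) (k : ℕ) :
    finrank K2 ((ρ D.s).eigenspace ((D.η : K2) ^ k)) = (R.map (cw 65 · k)).sum := by
  exact TyX.dim ρ (by omega) (by omega) D.hη D.ord_s h.1 h.2.2 k

/-- `IsEig.add` -/
theorem Ty.add {U : Submodule K2 W} (hU : Inv ρ U) {R R' : Multiset ℕ} (h : Ty D (subR ρ U hU) R)
    (h' : Ty D (quoR ρ U hU) R') : Ty D ρ (R + R') := by
  refine ⟨fun r hr => (Multiset.mem_add.1 hr).elim (h.1 r) (h'.1 r), ?_, ?_⟩ <;> rw [Multiset.add_bind]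
  exacts [IsEig.add U (hU _) h.2.1 h'.2.1, IsEig.add U (hU _) h.2.2 h'.2.2]

/-- `eq_of_cw` -/
theorem Ty.unique {R R' : Multiset ℕ} (h : Ty D ρ R) (h' : Ty D ρ R') : R = R' := by
  exact eq_of_cw h.1 h'.1 (fun k _ => (h.dim_t D ρ k).symm.trans (h'.dim_t D ρ k))
    fun k _ => (h.dim_s D ρ k).symm.trans (h'.dim_s D ρ k)

/-- a nonzero module has a nonempty type (the degree of the characteristic polynomial, or the sum of `dim_t`) -/
theorem Ty.ne_zero [Nontrivial W] {R : Multiset ℕ} (h : Ty D ρ R) : R ≠ 0 := by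
  rintro rfl
  obtain ⟨c, hc⟩ := End.exists_eigenvalue (ρ D.t)
  obtain ⟨v, hv⟩ := hc.exists_hasEigenvector
  have h1 := h.2.1 c
  rw [Multiset.zero_bind, Multiset.map_zero, Multiset.prod_zero] at h1
  have h2 := (LinearMap.isUnit_iff_isUnit_det _).2 (h1 ▸ isUnit_one)
  exact hv.2 (LinearMap.ker_eq_bot'.1 ((LinearMap.isUnit_iff_ker_eq_bot _).1 h2) v (by
    rw [LinearMap.sub_apply, hv.apply_eq_smul, LinearMap.smul_apply, End.one_apply, sub_self]))

/-- PROOF: copy the proof of `SL2Wt.of_simple`, keeping φ, z, `inj`, `sp` -/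
theorem exists_simp [Nontrivial W] (hs : ∀ U, Inv ρ U → U = ⊥ ∨ U = ⊤) : ∃ r φ z, Simp D ρ r φ z := by
  obtain ⟨φ, φ0, s, s0, s1, h⟩ := exists_functional D.f ρ
  have mul : ∀ g g' x, ρ g (ρ g' x) = ρ (g * g') x := fun g g' x => by rw [map_mul]; rfl
  have inj : ∀ x, (∀ g, φ (ρ g x) = 0) → x = 0 := fun x hx => by
    rcases hs (⨅ g, LinearMap.ker (φ ∘ₗ ρ g)) (fun g x hx => by
      simp only [Submodule.mem_iInf, LinearMap.mem_ker, LinearMap.comp_apply, mul] at hx ⊢
      exact fun _ => hx _) with e | e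
    · exact (Submodule.eq_bot_iff _).1 e x (by simpa [Submodule.mem_iInf] using hx)
    · refine (φ0 (LinearMap.ext fun x => ?_)).elim
      simpa using (Submodule.mem_iInf _).1 (e.ge (Submodule.mem_top (x := x))) 1
  obtain ⟨y, y0, hy⟩ := exists_fix D.f (fun t => ρ (up t)) (by rw [up_zero, map_one]) fun s t => by
    rw [up_add, map_mul]
  obtain ⟨r, hr, z, hz⟩ := exists_top D.f ρ s0 s1 h hy (by by_contra! hc; exact y0 (inj y hc))
  have sp : Submodule.span K2 (Set.range fun h => ρ h z) = ⊤ := by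
    refine (hs _ fun g x hx => ?_).resolve_left fun e => ?_
    · refine Submodule.mem_comap.1 (Submodule.span_le.2 ?_ hx)
      rintro _ ⟨h, rfl⟩
      exact Submodule.subset_span ⟨g * h, (mul _ _ _).symm⟩
    · have := hz (mk 0 (-1) 1 0 (by simp))
      rw [(Submodule.eq_bot_iff _).1 e (ρ _ z) (Submodule.subset_span ⟨_, rfl⟩)] at this
      simp at this
  have H := TyX.of_top D.f ρ hr inj hz sp
  rw [D.card] at hr
  exact ⟨r, φ, z, hr, ⟨by simpa using hr, by simpa using H _ _ D.evt, by simpa using H _ _ D.ev⟩, hz, inj, sp⟩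

/-- induction along a composition series (as `SL2Wt.exists_wts`; `Ty.add`, `Ty.unique` pass `p` to the parts) -/
theorem ind (p : ℕ → Prop)
    (P : ∀ (W : Type) [AddCommGroup W] [Module K2 W] [FiniteDimensional K2 W], (SL(2, F) →* End K2 W) → Prop)
    (h0 : ∀ (W : Type) [AddCommGroup W] [Module K2 W] [FiniteDimensional K2 W] (ρ : SL(2, F) →* End K2 W),
      Subsingleton W → P W ρ)
    (h1 : ∀ (W : Type) [AddCommGroup W] [Module K2 W] [FiniteDimensional K2 W] (ρ : SL(2, F) →* End K2 W) r φ z,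
      p r → Simp D ρ r φ z → P W ρ)
    (h2 : ∀ (W : Type) [AddCommGroup W] [Module K2 W] [FiniteDimensional K2 W] (ρ : SL(2, F) →* End K2 W)
      (U : Submodule K2 W) (hU : Inv ρ U), P U (subR ρ U hU) → P (W ⧸ U) (quoR ρ U hU) → P W ρ)
    {R : Multiset ℕ} (h : Ty D ρ R) (hp : ∀ r ∈ R, p r) : P W ρ := by
  induction hn : finrank K2 W using Nat.strong_induction_on generalizing W R with
  | _ n ih =>
  rcases subsingleton_or_nontrivial W with h3 | h3
  · exact h0 W ρ h3
  by_cases hs : ∀ U, Inv ρ U → U = ⊥ ∨ U = ⊤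
  · obtain ⟨r, φ, z, H⟩ := exists_simp D ρ hs
    exact h1 W ρ r φ z (hp r (by rw [h.unique D ρ H.ty]; exact Multiset.mem_singleton_self r)) H
  push Not at hs
  obtain ⟨U, hU, h4, h5⟩ := hs
  obtain ⟨R1, a1⟩ := exists_ty D (subR ρ U hU)
  obtain ⟨R2, a2⟩ := exists_ty D (quoR ρ U hU)
  obtain rfl := h.unique D ρ (a1.add D ρ hU a2)
  refine h2 W ρ U hU (ih _ (hn ▸ Submodule.finrank_lt h5) _ a1 (fun r hr => hp r (Multiset.mem_add.2 (.inl hr))) rfl)
    (ih _ ?_ _ a2 (fun r hr => hp r (Multiset.mem_add.2 (.inr hr))) rfl)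
  have := U.finrank_quotient_add_finrank
  have := Submodule.finrank_eq_zero.not.2 h4
  omega

end CL.E82
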