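/-
`E₈(2)`, `L₂(64)`: the checker for the Kac points conjugate to their squares (tables machine generated).
-/
import Cfsg.Agent.KSG.E82.Defs

set_option autoImplicit false
set_option maxRecDepth 100000
set_option maxHeartbeats 200000
set_option exponentiation.threshold 4096
set_option backward.isDefEq.respectTransparency false

namespace CL.E82.En
open Finset CL.Chev CL.AltE Cfsg.Lie

/-- packed coordinates of the positive roots -/
def R0 : ℕ := 0x20202020202020202020202020201010101010101010101010101010101010101010101010101010101010101010101010101010101010101010101010101010101010101010101010101010101000000000000000000000000000000000000000000000000000000000000000000000000000000000000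
/-- packed coordinates of the positive roots -/
def R1 : ℕ := 0x30303030303030202020202020203020202020202020202020202020202020202020202010101010101010101010101010101010101010101010101010101010101010101010100000000000000010101010101010101010101010101010101010101000000000000000000000000000000000000000000
/-- packed coordinates of the positive roots -/
def R2 : ℕ := 0x40404040404030403030303030303030303030303020202020202020202020202020202020202020202020202020202020202020202020201010101010101010101010101010101010101010100010101010101010101010101010101000000000000010101010101000000000000000000000000000000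
/-- packed coordinates of the positive roots -/
def R3 : ℕ := 0x60606060605050505040404040405050404040404040404040403030303030303030303030303030303030303030202020202020202020202020202020202020202010101010101010101010000020202020202020202020101010101010101010100010101010100010101010100000000000000000000
/-- packed coordinates of the positive roots -/
def R4 : ℕ := 0x50505050404040404040303030304040403030303040303030303030303020202020202030303030202020202020202020202020101010102020202020201010101010101010001010101000000020202020202010101010101010100010101010000010101010000010101010001010101000000000000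
/-- packed coordinates of the positive roots -/
def R5 : ℕ := 0x40404030303030303030302020203030303020202030302020203020202020202010101030202020202020101010202020101010101010002020201010101010100010101000001010100000000020202010101010101000101010000010101000000010101000000010101000001010100010101000000
/-- packed coordinates of the positive roots -/
def R6 : ℕ := 0x30302020202020202020202010102020202020101020202010102020101020101010100020201010201010101000201010101000101000002010101010001010000010100000001010000000000020101010100010100000101000000010100000000010100000000010100000001010000010100010100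
/-- packed coordinates of the positive roots -/
def R7 : ℕ := 0x20101010101010101010101010001010101010100010101010001010100010100010000010101000101000100000101000100000100000001010001000001000000010000000001000000000000010100010000010000000100000000010000000000010000000000010000000001000000010000010001
/-- all fields `1` -/
def ON : ℕ := 0x10101010101010101010101010101010101010101010101010101010101010101010101010101010101010101010101010101010101010101010101010101010101010101010101010101010101010101010101010101010101010101010101010101010101010101010101010101010101010101010101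
/-- all fields `128` -/
def HI : ℕ := 0x808080808080808080808080808080808080808080808080808080808080808080808080808080808080808080808080808080808080808080808080808080808080808080808080808080808080808080808080808080808080808080808080808080808080808080808080808080808080808080808080

/-- evaluate `n` first -/
def frc (n : ℕ) (f : ℕ → Bool) : Bool := Nat.rec (f 0) (fun k _ => f (Nat.succ k)) n
/-- the fields `≥ k` -/
def ge (S k : ℕ) : ℕ := Nat.land (Nat.add S (Nat.mul (Nat.sub 128 k) ON)) HI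
/-- four of them -/
def ge4 (S a b c d : ℕ) : ℕ := Nat.mod (Nat.add (Nat.add (ge S a) (ge S b)) (Nat.add (ge S c) (ge S d))) 255
/-- the multiplicities of `k` and `2 k` agree -/
def tst (n S k : ℕ) : Bool := frc (Nat.mod (Nat.mul 2 k) n) fun l =>
  Nat.beq (ge4 S k (Nat.sub n k) (Nat.succ l) (Nat.succ (Nat.sub n l)))
    (ge4 S (Nat.succ k) (Nat.succ (Nat.sub n k)) l (Nat.sub n l))
/-- the innermost coordinate -/
def l8 (n m : ℕ) (P : ℕ → ℕ → ℕ → ℕ → ℕ → ℕ → ℕ → ℕ → Bool) (c0 c1 c2 c3 c4 c5 c6 u D : ℕ) : Bool :=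
  allLt (Nat.succ (Nat.div (Nat.sub n u) 2)) fun c7 =>
    !Nat.beq (Nat.mod (Nat.add (Nat.mul (Nat.add (Nat.mul 2 c7) u) (Nat.add (Nat.mul 2 c7) u)) D) m) 0 ||
      frc (Nat.add (Nat.add (Nat.add (Nat.add (Nat.add (Nat.add (Nat.add (Nat.mul c0 R0) (Nat.mul c1 R1)) (Nat.mul c2 R2)) (Nat.mul c3 R3)) (Nat.mul c4 R4)) (Nat.mul c5 R5)) (Nat.mul c6 R6)) (Nat.mul c7 R7)) fun S =>
        !allLt (Nat.pred n) (fun k => tst n S (Nat.succ k)) || P c0 c1 c2 c3 c4 c5 c6 c7
/-- the seventh coordinate -/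
def l7 (n m T : ℕ) (P : ℕ → ℕ → ℕ → ℕ → ℕ → ℕ → ℕ → ℕ → Bool) (c1 c2 c3 c4 c5 c6 u a b g : ℕ) : Bool :=
  allLt (Nat.succ (Nat.div (Nat.sub n u) 2)) fun c0 =>
    frc (Nat.mod (Nat.add a (Nat.mul c0 (Nat.add b (Nat.mul c0 g)))) m) fun D =>
      Nat.beq (Nat.land (Nat.shiftRight T (Nat.add (Nat.mul D 128) (Nat.add u (Nat.mul 2 c0)))) 1) 1 ||
        l8 n m P c0 c1 c2 c3 c4 c5 c6 (Nat.add u (Nat.mul 2 c0)) D
/-- twice the norm -/
def q6 (c1 c2 c3 c4 c5 c6 : ℕ) : ℕ := (Nat.add (Nat.add (Nat.add (Nat.add (Nat.add (Nat.mul c1 (Nat.add (Nat.add (Nat.add (Nat.add (Nat.add (Nat.mul 16 c1) (Nat.mul 40 c2)) (Nat.mul 60 c3)) (Nat.mul 48 c4)) (Nat.mul 36 c5)) (Nat.mul 24 c6)))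
    (Nat.mul c2 (Nat.add (Nat.add (Nat.add (Nat.add (Nat.mul 28 c2) (Nat.mul 80 c3)) (Nat.mul 64 c4)) (Nat.mul 48 c5)) (Nat.mul 32 c6))))
    (Nat.mul c3 (Nat.add (Nat.add (Nat.add (Nat.mul 60 c3) (Nat.mul 96 c4)) (Nat.mul 72 c5)) (Nat.mul 48 c6))))
    (Nat.mul c4 (Nat.add (Nat.add (Nat.mul 40 c4) (Nat.mul 60 c5)) (Nat.mul 40 c6))))
    (Nat.mul c5 (Nat.add (Nat.mul 24 c5) (Nat.mul 32 c6))))
    (Nat.mul c6 (Nat.mul 12 c6)))
/-- the linear term -/
def p6 (c1 c2 c3 c4 c5 c6 : ℕ) : ℕ := (Nat.add (Nat.add (Nat.add (Nat.add (Nat.add (Nat.mul 20 c1) (Nat.mul 28 c2)) (Nat.mul 40 c3)) (Nat.mul 32 c4)) (Nat.mul 24 c5)) (Nat.mul 16 c6))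
/-- four loops -/
def l2 (n m T : ℕ) (P : ℕ → ℕ → ℕ → ℕ → ℕ → ℕ → ℕ → ℕ → Bool) (c3 c4 : ℕ) : Bool :=
  frc (Nat.add (Nat.mul 6 c3) (Nat.mul 5 c4)) fun u2 => Nat.blt n u2 ||
  allLt (Nat.succ (Nat.div (Nat.sub n u2) 4)) fun c2 => frc (Nat.add u2 (Nat.mul 4 c2)) fun u3 =>
  allLt (Nat.succ (Nat.div (Nat.sub n u3) 4)) fun c5 => frc (Nat.add u3 (Nat.mul 4 c5)) fun u4 =>
  allLt (Nat.succ (Nat.div (Nat.sub n u4) 3)) fun c1 => frc (Nat.add u4 (Nat.mul 3 c1)) fun u5 =>
  allLt (Nat.succ (Nat.div (Nat.sub n u5) 3)) fun c6 => frc (Nat.add u5 (Nat.mul 3 c6)) fun u =>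
  frc (Nat.add (q6 c1 c2 c3 c4 c5 c6) (Nat.mul (Nat.pred m) (Nat.mul u u))) fun a =>
  frc (Nat.add (p6 c1 c2 c3 c4 c5 c6) (Nat.mul (Nat.mul 4 (Nat.pred m)) u)) fun b =>
  l7 n m T P c1 c2 c3 c4 c5 c6 u a b (Nat.add 8 (Nat.mul 4 (Nat.pred m)))
/-- a range of values of the two outer coordinates -/
def rng (n m T : ℕ) (P : ℕ → ℕ → ℕ → ℕ → ℕ → ℕ → ℕ → ℕ → Bool) (a l : ℕ) : Bool :=
  allLt l fun i => l2 n m T P (Nat.div (Nat.add a i) 16) (Nat.mod (Nat.add a i) 16)
/-- the table is correct -/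
def tabOK (n m T : ℕ) : Bool := allLt m fun D => allLt (Nat.succ n) fun u =>
  !Nat.beq (Nat.land (Nat.shiftRight T (Nat.add (Nat.mul D 128) u)) 1) 1 ||
    allLt (Nat.succ (Nat.div (Nat.sub n u) 2)) fun x =>
      !Nat.beq (Nat.mod (Nat.add (Nat.mul (Nat.add (Nat.mul 2 x) u) (Nat.add (Nat.mul 2 x) u)) D) m) 0
/-- the final test -/
def fin (p q : ℕ) (L : List ℕ) (c0 c1 c2 c3 c4 c5 c6 c7 : ℕ) : Bool :=
  (c0 % p == 0 && c1 % p == 0 && c2 % p == 0 && c3 % p == 0 && c4 % p == 0 && c5 % p == 0 && c6 % p == 0 && c7 % p == 0) ||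
  (c0 % q == 0 && c1 % q == 0 && c2 % q == 0 && c3 % q == 0 && c4 % q == 0 && c5 % q == 0 && c6 % q == 0 && c7 % q == 0) ||
  L.contains (c0 + 64 * (c1 + 64 * (c2 + 64 * (c3 + 64 * (c4 + 64 * (c5 + 64 * (c6 + 64 * c7)))))))

theorem frc_eq (n : ℕ) (f : ℕ → Bool) : frc n f = f n := by cases n <;> rfl

theorem bd {n u k x : ℕ} (k0 : 0 < k) (h : u + k * x ≤ n) : x < Nat.succ (Nat.div (Nat.sub n u) k) :=
  Nat.lt_succ_of_le ((Nat.le_div_iff_mul_le k0).2 (by rw [mul_comm]; exact Nat.le_sub_of_add_le' h))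

theorem nb {a : ℕ} (h : Nat.beq a 0 = false) (e : a = 0) : False := by subst e; cases h

theorem sound {n m T : ℕ} {P : ℕ → ℕ → ℕ → ℕ → ℕ → ℕ → ℕ → ℕ → Bool} (m0 : 0 < m) (hT : tabOK n m T = true)
    {c0 c1 c2 c3 c4 c5 c6 c7 : ℕ} (hl : l2 n m T P c3 c4 = true)
    (hc : 6 * c3 + 5 * c4 + 4 * c2 + 4 * c5 + 3 * c1 + 3 * c6 + 2 * c0 + 2 * c7 ≤ n)
    (hq : ∀ u, u = 6 * c3 + 5 * c4 + 4 * c2 + 4 * c5 + 3 * c1 + 3 * c6 →
      ((2 * c7 + (u + 2 * c0)) * (2 * c7 + (u + 2 * c0)) + ((q6 c1 c2 c3 c4 c5 c6 + (m - 1) * (u * u)) +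
        c0 * ((p6 c1 c2 c3 c4 c5 c6 + 4 * (m - 1) * u) + c0 * (8 + 4 * (m - 1))))) % m = 0)
    (ht : ∀ k, 0 < k → k < n → tst n (c0 * R0 + c1 * R1 + c2 * R2 + c3 * R3 + c4 * R4 + c5 * R5 + c6 * R6 + c7 * R7) k = true) :
    P c0 c1 c2 c3 c4 c5 c6 c7 = true := by
  simp only [l2, frc_eq, Bool.or_eq_true, allLt_iff, Nat.blt_eq] at hl
  have h1 := (hl.resolve_left (by show ¬ n < 6 * c3 + 5 * c4; omega)) c2
    (bd (by norm_num) (by show 6 * c3 + 5 * c4 + 4 * c2 ≤ n; omega)) c5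
    (bd (by norm_num) (by show 6 * c3 + 5 * c4 + 4 * c2 + 4 * c5 ≤ n; omega)) c1
    (bd (by norm_num) (by show 6 * c3 + 5 * c4 + 4 * c2 + 4 * c5 + 3 * c1 ≤ n; omega)) c6
    (bd (by norm_num) (by show 6 * c3 + 5 * c4 + 4 * c2 + 4 * c5 + 3 * c1 + 3 * c6 ≤ n; omega))
  have hq' := hq _ rfl
  change l7 n m T P c1 c2 c3 c4 c5 c6 (6 * c3 + 5 * c4 + 4 * c2 + 4 * c5 + 3 * c1 + 3 * c6) _ _ _ = true at h1
  generalize hu : 6 * c3 + 5 * c4 + 4 * c2 + 4 * c5 + 3 * c1 + 3 * c6 = u at hq' hc h1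
  simp only [l7, frc_eq, Bool.or_eq_true, allLt_iff] at h1
  have h2 := h1 c0 (bd (by norm_num) (by omega))
  rw [← Nat.add_mod_mod] at hq'
  have hx : c7 < Nat.succ (Nat.div (Nat.sub n (u + 2 * c0)) 2) := bd (by norm_num) hc
  subst hu
  rcases h2 with h2 | h2
  · simp only [tabOK, Bool.or_eq_true, allLt_iff, Bool.not_eq_true'] at hT
    have h3 := (hT _ (Nat.mod_lt _ m0) _ (Nat.lt_succ_of_le (le_trans (Nat.le_add_right _ _) hc))).resolve_left
      (fun e => Bool.false_ne_true (e.symm.trans h2)) c7 hx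
    exact (nb h3 hq').elim
  · simp only [l8, frc_eq, Bool.or_eq_true, allLt_iff, Bool.not_eq_true'] at h2
    rcases h2 c7 hx with h3 | h3 | h3
    · exact (nb h3 hq').elim
    · refine absurd ((allLt_iff _ _).2 fun k hk => ht _ (Nat.succ_pos k) ?_) (Bool.eq_false_iff.1 h3)
      exact Nat.succ_lt_of_lt_pred hk
    · exact h3

theorem land_step {a b : ℕ} (X Y : ℕ) (ha : a < 256) (hb : b < 256) :
    (a + 256 * X) &&& (b + 256 * Y) = (a &&& b) + 256 * (X &&& Y) := by
  rw [← Nat.mod_add_div ((a + 256 * X) &&& (b + 256 * Y)) (2 ^ 8), Nat.and_mod_two_pow, Nat.and_div_two_pow]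
  have e1 : (a + 256 * X) % 2 ^ 8 = a := by omega
  have e2 : (b + 256 * Y) % 2 ^ 8 = b := by omega
  have e3 : (a + 256 * X) / 2 ^ 8 = X := by omega
  have e4 : (b + 256 * Y) / 2 ^ 8 = Y := by omega
  rw [e1, e2, e3, e4]
  norm_num

theorem land128 : ∀ a < 256, a &&& 128 = 128 * if 128 ≤ a then 1 else 0 := by decide +kernel

theorem pk_succ (N : ℕ) (f : ℕ → ℕ) :
    ∑ j ∈ range (N + 1), f j * 256 ^ j = f 0 + 256 * ∑ j ∈ range N, f (j + 1) * 256 ^ j := by
  rw [sum_range_succ', mul_sum, pow_zero, mul_one, add_comm]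
  exact congrArg _ (sum_congr rfl fun j _ => by ring)

theorem land_pk (N : ℕ) (f : ℕ → ℕ) (hf : ∀ j < N, f j < 256) :
    (((∑ j ∈ range N, f j * 256 ^ j) &&& (∑ j ∈ range N, 128 * 256 ^ j) : ℕ) : ZMod 255) =
      128 * ((∑ j ∈ range N, (if 128 ≤ f j then 1 else 0) : ℕ) : ZMod 255) := by
  induction N generalizing f with
  | zero => simp
  | succ N ih =>
    rw [pk_succ, pk_succ N fun _ => 128, land_step _ _ (hf 0 (by omega)) (by norm_num), land128 _ (hf 0 (by omega)),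
      sum_range_succ', Nat.cast_add, Nat.cast_mul 256, ih _ fun j hj => hf _ (by omega)]
    have : ((256 : ℕ) : ZMod 255) = 1 := by decide
    rw [this]; push_cast; ring

theorem ON_eq : ON = ∑ j ∈ range 120, 256 ^ j := by decide +kernel
theorem HI_eq : HI = ∑ j ∈ range 120, 128 * 256 ^ j := by decide +kernel

/-- indicator -/
def I (k v : ℕ) : ℕ := if k ≤ v then 1 else 0

theorem ge_eq {v : ℕ → ℕ} (hv : ∀ j < 120, v j < 128) {k : ℕ} (hk : k ≤ 128) :
    ((ge (∑ j ∈ range 120, v j * 256 ^ j) k : ℕ) : ZMod 255) = 128 * ((∑ j ∈ range 120, I k (v j) : ℕ) : ZMod 255) := by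
  have e : Nat.add (∑ j ∈ range 120, v j * 256 ^ j) (Nat.mul (Nat.sub 128 k) ON) =
      ∑ j ∈ range 120, (v j + (128 - k)) * 256 ^ j := by
    show (∑ j ∈ range 120, v j * 256 ^ j) + (128 - k) * ON = _
    rw [ON_eq, mul_sum, ← sum_add_distrib]
    exact sum_congr rfl fun j _ => by ring
  unfold ge
  have e2 : ∑ j ∈ range 120, I k (v j) = ∑ j ∈ range 120, (if 128 ≤ v j + (128 - k) then 1 else 0) :=
    sum_congr rfl fun j _ => if_congr (by omega) rfl rfl
  rw [e, HI_eq, Nat.land_eq, land_pk 120 (fun j => v j + (128 - k)) fun j hj => by have := hv j hj; omega, e2]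

/-- indicator of a residue -/
def J (n l : ℕ) (x : ℤ) : ℕ := if x % n = l then 1 else 0

/-- the pointwise identity -/
def PW (n : ℕ) : Prop := ∀ k < n, 0 < k → ∀ v < n + 1,
  I k v + I (n - k) v + (I (2 * k % n + 1) v + I (n - 2 * k % n + 1) v) + (J n (2 * k % n) v + J n (2 * k % n) (-v)) =
  I (k + 1) v + I (n - k + 1) v + (I (2 * k % n) v + I (n - 2 * k % n) v) +
    (J n (2 * k % n) (2 * v) + J n (2 * k % n) (2 * -v))

theorem tst_of {n : ℕ} (hn : n < 128) (pw : PW n) {v : ℕ → ℕ} (hv : ∀ j < 120, v j ≤ n)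
    (key : ∀ l, ∑ j ∈ range 120, (J n l (v j) + J n l (-v j)) = ∑ j ∈ range 120, (J n l (2 * v j) + J n l (2 * -v j)))
    {k : ℕ} (k0 : 0 < k) (hk : k < n) : tst n (∑ j ∈ range 120, v j * 256 ^ j) k = true := by
  have hv' : ∀ j < 120, v j < 128 := fun j hj => (hv j hj).trans_lt hn
  have hl : 2 * k % n < n := Nat.mod_lt _ (by omega)
  have e := sum_congr (s₁ := range 120) rfl fun j hj => pw k hk k0 (v j) (Nat.lt_succ_of_le (hv j (mem_range.1 hj)))
  rw [sum_add_distrib, sum_add_distrib (g := fun j => J n _ (2 * v j) + J n _ (2 * -v j)), key, add_left_inj] at e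
  simp only [sum_add_distrib] at e
  unfold tst
  rw [frc_eq, Nat.beq_eq]
  refine (ZMod.natCast_eq_natCast_iff' _ _ 255).1 ?_
  show (((ge _ k + ge _ (n - k)) + (ge _ (2 * k % n + 1) + ge _ (n - 2 * k % n + 1)) : ℕ) : ZMod 255) =
    ((ge _ (k + 1) + ge _ (n - k + 1)) + (ge _ (2 * k % n) + ge _ (n - 2 * k % n)) : ℕ)
  simp only [Nat.cast_add]
  rw [ge_eq hv' (by omega), ge_eq hv' (by omega), ge_eq hv' (by omega), ge_eq hv' (by omega), ge_eq hv' (by omega),
    ge_eq hv' (by omega), ge_eq hv' (by omega), ge_eq hv' (by omega)]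
  simp only [← mul_add, ← Nat.cast_add, e]

/-- the packed coordinates -/
def Rr : Fin 8 → ℕ := ![R0, R1, R2, R3, R4, R5, R6, R7]
/-- the positive roots -/
def pos (j : Fin 120) : R8 := Fin.natAdd 120 j

theorem co_pos : ∀ (j : Fin 120) (i : Fin 8), co (pos j) i = (lk (Rr i) 8 255 j : ℕ) ∧ lk (Rr i) 8 255 j ≤ th8 i := by
  decide +kernel
theorem Rr_eq : ∀ i : Fin 8, Rr i = ∑ j ∈ range 120, lk (Rr i) 8 255 j * 256 ^ j := by decide +kernel

theorem split {M : Type*} [AddCommMonoid M] (f : R8 → M) : ∑ r, f r = ∑ j : Fin 120, (f (pos j) + f (ng (pos j))) := by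
  rw [sum_add_distrib, add_comm]
  refine (Fin.sum_univ_add (a := 120) (b := 120) f).trans (congrArg₂ _ ?_ rfl)
  rw [← Equiv.sum_comp Fin.revPerm]
  refine sum_congr rfl fun j _ => congrArg f (Fin.ext ?_)
  rw [ng_val']
  show 120 - (j.1 + 1) = 240 - 1 - (120 + j.1)
  omega

/-- the inverse Cartan matrix -/
def B : Fin 8 → Fin 8 → ℤ := ![![4, 5, 7, 10, 8, 6, 4, 2], ![5, 8, 10, 15, 12, 9, 6, 3], ![7, 10, 14, 20, 16, 12, 8, 4],
  ![10, 15, 20, 30, 24, 18, 12, 6], ![8, 12, 16, 24, 20, 15, 10, 5], ![6, 9, 12, 18, 15, 12, 8, 4],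
  ![4, 6, 8, 12, 10, 8, 6, 3], ![2, 3, 4, 6, 5, 4, 3, 2]]
/-- the norm -/
def Nm (u : Fin 8 → ℤ) : ℤ := ∑ i, ∑ k, B i k * (u i * u k)

theorem sum_co : ∀ i k : Fin 8, ∑ r : R8, co r i * co r k = 60 * B i k := by decide +kernel

theorem sum_sq (u : Fin 8 → ℤ) : ∑ r : R8, (∑ i : Fin 8, co r i * u i) ^ 2 = 60 * Nm u := by
  simp only [sq, Nm, mul_sum, ← mul_assoc (60 : ℤ), ← sum_co, sum_mul]
  rw [sum_comm]
  refine sum_congr rfl fun i _ => ?_
  rw [sum_comm]
  exact sum_congr rfl fun k _ => sum_congr rfl fun r _ => by ring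

theorem dvd_nm {n : ℕ} (c : Fin 8 → ℕ) (w : Equiv.Perm R8) (hw : w ∈ (rootSys chevE8).W)
    (h : ∀ r, 2 * val c (w r) ≡ val c r [ZMOD n]) : (n : ℤ) ∣ 3 * Nm fun i => c i := by
  let u : Fin 8 → ℤ := fun i => val c (w (sm (D := chevE8) i))
  have lin : ∀ r, val c (w r) = ∑ i : Fin 8, co r i * u i := fun r => by
    have e := RootSys.rt_W_eq_sum hw r
    simp only [rootSys_rt, rootSys_simple] at e
    simp only [u, val, e, Finset.sum_apply, Pi.smul_apply, smul_eq_mul, sum_mul, mul_sum, mul_assoc]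
    exact sum_comm
  have e1 : Nm u = Nm fun i => c i := by
    have := sum_sq u
    simp only [← lin] at this
    rw [Equiv.sum_comp w fun r => val c r ^ 2] at this
    have e2 := sum_sq fun i => (c i : ℤ)
    change ∑ r, val c r ^ 2 = _ at e2
    omega
  have e3 : ∀ i, ((c i : ℤ) : ZMod n) = 2 * (u i : ZMod n) := fun i => by
    have := (ZMod.intCast_eq_intCast_iff _ _ _).2 (h (sm (D := chevE8) i))
    have e4 : val c (sm (D := chevE8) i) = c i := by
      simp only [val, co_sm, Pi.single_apply, ite_mul, one_mul, zero_mul]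
      exact (sum_ite_eq' univ i fun j => (c j : ℤ)).trans (if_pos (mem_univ _))
    rw [e4] at this
    rw [← this]; push_cast; rfl
  have e5 : ((Nm fun i => c i : ℤ) : ZMod n) = 4 * (Nm u : ℤ) := by
    simp only [Nm, Int.cast_sum, Int.cast_mul, e3, mul_sum]
    exact sum_congr rfl fun i _ => sum_congr rfl fun k _ => by ring
  rw [← ZMod.intCast_zmod_eq_zero_iff_dvd, Int.cast_mul]
  rw [e1] at e5
  push_cast
  linear_combination -e5

theorem main {n m T : ℕ} {P : ℕ → ℕ → ℕ → ℕ → ℕ → ℕ → ℕ → ℕ → Bool} (hn : n < 80) (m0 : 0 < m)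
    (hm : ∀ x : ℤ, (n : ℤ) ∣ 3 * x → (m : ℤ) ∣ x) (pw : PW n) (hT : tabOK n m T = true)
    (hl : ∀ p < 176, 16 * (n / 6 + 1) ≤ p ∨ l2 n m T P (p / 16) (p % 16) = true) (c : Fin 8 → ℕ)
    (hn6 : n / 6 < 11) (hc : ∑ j, th8 j * c j ≤ n)
    (w : Equiv.Perm R8) (hw : w ∈ (rootSys chevE8).W) (h : ∀ r, 2 * val c (w r) ≡ val c r [ZMOD n]) :
    P (c 0) (c 1) (c 2) (c 3) (c 4) (c 5) (c 6) (c 7) = true := by
  have hc' : 6 * c 3 + 5 * c 4 + 4 * c 2 + 4 * c 5 + 3 * c 1 + 3 * c 6 + 2 * c 0 + 2 * c 7 ≤ n := by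
    simp only [Fin.sum_univ_eight] at hc
    change 2 * c 0 + 3 * c 1 + 4 * c 2 + 6 * c 3 + 5 * c 4 + 4 * c 5 + 3 * c 6 + 2 * c 7 ≤ n at hc
    omega
  have h2 := (hl (16 * c 3 + c 4) (by omega)).resolve_left (by omega)
  rw [show (16 * c 3 + c 4) / 16 = c 3 by omega, show (16 * c 3 + c 4) % 16 = c 4 by omega] at h2
  refine sound m0 hT h2 hc' (fun u hu => ?_) fun k k0 hk => ?_
  · obtain ⟨d, hd⟩ := hm _ (dvd_nm c w hw h)
    obtain ⟨m, rfl⟩ := Nat.exists_eq_succ_of_ne_zero m0.ne'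
    refine Nat.mod_eq_zero_of_dvd (Int.natCast_dvd_natCast.1 ⟨2 * d + (u + 2 * c 0) ^ 2, ?_⟩)
    simp only [Nm, Fin.sum_univ_eight, B] at hd
    simp only [q6, p6, Nat.add_eq, Nat.mul_eq, Nat.succ_sub_one, hu]
    simp at hd
    push_cast
    linear_combination 2 * hd
  · let v : ℕ → ℕ := fun j => ∑ i : Fin 8, lk (Rr i) 8 255 j * c i
    have hS : c 0 * R0 + c 1 * R1 + c 2 * R2 + c 3 * R3 + c 4 * R4 + c 5 * R5 + c 6 * R6 + c 7 * R7 =
        ∑ j ∈ range 120, v j * 256 ^ j := by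
      have : ∑ i : Fin 8, c i * Rr i = ∑ j ∈ range 120, v j * 256 ^ j := by
        rw [sum_congr rfl fun i _ => congrArg (c i * ·) (Rr_eq i)]
        simp only [v, mul_sum, sum_mul]
        rw [sum_comm]
        exact sum_congr rfl fun j _ => sum_congr rfl fun i _ => by ring
      rw [← this, Fin.sum_univ_eight]; rfl
    have hv : ∀ j : Fin 120, val c (pos j) = v j := fun j => by
      simp only [val, v, (co_pos j _).1]; push_cast; rfl
    have hv' : ∀ j : Fin 120, val c (ng (pos j)) = -v j := fun j => by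
      rw [← hv]; simp only [val, co_ng, Pi.neg_apply, neg_mul, sum_neg_distrib]
    rw [hS]
    refine tst_of (by omega) pw (fun j hj => le_trans (sum_le_sum fun i _ =>
      Nat.mul_le_mul_right _ (co_pos ⟨j, hj⟩ i).2) hc) (fun l => ?_) k0 hk
    have e1 := split fun r => J n l (val c r)
    have e2 := split fun r => J n l (2 * val c r)
    simp only [hv, hv'] at e1 e2
    rw [← Fin.sum_univ_eq_sum_range (fun j => J n l (v j) + J n l (-v j)),
      ← Fin.sum_univ_eq_sum_range (fun j => J n l (2 * v j) + J n l (2 * -v j)), ← e1, ← e2,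
      ← Equiv.sum_comp w fun r => J n l (2 * val c r)]
    exact sum_congr rfl fun r _ => by unfold J; rw [h r]

theorem rng_spec {n m T : ℕ} {P : ℕ → ℕ → ℕ → ℕ → ℕ → ℕ → ℕ → ℕ → Bool} {a l : ℕ} (h : rng n m T P a l = true)
    {p : ℕ} (h1 : a ≤ p) (h2 : p < a + l) : l2 n m T P (p / 16) (p % 16) = true := by
  obtain ⟨i, rfl⟩ := Nat.exists_eq_add_of_le h1
  exact (allLt_iff _ _).1 h i (by omega)

theorem fin_spec {p q : ℕ} {L : List ℕ} {c : Fin 8 → ℕ}
    (h : fin p q L (c 0) (c 1) (c 2) (c 3) (c 4) (c 5) (c 6) (c 7) = true) (hp : ¬ ∀ i, p ∣ c i) (hq : ¬ ∀ i, q ∣ c i) :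
    c 0 + 64 * (c 1 + 64 * (c 2 + 64 * (c 3 + 64 * (c 4 + 64 * (c 5 + 64 * (c 6 + 64 * c 7)))))) ∈ L := by
  simp only [fin, Bool.or_eq_true, Bool.and_eq_true, beq_iff_eq, List.contains_iff_mem, ← Nat.dvd_iff_mod_eq_zero] at h
  rcases h with (h | h) | h
  · exact absurd (fun i => by fin_cases i <;> simp [h]) hp
  · exact absurd (fun i => by fin_cases i <;> simp [h]) hq
  · exact h

theorem code_inj {c d : Fin 8 → ℕ} (hc : ∑ j, th8 j * c j ≤ 65) (hd : ∀ i, d i < 64)
    (h : c 0 + 64 * (c 1 + 64 * (c 2 + 64 * (c 3 + 64 * (c 4 + 64 * (c 5 + 64 * (c 6 + 64 * c 7)))))) =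
      d 0 + 64 * (d 1 + 64 * (d 2 + 64 * (d 3 + 64 * (d 4 + 64 * (d 5 + 64 * (d 6 + 64 * d 7))))))) : c = d := by
  simp only [Fin.sum_univ_eight] at hc
  change 2 * c 0 + 3 * c 1 + 4 * c 2 + 6 * c 3 + 5 * c 4 + 4 * c 5 + 3 * c 6 + 2 * c 7 ≤ 65 at hc
  have st : ∀ {a b x y : ℕ}, a < 64 → b < 64 → a + 64 * x = b + 64 * y → a = b ∧ x = y := fun _ _ _ => by omega
  obtain ⟨e0, h⟩ := st (by omega) (hd 0) h
  obtain ⟨e1, h⟩ := st (by omega) (hd 1) h
  obtain ⟨e2, h⟩ := st (by omega) (hd 2) h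
  obtain ⟨e3, h⟩ := st (by omega) (hd 3) h
  obtain ⟨e4, h⟩ := st (by omega) (hd 4) h
  obtain ⟨e5, h⟩ := st (by omega) (hd 5) h
  obtain ⟨e6, h⟩ := st (by omega) (hd 6) h
  funext i
  fin_cases i
  exacts [e0, e1, e2, e3, e4, e5, e6, h]

end CL.E82.En
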