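/-
`E₈(2)`, `L₂(64)`: torus action and Frobenius on the adjoint module.
-/
import Cfsg.Agent.KSG.E82.Defs

set_option autoImplicit false
set_option maxHeartbeats 200000
set_option backward.isDefEq.respectTransparency false

namespace CL.E82
open Module Function Finset CL.SL2Wt CL.Chev CL.AltE Cfsg.Lie
open Matrix hiding zpow_add zpow_mul zpow_sub one_zpow
open scoped MatrixGroups

theorem Lie0.gen {D : ChevalleyDatum} [Good D] {K : Type*} [Field K] (h : (stS D K).R3) (t : Fin D.rank → Kˣ)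
    (v : D.Idx → K) (i : D.Idx) : ((toEnd _ K).comp ((adj D K).comp (thetaS D K))) (h.torHom t) v i =
      Sum.elim (fun _ => (1 : K)) (fun r : Rt D => ((uchr t ((rootSys D).wt r) : Kˣ) : K)) i * v i := by
  change (adj D K (thetaS D K ((stS_R3 (D := D)).torHom t)) *ᵥ v) i = _
  rw [thetaS, ssLift_torHom, adj_torHom, mulVec_diagonal]

theorem tor_apply (t : Fin 8 → K2ˣ) (v : V8) (i : chevE8.Idx) :
    rG (tor8 t) v i = Sum.elim (fun _ => (1 : K2)) (fun r : R8 => (ch t r : K2)) i * v i := Lie0.gen (D := chevE8) alg.r3 t v i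

theorem tor_ee (t : Fin 8 → K2ˣ) (r : R8) : rG (tor8 t) (ee r) = (ch t r : K2) • ee r := by
  funext i
  rw [tor_apply, Pi.smul_apply, smul_eq_mul, ee, bas_root, Pi.single_apply]
  split_ifs with h
  · rw [h]; rfl
  · rw [mul_zero, mul_zero]

theorem ch_inj {t t' : Fin 8 → K2ˣ} (h : ∀ r, ch t r = ch t' r) : t = t' := by
  have e : ∀ x, uchr (t * t'⁻¹) x * uchr t' x = uchr t x := fun x => by rw [← uchr_mul, inv_mul_cancel_right]
  refine mul_inv_eq_one.1 ((w248 K2).faith _ fun i => ?_)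
  rw [w248_wt]
  by_cases hi : i.1 < chevE8.nroots
  · have e' : wtA chevE8 i = (rootSys chevE8).wt ⟨i.1, hi⟩ := funext fun j => by rw [rootSys_wt', wtA, if_pos hi]
    rw [e']
    exact mul_right_cancel ((e _).trans ((h _).trans (one_mul _).symm))
  · rw [show wtA chevE8 i = 0 from funext fun j => if_neg hi, uchr_zero]

theorem Fr_add (u v : V8) : Fr (u + v) = Fr u + Fr v := funext fun i => by
  simp only [Fr, Pi.add_apply, ← phi_apply, map_add]

theorem Fr_smul (c : K2) (v : V8) : Fr (c • v) = c ^ 2 • Fr v := funext fun i => by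
  simp only [Fr, Pi.smul_apply, smul_eq_mul, mul_pow]

theorem Fr_ee (r : R8) : Fr (ee r) = ee r := funext fun i => by
  simp only [Fr, ee, bas]; split_ifs <;> simp

theorem Fr_hh (r : R8) : Fr (hh r) = hh r := funext fun i => by
  rcases i with i | i
  · simp only [Fr, hh, hv, Sum.elim_inl, ← phi_apply, map_intCast]
  · simp [Fr, hh, hv]

theorem ind_Γ {P : Γ8 → Prop} (h1 : P 1) (hx : ∀ r c, P (XG r c)) (hm : ∀ a b, P a → P b → P (a * b)) (γ : Γ8) :
    P γ := by
  have hg := alg.mem γ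
  induction hg using Subgroup.closure_induction'' with
  | mem x hx' => obtain ⟨r, -, t, rfl⟩ := hx'; exact hx r t
  | inv_mem x hx' => obtain ⟨r, -, t, rfl⟩ := hx'; rw [← StData.x_neg]; exact hx r _
  | one => exact h1
  | mul x y _ _ ihx ihy => exact hm _ _ ihx ihy

theorem Fr_map (γ : Γ8) (v : V8) : Fr (rG γ v) = rG (sig γ) (Fr v) := by
  refine ind_Γ (P := fun γ => ∀ v, Fr (rG γ v) = rG (sig γ) (Fr v)) (fun v => ?_) (fun r c v => ?_) (fun a b ha hb v => ?_) γ v
  · rw [map_one, map_one, map_one]; rfl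
  · rw [alg.fe, rG_x, rG_x, ← xR_map]
    funext i
    have e : Fr v = phi ∘ v := funext fun j => (phi_apply _).symm
    rw [e, ← RingHom.map_mulVec, phi_apply]; rfl
  · rw [map_mul, map_mul, map_mul, End.mul_apply, End.mul_apply, ha, hb]

theorem Fr_rho (g : G8) (v : V8) : Fr (rho g v) = rho g (Fr v) := by
  rw [rho_apply, Fr_map, (psi_range _).1 ⟨g, rfl⟩]

theorem eq_sum (v : V8) : v = ∑ r : R8, v (Sum.inr r) • ee r + ∑ i : Fin 8, v (Sum.inl i) • hh (sm i) := by
  have e : ∀ i : Fin 8, hh (sm i) = Pi.single (Sum.inl i) 1 := fun i => funext fun j => by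
    rcases j with j | j
    · simp [hh, hv, cor_sm, Pi.single_apply]
    · simp [hh, hv]
  simp only [e, ee, bas_root]
  rw [add_comm]
  exact (pi_eq_sum_univ' v).trans (Fintype.sum_sum_type _)

theorem finrank_V8 : finrank K2 V8 = 248 := by
  rw [finrank_fintype_fun_eq_card]
  change Fintype.card (Fin 8 ⊕ Fin 240) = 248
  simp

end CL.E82
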