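/-
`E₈(2)`, `L₂(64)`: formulas for the Lie bracket.
-/
import Cfsg.Agent.KSG.E82.Lie0

set_option autoImplicit false
set_option backward.isDefEq.respectTransparency false

namespace CL.E82
open Module Function Finset CL.SL2Wt CL.Chev CL.AltE Cfsg.Lie
open Matrix hiding zpow_add zpow_mul zpow_sub one_zpow
open scoped MatrixGroups

/-! PROOFS: `br (ee r) = adE r`, `br (hh (sm i)) = adH i`; evaluate on the basis with `rG_x`, `xR_bas_self/ng/h/other`,
`xR_hv` (CHEV/CoreMat).  Table facts of `certE8` by `decide +kernel`: if `add r s < 240` then `M1 r s` is odd,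
`add r (add r s) ≥ 240`, `pairF r s = -1` (and conversely for s ≠ r, ng r); characteristic 2: `CharTwo`. -/

namespace L1

theorem len1 : ∀ r : R8, len r = 1 := by decide +kernel

theorem Asym (r s : R8) : A r s = A s r := by
  have := A_symm r s
  rw [len1, len1] at this
  simpa using this

theorem Abd {r s : R8} (h : s ≠ r) (h' : s ≠ ng r) : -1 ≤ A r s ∧ A r s ≤ 1 := by
  have := (A_mul_A r s h h').2
  rw [Asym s r] at this
  constructor <;> nlinarith

theorem A_add {r s u : R8} (h : co u = co r + co s) (k : R8) : A k u = A k r + A k s := by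
  rw [← cw_co, h, map_add, cw_co, cw_co]

theorem of_add {r s u : R8} (h : co u = co r + co s) : A r s = -1 ∧ s ≠ r ∧ s ≠ ng r := by
  have h1 := A_add h r
  have h2 := A_add h u
  have h3 := A_add h s
  rw [A_self] at h1 h2 h3
  rw [Asym u r, Asym u s] at h2
  rw [Asym s r] at h3
  have e : A r s = -1 := by omega
  refine ⟨e, ?_, ?_⟩ <;> rintro rfl
  · rw [A_self] at e; omega
  · rw [A_ng_right, A_self] at e; omega

theorem two (v : V8) : v + v = 0 := funext fun i => CharTwo.add_self_eq_zero (v i)
theorem neg' (v : V8) : -v = v := neg_eq_of_add_eq_zero_left (two v)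
theorem sub' (u v : V8) : u - v = u + v := by rw [sub_eq_add_neg, neg']

theorem x_add {r s u : R8} (h : co u = co r + co s) (t : K2) : rG (XG r t) (ee s) = ee s + t • ee u := by
  obtain ⟨e, h1, h2⟩ := of_add h
  have a1 := add_eq_of_co h
  have a2 : ¬ (Good.C chevE8).add r u < chevE8.nroots := fun k => by
    obtain ⟨k, hk⟩ := (add_lt_iff r u).1 k
    have := (of_add hk).1
    rw [A_add h, A_self, e] at this
    omega
  have a3 : (((Good.C chevE8).M1 r s : ℤ) : K2) = 1 := by
    rw [← N_eq_M1 h]
    rcases N_unit r s u h (fun m hm => by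
      have hm' : co s = co r + co m := by rw [hm]; abel
      have := A_add hm' r
      rw [(of_add hm').1, A_self, e] at this
      omega) with k | k <;> rw [k] <;> simp [CharTwo.neg_eq]
  rw [rG_x, xR_bas_other r s h1 h2, a1, if_pos u.2, if_neg a2, a3, one_mul, add_zero]

theorem x_zero {r s : R8} (h : 0 ≤ A r s) (t : K2) : rG (XG r t) (ee s) = ee s := by
  rw [rG_x]
  by_cases h1 : s = r
  · rw [h1, xR_bas_self]
  have h2 : s ≠ ng r := by rintro rfl; rw [A_ng_right, A_self] at h; omega
  rw [xR_bas_other r s h1 h2, if_neg, add_zero]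
  intro k
  obtain ⟨k, hk⟩ := (add_lt_iff r s).1 k
  have := (of_add hk).1
  omega

theorem x_ng (r : R8) (t : K2) : rG (XG r t) (ee (ng r)) = ee (ng r) + t • hh r + t ^ 2 • ee r := by
  rw [rG_x, xR_bas_ng, sub']

theorem x_hh (r s : R8) (t : K2) : rG (XG r t) (hh s) = hh s + ((A s r : K2) * t) • ee r := by
  rw [rG_x, xR_hv, sub']

theorem ee_inr (r s : R8) : ee r (Sum.inr s) = if s = r then 1 else 0 := by
  rw [ee, bas_inr]; simp only [Fin.ext_iff]
theorem ee_inl (r : R8) (i : Fin 8) : ee r (Sum.inl i) = 0 := bas_inl_of_lt r.2 i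
theorem hh_inr (r s : R8) : hh r (Sum.inr s) = 0 := rfl
theorem hh_sm (i j : Fin 8) : hh (sm (D := chevE8) i) (Sum.inl j) = if j = i then 1 else 0 := by
  show ((cor (sm (D := chevE8) i) j : ℤ) : K2) = _
  rw [cor_sm, Pi.single_apply]; split_ifs <;> simp

theorem adE_apply (r : R8) (v : V8) : adE r v = rG (XG r 1) v + v + v (Sum.inr (ng r)) • ee r := by
  rw [← sub' _ v]; rfl

theorem br_def (u : V8) : br u = ∑ r : R8, u (Sum.inr r) • adE r + ∑ i : Fin 8, u (Sum.inl i) • adH i := by
  simp only [br, LinearMap.add_apply, LinearMap.sum_apply, LinearMap.smulRight_apply, pr_apply]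

theorem adH_apply (i : Fin 8) (v : V8) (j : chevE8.Idx) :
    adH i v j = Sum.elim (fun _ => (0 : K2)) (fun s : R8 => (A (sm (D := chevE8) i) s : K2)) j * v j :=
  mulVec_diagonal _ v j

theorem adH_ee (i : Fin 8) (s : R8) : adH i (ee s) = (A (sm (D := chevE8) i) s : K2) • ee s := by
  funext j
  rw [adH_apply, Pi.smul_apply, smul_eq_mul]
  rcases j with j | j
  · rw [ee_inl, mul_zero, mul_zero]
  · rw [ee_inr]; split_ifs with h
    · rw [h]; rfl
    · rw [mul_zero, mul_zero]

theorem adH_cartan (i : Fin 8) {v : V8} (hv : ∀ s : R8, v (Sum.inr s) = 0) : adH i v = 0 := by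
  funext j
  rw [adH_apply]
  rcases j with j | j
  · exact zero_mul _
  · rw [hv, mul_zero]; rfl

theorem br_sm (i : Fin 8) : br (hh (sm (D := chevE8) i)) = adH i := by
  rw [br_def]
  simp only [hh_inr, hh_sm, zero_smul, sum_const_zero, zero_add, ite_smul, one_smul, sum_ite_eq', mem_univ, if_true]

/-- induction over the basis -/
theorem ind_V {P : V8 → Prop} (ha : ∀ u v, P u → P v → P (u + v)) (hs : ∀ (c : K2) v, P v → P (c • v))
    (he : ∀ r, P (ee r)) (hc : ∀ i : Fin 8, P (hh (sm (D := chevE8) i))) (v : V8) : P v := by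
  have h0 : P 0 := by simpa using hs 0 _ (hc 0)
  rw [eq_sum v]
  exact ha _ _ (sum_induction _ P ha h0 fun r _ => hs _ _ (he r)) (sum_induction _ P ha h0 fun i _ => hs _ _ (hc i))

theorem cast_sq (n : ℤ) : (n : K2) ^ 2 = n := map_intCast (frobenius K2 2) n

end L1
open L1

theorem br_ee (r : R8) : br (ee r) = adE r := by
  rw [br_def]
  simp only [ee_inr, ee_inl, zero_smul, sum_const_zero, add_zero, ite_smul, one_smul, sum_ite_eq', mem_univ, if_true]

theorem br_ee_ng (r : R8) : br (ee r) (ee (ng r)) = hh r := by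
  rw [br_ee, adE_apply, x_ng, ee_inr, if_pos rfl, one_pow, one_smul, one_smul]
  calc _ = hh r + (ee (ng r) + ee (ng r)) + (ee r + ee r) := by abel
    _ = _ := by rw [two, two, add_zero, add_zero]

theorem br_ee_add {r s u : R8} (h : co u = co r + co s) : br (ee r) (ee s) = ee u := by
  rw [br_ee, adE_apply, x_add h, ee_inr, if_neg (of_add h).2.2.symm, zero_smul, add_zero, one_smul, add_right_comm,
    two, zero_add]

theorem br_ee_zero {r s : R8} (h : 0 ≤ A r s) : br (ee r) (ee s) = 0 := by
  have h2 : ng r ≠ s := by rintro rfl; rw [A_ng_right, A_self] at h; omega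
  rw [br_ee, adE_apply, x_zero h, ee_inr, if_neg h2, zero_smul, add_zero, two]

/-- the three cases -/
theorem root_cases (r s : R8) : s = ng r ∨ (∃ u : R8, co u = co r + co s ∧ A r s = -1) ∨ 0 ≤ A r s := by
  by_cases h1 : s = ng r
  · exact Or.inl h1
  by_cases h2 : s = r
  · exact Or.inr (Or.inr (by rw [h2, A_self]; omega))
  by_cases h3 : A r s = -1
  · exact Or.inr (Or.inl ⟨rf r s, by rw [co_rf, h3, neg_smul, one_smul, sub_neg_eq_add, add_comm], h3⟩)
  · exact Or.inr (Or.inr (by have := (Abd h2 h1).1; omega))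

theorem br_ee_hh (r s : R8) : br (ee r) (hh s) = (A s r : K2) • ee r := by
  rw [br_ee, adE_apply, x_hh, hh_inr, zero_smul, add_zero, mul_one, add_right_comm, two, zero_add]

theorem br_ee_cartan (r : R8) {v : V8} (hv : ∀ s : R8, v (Sum.inr s) = 0) : br (ee r) v = lam r v • ee r := by
  conv_lhs => rw [eq_sum v]
  simp only [hv, zero_smul, sum_const_zero, zero_add, map_sum, map_smul, br_ee_hh, lam, sum_smul, smul_smul]

theorem br_cartan {u v : V8} (hu : ∀ s : R8, u (Sum.inr s) = 0) (hv : ∀ s : R8, v (Sum.inr s) = 0) : br u v = 0 := by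
  rw [br_def]
  simp only [hu, zero_smul, sum_const_zero, zero_add, LinearMap.sum_apply, LinearMap.smul_apply, adH_cartan _ hv,
    smul_zero]

theorem br_comm (u v : V8) : br u v = br v u := by
  induction u using ind_V with
  | ha a b h1 h2 => rw [map_add, map_add, LinearMap.add_apply, h1, h2]
  | hs c a h => rw [map_smul, map_smul, LinearMap.smul_apply, h]
  | he r =>
    induction v using ind_V with
    | ha a b h1 h2 => rw [map_add, map_add, LinearMap.add_apply, h1, h2]
    | hs c a h => rw [map_smul, map_smul, LinearMap.smul_apply, h]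
    | he s =>
      rcases root_cases r s with rfl | ⟨k, hk, -⟩ | h
      · have := br_ee_ng (ng r)
        rw [ng_ng] at this
        rw [this, br_ee_ng, hh, hh, hv_ng, neg']
      · rw [br_ee_add hk, br_ee_add (hk.trans (add_comm _ _))]
      · rw [br_ee_zero h, br_ee_zero (Asym r s ▸ h)]
    | hc i => rw [br_ee_hh, br_sm, adH_ee]
  | hc i =>
    induction v using ind_V with
    | ha a b h1 h2 => rw [map_add, map_add, LinearMap.add_apply, h1, h2]
    | hs c a h => rw [map_smul, map_smul, LinearMap.smul_apply, h]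
    | he s => rw [br_ee_hh, br_sm, adH_ee]
    | hc j => rw [br_cartan (hh_inr _) (hh_inr _), br_cartan (hh_inr _) (hh_inr _)]

theorem br_self (u : V8) : br u u = 0 := by
  induction u using ind_V with
  | ha a b h1 h2 =>
    rw [map_add, map_add, LinearMap.add_apply, LinearMap.add_apply, h1, h2, br_comm b a, zero_add, add_zero, two]
  | hs c a h => rw [map_smul, map_smul, LinearMap.smul_apply, h, smul_zero, smul_zero]
  | he r => exact br_ee_zero (by rw [A_self]; omega)
  | hc i => exact br_cartan (hh_inr _) (hh_inr _)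

/-- both sides are linear in `v`; check on the basis -/
theorem x_apply (r : R8) (c : K2) (v : V8) :
    rG (XG r c) v = v + c • br (ee r) v + (c ^ 2 * v (Sum.inr (ng r))) • ee r := by
  induction v using ind_V with
  | ha a b h1 h2 => rw [map_add, map_add, h1, h2, Pi.add_apply, mul_add, add_smul, smul_add]; abel
  | hs k a h =>
    rw [map_smul, map_smul, h, Pi.smul_apply, smul_add, smul_add, smul_comm k c, smul_smul k, smul_eq_mul,
      mul_left_comm]
  | he s =>
    rcases root_cases r s with rfl | ⟨k, hk, -⟩ | h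
    · rw [x_ng, br_ee_ng, ee_inr, if_pos rfl, mul_one]
    · rw [x_add hk, br_ee_add hk, ee_inr, if_neg (of_add hk).2.2.symm, mul_zero, zero_smul, add_zero]
    · have h2 : ng r ≠ s := by rintro rfl; rw [A_ng_right, A_self] at h; omega
      rw [x_zero h, br_ee_zero h, ee_inr, if_neg h2, mul_zero, zero_smul, smul_zero, add_zero, add_zero]
  | hc i => rw [x_hh, br_ee_hh, hh_inr, mul_zero, zero_smul, add_zero, smul_smul, mul_comm]

/-- expand `u` by `eq_sum`; `Fr (adE r v) = adE r (Fr v)` by `Fr_map`, `alg.fe` -/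
theorem br_Fr (u v : V8) : Fr (br u v) = br (Fr u) (Fr v) := by
  have F0 : Fr 0 = 0 := by funext i; simp [Fr]
  induction u using ind_V with
  | ha a b h1 h2 => rw [map_add, LinearMap.add_apply, Fr_add, Fr_add, h1, h2, map_add, LinearMap.add_apply]
  | hs c a h => rw [map_smul, LinearMap.smul_apply, Fr_smul, Fr_smul, h, map_smul, LinearMap.smul_apply]
  | he r =>
    induction v using ind_V with
    | ha a b h1 h2 => rw [map_add, Fr_add, Fr_add, h1, h2, map_add]
    | hs c a h => rw [map_smul, Fr_smul, Fr_smul, h, map_smul]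
    | he s =>
      rw [Fr_ee, Fr_ee]
      rcases root_cases r s with rfl | ⟨k, hk, -⟩ | h
      · rw [br_ee_ng, Fr_hh]
      · rw [br_ee_add hk, Fr_ee]
      · rw [br_ee_zero h, F0]
    | hc i => rw [Fr_ee, Fr_hh, br_ee_hh, Fr_smul, Fr_ee, cast_sq]
  | hc i =>
    induction v using ind_V with
    | ha a b h1 h2 => rw [map_add, Fr_add, Fr_add, h1, h2, map_add]
    | hs c a h => rw [map_smul, Fr_smul, Fr_smul, h, map_smul]
    | he s => rw [Fr_ee, Fr_hh, br_comm, br_ee_hh, Fr_smul, Fr_ee, cast_sq]
    | hc j => rw [Fr_hh, Fr_hh, br_cartan (hh_inr _) (hh_inr _), F0]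

end CL.E82
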