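/-
`E₈(2)`, `L₂(64)`: invariance of the bracket.
-/
import Cfsg.Agent.KSG.E82.Lie1

set_option autoImplicit false
set_option maxHeartbeats 200000
set_option backward.isDefEq.respectTransparency false

namespace CL.E82
open Module Function Finset CL.SL2Wt CL.Chev CL.AltE Cfsg.Lie
open Matrix hiding zpow_add zpow_mul zpow_sub one_zpow
open scoped MatrixGroups

namespace Lie2

theorem len1 : ∀ r : R8, len r = 1 := by decide +kernel

theorem long (r : R8) : (rootSys chevE8).Long r := fun k => by rw [rootSys_len, rootSys_len, len1, len1]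

theorem coef {a b c d : V8} (h : ∀ t : K2, t • a + t ^ 2 • b + t ^ 3 • c + t ^ 4 • d = 0) : a = 0 := by
  funext i
  have e : Polynomial.monomial 1 (a i) + Polynomial.monomial 2 (b i) + Polynomial.monomial 3 (c i) +
      Polynomial.monomial 4 (d i) = 0 := Polynomial.funext fun t => by
    have := congrFun (h t) i
    simp only [Pi.add_apply, Pi.smul_apply, smul_eq_mul, Pi.zero_apply] at this
    simp only [Polynomial.eval_add, Polynomial.eval_monomial, Polynomial.eval_zero]
    linear_combination this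
  simpa [Polynomial.coeff_monomial] using congrArg (Polynomial.coeff · 1) e

theorem ind {P : V8 → Prop} (h0 : P 0) (ha : ∀ u v, P u → P v → P (u + v)) (hs : ∀ (c : K2) u, P u → P (c • u))
    (h1 : ∀ r, P (ee r)) (h2 : ∀ r, P (hh r)) (v : V8) : P v := by
  rw [eq_sum v]
  exact ha _ _ (sum_induction _ P ha h0 fun r _ => hs _ _ (h1 r)) (sum_induction _ P ha h0 fun i _ => hs _ _ (h2 _))

theorem lin (x : End K2 V8) {u : V8} (h1 : ∀ s, x (br u (ee s)) = br (x u) (x (ee s)))
    (h2 : ∀ s, x (br u (hh s)) = br (x u) (x (hh s))) (v : V8) : x (br u v) = br (x u) (x v) :=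
  ind (P := fun v => x (br u v) = br (x u) (x v)) (by simp only [map_zero])
    (fun _ _ a b => by simp only [map_add, a, b]) (fun _ _ a => by simp only [map_smul, a]) h1 h2 v

theorem bil (x : End K2 V8) (h1 : ∀ r s, x (br (ee r) (ee s)) = br (x (ee r)) (x (ee s)))
    (h2 : ∀ r s, x (br (ee r) (hh s)) = br (x (ee r)) (x (hh s)))
    (h3 : ∀ r s, x (br (hh r) (hh s)) = br (x (hh r)) (x (hh s))) (u v : V8) : x (br u v) = br (x u) (x v) := by
  refine lin x (fun s => ?_) (fun s => ?_) v
  · rw [br_comm, lin x (h1 s) (h2 s), br_comm]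
  · rw [br_comm, lin x (fun r => by rw [br_comm, h2, br_comm]) (h3 s), br_comm]

theorem ee_ne {r s : R8} (h : r ≠ s) : ee r (Sum.inr s) = 0 := by
  rw [ee, bas_inr, if_neg fun e => h (Fin.ext e).symm]

theorem root {s r : R8} (h : r ≠ ng s) (c : K2) (v : V8) :
    rG (XG s c) (br (ee r) v) = br (rG (XG s c) (ee r)) (rG (XG s c) v) := by
  rw [x_apply s c (ee r), ee_ne h, mul_zero, zero_smul, add_zero]
  rcases root_cases s r with e | ⟨u, hu, hA⟩ | hA
  · exact absurd e h
  · obtain ⟨ε, hε, e⟩ := alg.good.A2_conj ((long s).a2P (long r) ((rootSys_pair s r).trans hA) hu)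
    obtain rfl : ε = 1 := hε.elim id fun e => e.trans (CharTwo.neg_eq 1)
    rw [br_ee_add hu, map_add, map_smul, LinearMap.add_apply, LinearMap.smul_apply]
    have e2 : ∀ t, rG (XG s c) (rG (XG r t) v) = rG (XG r t) (rG (XG u (c * t)) (rG (XG s c) v)) := fun t => by
      rw [← End.mul_apply, ← End.mul_apply, ← End.mul_apply, ← map_mul, ← map_mul, ← map_mul, ← one_mul c, ← e c t,
        one_mul, inv_mul_cancel_right]
    simp only [x_apply r, x_apply u, map_add, map_smul, Pi.add_apply, Pi.smul_apply, smul_eq_mul] at e2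
    generalize rG (XG s c) v = w at *
    refine sub_eq_zero.1 (coef
      (b := v (Sum.inr (ng r)) • rG (XG s c) (ee r) - (c ^ 2 * w (Sum.inr (ng u))) • ee u - c • br (ee r) (br (ee u) w) -
        w (Sum.inr (ng r)) • ee r)
      (c := -((c ^ 2 * w (Sum.inr (ng u))) • br (ee r) (ee u)) - (c * br (ee u) w (Sum.inr (ng r))) • ee r)
      (d := -((c ^ 2 * w (Sum.inr (ng u)) * ee u (Sum.inr (ng r))) • ee r)) fun t => ?_)
    linear_combination (norm := module) e2 t
  · rw [br_ee_zero hA, smul_zero, add_zero]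
    have e2 : ∀ t, rG (XG s c) (rG (XG r t) v) = rG (XG r t) (rG (XG s c) v) := fun t => by
      rw [← End.mul_apply, ← End.mul_apply, ← map_mul, ← map_mul,
        (stS chevE8 K2).comm_of_noComb ((long s).noComb ((rootSys_pair s r).symm ▸ hA))]
    simp only [x_apply r, map_add, map_smul] at e2
    generalize rG (XG s c) v = w at *
    refine sub_eq_zero.1 (coef (b := v (Sum.inr (ng r)) • rG (XG s c) (ee r) - w (Sum.inr (ng r)) • ee r) (c := 0) (d := 0)
      fun t => ?_)
    linear_combination (norm := module) e2 t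

theorem x_hh (s a : R8) (c : K2) : rG (XG s c) (hh a) = hh a + (c * (A a s : K2)) • ee s := by
  rw [x_apply, br_ee_hh, smul_smul, show hh a (Sum.inr (ng s)) = 0 from rfl, mul_zero, zero_smul, add_zero]

theorem hh0 (a b : R8) : br (hh a) (hh b) = 0 := br_cartan (fun _ => rfl) fun _ => rfl

theorem mixed (s a : R8) (c : K2) :
    rG (XG s c) (br (ee (ng s)) (hh a)) = br (rG (XG s c) (ee (ng s))) (rG (XG s c) (hh a)) := by
  have e : ee (ng s) (Sum.inr (ng s)) = 1 := by rw [ee, bas_inr, if_pos rfl]
  rw [br_ee_hh, map_smul, x_hh, x_apply, br_ee_ng, e]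
  simp only [map_add, map_smul, LinearMap.add_apply, LinearMap.smul_apply, br_ee_hh, br_comm (hh s) (ee s), hh0, br_self,
    br_comm (ee (ng s)) (ee s), br_ee_ng, A_ng_right, A_self, Int.cast_neg, CharTwo.neg_eq, Int.cast_ofNat,
    CharTwo.two_eq_zero]
  module

theorem cart (s a b : R8) (c : K2) :
    rG (XG s c) (br (hh a) (hh b)) = br (rG (XG s c) (hh a)) (rG (XG s c) (hh b)) := by
  rw [x_hh, x_hh]
  simp only [map_add, map_smul, LinearMap.add_apply, LinearMap.smul_apply, br_ee_hh, br_comm (hh a) (ee s), hh0, br_self,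
    map_zero]
  linear_combination (norm := module) (-(c * (A a s : K2) * (A b s : K2))) • (CharTwo.two_eq_zero (R := K2)) • ee s

theorem gen (s : R8) (c : K2) (u v : V8) : rG (XG s c) (br u v) = br (rG (XG s c) u) (rG (XG s c) v) := by
  refine bil _ (fun r r' => ?_) (fun r a => ?_) (fun a b => cart s a b c) u v
  · by_cases h : r = ng s
    · by_cases h' : r' = ng s
      · rw [h, h', br_self, br_self, map_zero]
      · rw [br_comm, root h', br_comm]
    · exact root h c _
  · by_cases h : r = ng s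
    · rw [h, mixed]
    · exact root h c _

end Lie2

theorem br_map (γ : Γ8) (u v : V8) : rG γ (br u v) = br (rG γ u) (rG γ v) := by
  refine ind_Γ (P := fun γ => ∀ u v, rG γ (br u v) = br (rG γ u) (rG γ v)) (fun u v => ?_)
    Lie2.gen (fun a b ha hb u v => ?_) γ u v
  · rw [map_one, End.one_apply, End.one_apply, End.one_apply]
  · rw [map_mul, End.mul_apply, End.mul_apply, End.mul_apply, hb, ha]

end CL.E82
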