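/-
`E₈(2)`, `L₂(64)`: the twisted Frobenius of a frame.
-/
import Cfsg.Agent.KSG.E82.Lie2

set_option autoImplicit false
set_option backward.isDefEq.respectTransparency false

namespace CL.E82
open Module Function Finset CL.SL2Wt CL.Chev CL.AltE Cfsg.Lie
open Matrix hiding zpow_add zpow_mul zpow_sub one_zpow
open scoped MatrixGroups

namespace Tw

theorem rG_mul (a b : Γ8) (v : V8) : rG (a * b) v = rG a (rG b v) := by rw [map_mul]; rfl

theorem rG_inv (a : Γ8) (v : V8) : rG a⁻¹ (rG a v) = v := by rw [← rG_mul, inv_mul_cancel, map_one]; rfl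

theorem rG_inv' (a : Γ8) (v : V8) : rG a (rG a⁻¹ v) = v := by rw [← rG_mul, mul_inv_cancel, map_one]; rfl

theorem rG_inj (a : Γ8) {u v : V8} (h : rG a u = rG a v) : u = v := by rw [← rG_inv a u, h, rG_inv]

theorem ee_inr (r s : R8) : ee r (Sum.inr s) = if s = r then 1 else 0 := by
  simp only [ee, bas_inr, Fin.val_inj]

theorem hh_inr (r s : R8) : hh r (Sum.inr s) = 0 := rfl

theorem ee_inl (r : R8) (i : Fin 8) : ee r (Sum.inl i) = 0 := bas_inl_of_lt r.2 i

/-- `lam` as a linear map -/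
noncomputable def lamL (r : R8) : V8 →ₗ[K2] K2 := ∑ i : Fin 8, (A (sm (D := chevE8) i) r : K2) • pr (Sum.inl i)

theorem lamL_apply (r : R8) (v : V8) : lamL r v = lam r v := by
  simp only [lamL, lam, LinearMap.sum_apply, LinearMap.smul_apply, pr_apply, smul_eq_mul, mul_comm]

theorem lam_ee (r s : R8) : lam r (ee s) = 0 := by simp only [lam, ee_inl, zero_mul, sum_const_zero]

theorem lam_hh (r s : R8) : lam r (hh s) = (A s r : K2) := by
  rw [A_eq_sum]
  push_cast
  rfl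

theorem lam_Fr (r : R8) (v : V8) : lam r (Fr v) = lam r v ^ 2 := by
  simp only [lam, Fr, ← phi_apply, map_sum, map_mul, map_intCast]

theorem A_W {w : Equiv.Perm R8} (hw : w ∈ (rootSys chevE8).W) (r s : R8) : A (w r) (w s) = A r s := by
  rw [← rootSys_pair, ← rootSys_pair, RootSys.W_pair hw]

theorem long (r : R8) : (rootSys chevE8).Long r := by
  revert r; unfold RootSys.Long; decide +kernel

theorem A_comm (r s : R8) : A r s = A s r := by
  rw [← rootSys_pair, ← rootSys_pair, (long r).pair_symm (long s)]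

theorem x_comm {r s : R8} (h : 0 ≤ A r s) (c d : K2) : XG r c * XG s d = XG s d * XG r c :=
  have k := (long r).noComb (s := s) (by rwa [rootSys_pair])
  (stS chevE8 K2).commute_of_not_isComb k.1 k.2 c d

theorem tor_x (t : Fin 8 → K2ˣ) {r : R8} (h : ch t r = 1) (c : K2) : Commute (XG r c) (tor8 t) := by
  have := alg.r3.torHom_conj' alg.good t r c
  rw [show uchr t ((rootSys chevE8).wt r) = 1 from h, Units.val_one, one_mul, mul_inv_eq_iff_eq_mul] at this
  exact this.symm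

theorem tor_cartan (t : Fin 8 → K2ˣ) {v : V8} (h : ∀ r, v (Sum.inr r) = 0) : rG (tor8 t) v = v := by
  funext i
  rw [tor_apply]
  rcases i with i | i
  · exact one_mul _
  · rw [h, mul_zero]

theorem gen_span {K V : Type*} [Field K] [AddCommGroup V] [Module K V] (B : V →ₗ[K] V →ₗ[K] V) {S : Set V}
    {C : Submodule K V} (h : ∀ a ∈ S, ∀ b ∈ S, B a b ∈ C) {u v : V}
    (hu : u ∈ Submodule.span K S) (hv : v ∈ Submodule.span K S) : B u v ∈ C := by
  have := Submodule.apply_mem_map₂ B hu hv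
  rw [Submodule.map₂_span_span] at this
  refine Submodule.span_le.2 ?_ this
  rintro _ ⟨a, ha, b, hb, rfl⟩
  exact h a ha b hb

theorem tor_comm (t t' : Fin 8 → K2ˣ) : Commute (tor8 t) (tor8 t') := by
  rw [commute_iff_eq, ← map_mul, ← map_mul, mul_comm]

theorem der_le {y : Γ8} {S : Set V8} {C N : Submodule K2 V8} (h : ∀ a ∈ S, ∀ b ∈ S, br a b ∈ C)
    (hN : N ≤ (Submodule.span K2 S).comap (rG y)) : der N ≤ C.comap (rG y) := by
  refine Submodule.span_le.2 ?_
  rintro _ ⟨u, hu, v, hv, rfl⟩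
  show rG y (br u v) ∈ C
  rw [br_map]
  exact gen_span br h (hN hu) (hN hv)

theorem four {a b : R8} (h : A a b = 0) {r s : R8} (hr : r = a ∨ r = ng a ∨ r = b ∨ r = ng b)
    (hs : s = a ∨ s = ng a ∨ s = b ∨ s = ng b) : (s = ng r ∨ 0 ≤ A r s) ∧ (A r s : K2) = 0 := by
  have h' : A b a = 0 := (A_comm _ _).trans h
  have t : (2 : K2) = 0 := CharTwo.two_eq_zero
  rcases hr with rfl | rfl | rfl | rfl <;> rcases hs with rfl | rfl | rfl | rfl <;>
    simp [A_self, A_ng_left, A_ng_right, ng_ng, h, h', t]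

end Tw

open Tw

variable {s : G8} {y m : Γ8} {w : Equiv.Perm R8} {t : Fin 8 → K2ˣ} (Φ : Frm s y m w t)
include Φ

/-- `twE_conj_iff`, `psi_range` -/
theorem Frm.exists_g {γ : Γ8} (h : m * sig γ * m⁻¹ = γ) : ∃ g : G8, y * psi g * y⁻¹ = γ := by
  obtain ⟨g, e⟩ := (psi_range (y⁻¹ * γ * y)).2 ((twE_conj_iff Φ.lang _).1 (by
    rw [show y * (y⁻¹ * γ * y) * y⁻¹ = γ by group]; exact h))
  exact ⟨g, by rw [e]; group⟩

/-- `Fr_map` -/
theorem Frm.fr (v : V8) : rG y (Fr v) = rG m (Fr (rG y v)) := by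
  rw [Fr_map, ← rG_mul, Φ.lang, inv_mul_cancel_right]

/-- coordinates of the twisted Frobenius (`eq_sum`, `me`, `mh`) -/
theorem Frm.fr_root (v : V8) (r : R8) : rG m (Fr v) (Sum.inr (w r)) = v (Sum.inr r) ^ 2 := by
  have : ∀ u : V8, rG m u (Sum.inr (w r)) = u (Sum.inr r) := fun u => by
    conv_lhs => rw [eq_sum u]
    simp only [map_add, map_sum, map_smul, Φ.me, Φ.mh, Pi.add_apply, Finset.sum_apply, Pi.smul_apply, ee_inr, hh_inr,
      smul_eq_mul, mul_zero, sum_const_zero, add_zero, w.injective.eq_iff, mul_ite, mul_one, sum_ite_eq, mem_univ,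
      if_true]
  exact this _

/-- A (w a) (w r) = A a r for w ∈ W; lam r (hh a) = A a r -/
theorem Frm.fr_lam (v : V8) (r : R8) : lam (w r) (rG m (Fr v)) = lam r v ^ 2 := by
  have : ∀ u : V8, lam (w r) (rG m u) = lam r u := fun u => by
    conv_lhs => rw [eq_sum u, ← lamL_apply]
    simp only [map_add, map_sum, map_smul, Φ.me, Φ.mh, lamL_apply, lam_ee, lam_hh, A_W Φ.acts.1, smul_eq_mul, mul_zero,
      sum_const_zero, zero_add]
    rfl
  rw [this, lam_Fr]

/-- `tor_apply` -/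
theorem Frm.fix_iff (v : V8) : rho s v = v ↔ ∀ r, ch t r ≠ 1 → rG y v (Sum.inr r) = 0 := by
  have e : rG y (rho s v) = rG (tor8 t) (rG y v) := by
    rw [rho_apply, ← rG_mul, ← rG_mul, ← Φ.conj, inv_mul_cancel_right]
  refine ⟨fun h r hr => ?_, fun h => rG_inj y ?_⟩
  · have := congrFun e (Sum.inr r)
    rw [h, tor_apply, Sum.elim_inr] at this
    by_contra k
    exact hr (Units.val_eq_one.1 (mul_right_cancel₀ k (this.symm.trans (one_mul _).symm)))
  · rw [e]
    funext i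
    rw [tor_apply]
    rcases i with i | i
    · exact one_mul _
    · by_cases k : ch t i = 1
      · rw [Sum.elim_inr, k, Units.val_one, one_mul]
      · rw [h i k, mul_zero]

/-- an element of the twisted finite group commuting with the torus element which moves a vector fixed by it -/
theorem Frm.exists_cent {γ : Γ8} (h : m * sig γ * m⁻¹ = γ) (hc : Commute γ (tor8 t))
    (hn : γ ∉ Subgroup.zpowers (tor8 t)) : ∃ g : G8, Commute g s ∧ g ∉ Subgroup.zpowers s ∧
      ∀ v, rG y (rho g v) = rG γ (rG y v) := by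
  obtain ⟨g, e⟩ := Φ.exists_g h
  refine ⟨g, psi_inj ((MulAut.conj y).injective ?_), fun ⟨k, hk⟩ => hn ⟨k, ?_⟩, fun v => ?_⟩
  · simp only [map_mul, MulAut.conj_apply, e, Φ.conj]
    exact hc
  · dsimp only at hk ⊢
    rw [← e, ← hk, ← Φ.conj, conj_zpow, map_zpow]
  · rw [rho_apply, ← rG_mul, ← rG_mul, ← e, inv_mul_cancel_right]

omit Φ in
/-- PROOF: g from t' (`twE_torHom_iff`, `alg.sc`); rG y v lies in the Cartan subalgebra, which the torus fixes. -/
theorem fixR (h : FrmR s) : ∃ g : G8, Commute g s ∧ g ∉ Subgroup.zpowers s ∧ ∀ v, rho s v = v → rho g v = v := by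
  obtain ⟨y, m, w, t, Φ, reg, t', h1, h2⟩ := h
  have k := (alg.twE_torHom_iff Φ.acts.acts t').2 (by rw [h1])
  rw [twE_apply] at k
  obtain ⟨g, a, b, c⟩ := Φ.exists_cent (γ := tor8 t') k (tor_comm t' t)
    (fun ⟨k, hk⟩ => h2 ⟨k, alg.sc ((map_zpow tor8 t k).trans hk)⟩)
  exact ⟨g, a, b, fun v hv => rG_inj y ((c v).trans (tor_cartan t' fun r => (Φ.fix_iff v).1 hv r (reg r)))⟩

omit Φ in
/-- PROOF: γ = x_α(1) x_β(1) (α = sm a, β = sm b; they commute; m σ(γ) m⁻¹ = γ by `acts`); it commutes with tor8 t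
(ch t α = ch t β = 1), moves e_{-α} which tor8 t fixes; U' = U.map (rG y) contains e_α, e_β and is closed under `br`
(`br_map`), so `x_apply` shows that γ stabilises U'. -/
theorem subA (h : FrmA s) (U : Submodule K2 V8) (h1 : ∀ v, rho s v = v → v ∈ U)
    (h2 : ∀ u ∈ U, ∀ v ∈ U, br u v ∈ U) : ∃ g : G8, Commute g s ∧ g ∉ Subgroup.zpowers s ∧
      ∀ v ∈ U, rho g v ∈ U := by
  obtain ⟨y, m, w, t, a, b, Φ, -, ab, wa, wb, hE⟩ := h
  have ca := (hE _).2 (.inl rfl)
  have cb := (hE _).2 (.inr (.inr (.inl rfl)))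
  generalize sm (D := chevE8) a = α at *
  generalize sm (D := chevE8) b = β at *
  have ba : A β α = 0 := (A_comm _ _).trans ab
  have ne : α ≠ β := fun e => by rw [e, A_self] at ab; omega
  obtain ⟨g, g1, g2, g3⟩ := Φ.exists_cent (γ := XG α 1 * XG β 1) (by
      rw [map_mul, alg.fe, alg.fe, map_one, ← conj_mul, Φ.acts.2, Φ.acts.2, wa, wb, x_comm ab.ge])
    ((tor_x t ca 1).mul_left (tor_x t cb 1)) (fun ⟨k, hk⟩ => by
      have e : rG (tor8 (t ^ k)) (ee (ng α)) = rG (XG α 1 * XG β 1) (ee (ng α)) := by rw [map_zpow]; exact hk ▸ rfl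
      have e1 : rG (XG β 1) (ee (ng α)) = ee (ng α) := by
        rw [x_apply, br_ee_zero (by rw [A_ng_right, ba]; rfl), ee_inr, if_neg fun e => ne (ng_injective e).symm]
        simp
      have := congrFun e (Sum.inr α)
      rw [tor_ee, rG_mul, e1, x_apply, br_ee_ng] at this
      simp [ee_inr, hh_inr, (ng_ne α).symm] at this)
  have st : ∀ r, ch t r = 1 → ∀ v ∈ U.map (rG y), rG (XG r 1) v ∈ U.map (rG y) := fun r hr v hv => by
    have m1 : rG y⁻¹ (ee r) ∈ U := h1 _ ((Φ.fix_iff _).2 fun r' hr' => by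
      rw [rG_inv', ee_inr, if_neg fun e : r' = r => hr' (e ▸ hr)])
    have m2 : ee r ∈ U.map (rG y) := ⟨_, m1, rG_inv' y _⟩
    rw [x_apply]
    refine add_mem (add_mem hv (Submodule.smul_mem _ _ ?_)) (Submodule.smul_mem _ _ m2)
    obtain ⟨u, hu, rfl⟩ := hv
    exact ⟨_, h2 _ m1 u hu, by rw [br_map, rG_inv']⟩
  refine ⟨g, g1, g2, fun v hv => ?_⟩
  obtain ⟨u, hu, e⟩ := st α ca _ (st β cb _ ⟨v, hv, rfl⟩)
  rw [← rG_mul, ← g3] at e
  exact rG_inj y e ▸ hu

omit Φ in
/-- PROOF: transport by rG y (`br_map`): C = Cartan + e_{±α}, e_{±β}; [C,C] ≤ C1 = span (h_α, h_β, e_{±α}, e_{±β});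
[C1,C1] ≤ C2 = span (h_α, h_β) since A α α = 2 = 0, A α β = 0; [C2,C2] = 0. -/
theorem solvA (h : FrmA s) (M : Submodule K2 V8) (hM : ∀ v ∈ M, rho s v = v) : der (der (der M)) = ⊥ := by
  obtain ⟨y, m, w, t, a, b, Φ, -, ab, -, -, hE⟩ := h
  have f := fun r s (hr : ch t r = 1) (hs : ch t s = 1) => four ab ((hE r).1 hr) ((hE s).1 hs)
  have s0 : M ≤ (Submodule.span K2 ({v | ∀ r, v (Sum.inr r) = 0} ∪ ee '' {r | ch t r = 1})).comap (rG y) := fun v hv => by
    have := (Φ.fix_iff v).1 (hM v hv)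
    rw [Submodule.mem_comap, eq_sum (rG y v)]
    refine add_mem (sum_mem fun r _ => ?_) (sum_mem fun i _ => Submodule.smul_mem _ _
      (Submodule.subset_span (.inl fun r => rfl)))
    by_cases k : ch t r = 1
    · exact Submodule.smul_mem _ _ (Submodule.subset_span (.inr ⟨r, k, rfl⟩))
    · rw [this r k, zero_smul]; exact zero_mem _
  have s1 := der_le (C := Submodule.span K2 (hh '' {r | ch t r = 1} ∪ ee '' {r | ch t r = 1})) (by
    rintro u (hu | ⟨r, hr, rfl⟩) v (hv | ⟨r', hr', rfl⟩)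
    · rw [br_cartan hu hv]; exact zero_mem _
    · rw [br_comm, br_ee_cartan r' hu]
      exact Submodule.smul_mem _ _ (Submodule.subset_span (.inr ⟨r', hr', rfl⟩))
    · rw [br_ee_cartan r hv]
      exact Submodule.smul_mem _ _ (Submodule.subset_span (.inr ⟨r, hr, rfl⟩))
    · rcases (f r r' hr hr').1 with rfl | k
      · rw [br_ee_ng]; exact Submodule.subset_span (.inl ⟨r, hr, rfl⟩)
      · rw [br_ee_zero k]; exact zero_mem _) s0
  have s2 := der_le (C := Submodule.span K2 {v | ∀ r, v (Sum.inr r) = 0}) (by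
    rintro _ (⟨r, hr, rfl⟩ | ⟨r, hr, rfl⟩) _ (⟨r', hr', rfl⟩ | ⟨r', hr', rfl⟩)
    · rw [br_cartan (hh_inr r) (hh_inr r')]; exact zero_mem _
    · rw [br_comm, br_ee_hh, (f r r' hr hr').2, zero_smul]; exact zero_mem _
    · rw [br_ee_hh, (f r' r hr' hr).2, zero_smul]; exact zero_mem _
    · rcases (f r r' hr hr').1 with rfl | k
      · rw [br_ee_ng]; exact Submodule.subset_span (hh_inr r)
      · rw [br_ee_zero k]; exact zero_mem _) s1
  have s3 := der_le (C := ⊥) (fun u hu v hv => br_cartan hu hv) s2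
  exact eq_bot_iff.2 fun v hv => rG_inj y ((s3 hv).trans (map_zero _).symm)

end CL.E82
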