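/-
`E₈(2)`, `L₂(64)`: a checker for the enumeration of Kac points conjugate to their squares.
-/
import Cfsg.Agent.KSG.E82.Defs

set_option autoImplicit false
set_option backward.isDefEq.respectTransparency false

namespace CL.E82.En0
open Finset CL.Chev CL.AltE Cfsg.Lie

/-- 240 digits one -/
def ON : ℕ := 0x10101010101010101010101010101010101010101010101010101010101010101010101010101010101010101010101010101010101010101010101010101010101010101010101010101010101010101010101010101010101010101010101010101010101010101010101010101010101010101010101010101010101010101010101010101010101010101010101010101010101010101010101010101010101010101010101010101010101010101010101010101010101010101010101010101010101010101010101010101010101010101010101010101010101010101010101010101010101010101010101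
/-- 120 digits one -/
def OL : ℕ := 0x10101010101010101010101010101010101010101010101010101010101010101010101010101010101010101010101010101010101010101010101010101010101010101010101010101010101010101010101010101010101010101010101010101010101010101010101010101010101010101010101
/-- the mask -/
def MK : ℕ := 0x808080808080808080808080808080808080808080808080808080808080808080808080808080808080808080808080808080808080808080808080808080808080808080808080808080808080808080808080808080808080808080808080808080808080808080808080808080808080808080808080808080808080808080808080808080808080808080808080808080808080808080808080808080808080808080808080808080808080808080808080808080808080808080808080808080808080808080808080808080808080808080808080808080808080808080808080808080808080808080808080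
/-- shift constants -/
def K1 : ℕ := 0x7f7f7f7f7f7f7f7f7f7f7f7f7f7f7f7f7f7f7f7f7f7f7f7f7f7f7f7f7f7f7f7f7f7f7f7f7f7f7f7f7f7f7f7f7f7f7f7f7f7f7f7f7f7f7f7f7f7f7f7f7f7f7f7f7f7f7f7f7f7f7f7f7f7f7f7f7f7f7f7f7f7f7f7f7f7f7f7f7f7f7f7f7f7f7f7f7f7f7f7f7f7f7f7f7f7f7f7f7f7f7f7f7f7f7f7f7f7f7f7f7f7f7f7f7f7f7f7f7f7f7f7f7f7f7f7f7f7f7f7f7f7f7f7f7f7f7f7f7f7f7f7f7f7f7f7f7f7f7f7f7f7f7f7f7f7f7f7f7f7f7f7f7f7f7f7f7f7f7f7f7f7f7f7f7f7f7f7f7f7f7f7f7f7f7f7f7f7f7f7f7f7f7f7f7f7f7f7f7f7f7f7f7f7f7f7f7f7f7f7f7f7f7f7f7f7f7f7f7f7f7f7f7f7f7f7f7f7f7f7f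
/-- shift constants -/
def K2 : ℕ := 0x7e7e7e7e7e7e7e7e7e7e7e7e7e7e7e7e7e7e7e7e7e7e7e7e7e7e7e7e7e7e7e7e7e7e7e7e7e7e7e7e7e7e7e7e7e7e7e7e7e7e7e7e7e7e7e7e7e7e7e7e7e7e7e7e7e7e7e7e7e7e7e7e7e7e7e7e7e7e7e7e7e7e7e7e7e7e7e7e7e7e7e7e7e7e7e7e7e7e7e7e7e7e7e7e7e7e7e7e7e7e7e7e7e7e7e7e7e7e7e7e7e7e7e7e7e7e7e7e7e7e7e7e7e7e7e7e7e7e7e7e7e7e7e7e7e7e7e7e7e7e7e7e7e7e7e7e7e7e7e7e7e7e7e7e7e7e7e7e7e7e7e7e7e7e7e7e7e7e7e7e7e7e7e7e7e7e7e7e7e7e7e7e7e7e7e7e7e7e7e7e7e7e7e7e7e7e7e7e7e7e7e7e7e7e7e7e7e7e7e7e7e7e7e7e7e7e7e7e7e7e7e7e7e7e7e7e7e7e7e7e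
/-- shift constants -/
def K3 : ℕ := 0x7d7d7d7d7d7d7d7d7d7d7d7d7d7d7d7d7d7d7d7d7d7d7d7d7d7d7d7d7d7d7d7d7d7d7d7d7d7d7d7d7d7d7d7d7d7d7d7d7d7d7d7d7d7d7d7d7d7d7d7d7d7d7d7d7d7d7d7d7d7d7d7d7d7d7d7d7d7d7d7d7d7d7d7d7d7d7d7d7d7d7d7d7d7d7d7d7d7d7d7d7d7d7d7d7d7d7d7d7d7d7d7d7d7d7d7d7d7d7d7d7d7d7d7d7d7d7d7d7d7d7d7d7d7d7d7d7d7d7d7d7d7d7d7d7d7d7d7d7d7d7d7d7d7d7d7d7d7d7d7d7d7d7d7d7d7d7d7d7d7d7d7d7d7d7d7d7d7d7d7d7d7d7d7d7d7d7d7d7d7d7d7d7d7d7d7d7d7d7d7d7d7d7d7d7d7d7d7d7d7d7d7d7d7d7d7d7d7d7d7d7d7d7d7d7d7d7d7d7d7d7d7d7d7d7d7d7d7d7d7d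
/-- a packed column -/
def C0 : ℕ := 0x20202020202020202020202020201010101010101010101010101010101010101010101010101010101010101010101010101010101010101010101010101010101010101010101010101010100fffffffffffffffffffffffffffffffffffffffffffffffffffffffffffffffffffffffffffffffffffffffffffffffffffffffffffffffffffffffffffffffffffffffffffffffffffffffffffffffffffffffffefefefefefefefefefefefefefefefefefefefefefefefefefefefefefefefefefefefefefefefefefefefefefefefefefefefefefefefefefefefefefefefefdfdfdfdfdfdfdfdfdfdfdfdfdfe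
/-- a packed column -/
def C1 : ℕ := 0x30303030303030202020202020203020202020202020202020202020202020202020202010101010101010101010101010101010101010101010101010101010101010101010100000000000000010101010101010101010101010101010101010100fffffffffffffffffffffffffffffffffffffffffffffffffffffffffffffffffffffffffffffffffffffefefefefefefefefefefefefefefefefefefefefefffffffffffffffefefefefefefefefefefefefefefefefefefefefefefefefefefefefefefefefefefefdfdfdfdfdfdfdfdfdfdfdfdfdfdfdfdfdfdfdfdfdfcfdfdfdfdfdfdfdfcfcfcfcfcfcfd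
/-- a packed column -/
def C2 : ℕ := 0x40404040404030403030303030303030303030303020202020202020202020202020202020202020202020202020202020202020202020201010101010101010101010101010101010101010100010101010101010101010101010101000000000000010101010100fffffffffffffffffffffffffffffffffffffffffffffffffffffffffffffefefefefefefffffffffffffefefefefefefefefefefefefefefefffefefefefefefefefefefefefefefefefefefefefefdfdfdfdfdfdfdfdfdfdfdfdfdfdfdfdfdfdfdfdfdfdfdfdfdfdfdfdfdfdfdfdfdfdfdfcfcfcfcfcfcfcfcfcfcfcfcfcfbfcfbfbfbfbfbfc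
/-- a packed column -/
def C3 : ℕ := 0x606060606050505050404040404050504040404040404040404030303030303030303030303030303030303030302020202020202020202020202020202020202020101010101010101010100000202020202020202020201010101010101010101000101010101000101010100fffffffffffffffffffffffffffffffffffffffffefefefefefffefefefefefffefefefefefefefefefefdfdfdfdfdfdfdfdfdfdfffffefefefefefefefefefefdfdfdfdfdfdfdfdfdfdfdfdfdfdfdfdfdfdfdfdfcfcfcfcfcfcfcfcfcfcfcfcfcfcfcfcfcfcfcfcfbfbfbfbfbfbfbfbfbfbfafafbfbfbfbfbfafafafaf9f9f9f9fa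
/-- a packed column -/
def C4 : ℕ := 0x50505050404040404040303030304040403030303040303030303030303020202020202030303030202020202020202020202020101010102020202020201010101010101010001010101000000020202020202010101010101010100010101010000010101010000010101010001010100fffffffffffffffffffffffffefefefefffefefefefffffefefefefffffefefefefffefefefefefefefefdfdfdfdfdfdfffffffefefefefffefefefefefefefefdfdfdfdfdfdfefefefefdfdfdfdfdfdfdfdfdfdfdfdfcfcfcfcfdfdfdfdfdfdfcfcfcfcfcfcfcfcfbfcfcfcfcfbfbfbfcfcfcfcfbfbfbfbfbfbfafafafb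
/-- a packed column -/
def C5 : ℕ := 0x40404030303030303030302020203030303020202030302020203020202020202010101030202020202020101010202020101010101010002020201010101010100010101000001010100000000020202010101010101000101010000010101000000010101000000010101000001010100010100fffffffffffffefefefffefefefffffefefefffffffefefefffffffefefefffffefefefffefefefefefefdfdfdfffffffffefefefffffefefefffefefefefefefdfdfdfffefefefefefefdfdfdfefefefdfdfdfdfdfdfcfefefefdfdfdfdfdfdfcfdfdfdfcfcfdfdfdfcfcfcfcfdfdfdfcfcfcfcfcfcfcfcfbfbfc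
/-- a packed column -/
def C6 : ℕ := 0x303020202020202020202020101020202020201010202020101020201010201010101000202010102010101010002010101010001010000020101010100010100000101000000010100000000000201010101000101000001010000000101000000000101000000000101000000010100000101000100fffffefefffefefffffefefffffffefefffffffffefefffffffffefefffffffefefffffefefffefefefefdfffffffffffefefffffffefefffffefefffefefefefdfffffefefffefefefefdfffefefefefdfefefdfdfffefefefefdfefefdfdfefefdfdfdfefefdfdfdfdfdfefefdfdfdfdfdfdfdfdfdfdfcfd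
/-- a packed column -/
def C7 : ℕ := 0x20101010101010101010101010001010101010100010101010001010100010100010000010101000101000100000101000100000100000001010001000001000000010000000001000000000000010100010000010000000100000000010000000000010000000000010000000001000000010000010000fefffefffffefffffffefffffffffefffffffffffefffffffffffefffffffffefffffffefffffefffefefffffffffffffefffffffffefffffffefffffefffefefffffffefffffefffefefffffefffefefffefefefffffefffefefffefefefffefefefefffefefefefefefffefefefefefefefefefefefefe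
/-- the packed columns -/
def CC : Fin 8 → ℕ := ![C0, C1, C2, C3, C4, C5, C6, C7]

/-- the digits that are at least `k` -/
def XX (S k : ℕ) : ℕ := Nat.land (Nat.add S (Nat.mul (Nat.sub 128 k) ON)) MK
/-- the first test -/
def t1 (S : ℕ) : Bool := Nat.beq (Nat.mod (Nat.add (Nat.land (Nat.add S K1) MK) (Nat.land (Nat.add S K3) MK)) 255)
  (Nat.mod (Nat.mul 2 (Nat.land (Nat.add S K2) MK)) 255)
/-- the general test -/
def tt (S k l : ℕ) : Bool := Nat.beq (Nat.mod (Nat.add (XX S k) (XX S (Nat.succ l))) 255)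
  (Nat.mod (Nat.add (XX S l) (XX S (Nat.succ k))) 255)
/-- all tests -/
noncomputable def ta (n S : ℕ) : Bool := allLt 30 fun i => tt S (Nat.sub 31 i) (Nat.mod (Nat.mul 2 (Nat.sub 31 i)) n)
/-- the coordinates -/
def dg (S : ℕ) (j : Fin 8) : ℕ := S / 256 ^ (![162, 141, 135, 130, 126, 123, 121, 120] j) % 256
/-- lazy implication -/
noncomputable def cb (a b c : Bool) : Bool := Bool.rec true (Bool.rec true c b) a
/-- the leaf test -/
noncomputable def PP (n : ℕ) (F : (Fin 8 → ℕ) → Bool) (S : ℕ) : Bool := cb (t1 S) (ta n S) (F (dg S))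
/-- the enumeration below the first two coordinates -/
noncomputable def GG (n : ℕ) (F : (Fin 8 → ℕ) → Bool) (t : ℕ) : Bool :=
  Bool.rec (alcAll [(4, C2), (6, C3), (5, C4), (4, C5), (3, C6), (2, C7)] (PP n F) (n - 2 * (t / 32) - 3 * (t % 32))
    (n * OL + t / 32 * C0 + t % 32 * C1)) true (Nat.blt n (2 * (t / 32) + 3 * (t % 32)))
/-- a range of first coordinates -/
noncomputable def RR (n : ℕ) (F : (Fin 8 → ℕ) → Bool) (lo len : ℕ) : Bool := allLt len fun i => GG n F (lo + i)

theorem land_step {x y u v : ℕ} (hx : x < 256) (hu : u < 256) :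
    (256 * y + x) &&& (256 * v + u) = 256 * (y &&& v) + (x &&& u) := by
  have hxu : x &&& u < 2 ^ 8 := lt_of_le_of_lt Nat.and_le_left hx
  apply Nat.eq_of_testBit_eq
  intro j
  rw [Nat.testBit_and, show 256 = 2 ^ 8 from rfl, Nat.testBit_two_pow_mul_add _ (show x < 2 ^ 8 from hx),
    Nat.testBit_two_pow_mul_add _ (show u < 2 ^ 8 from hu), Nat.testBit_two_pow_mul_add _ hxu]
  split_ifs <;> rw [Nat.testBit_and]

theorem land_top : ∀ x < 256, x &&& 128 = if 128 ≤ x then 128 else 0 := by decide +kernel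

theorem land_sum (N : ℕ) (a : ℕ → ℕ) (h : ∀ i < N, a i < 256) :
    (∑ i ∈ range N, a i * 256 ^ i) &&& (∑ i ∈ range N, 128 * 256 ^ i) ≡
      ∑ i ∈ range N, if 128 ≤ a i then 128 else 0 [MOD 255] := by
  induction N generalizing a with
  | zero => simp [Nat.ModEq]
  | succ N ih =>
    have e : ∀ b : ℕ → ℕ, ∑ i ∈ range (N + 1), b i * 256 ^ i = 256 * ∑ i ∈ range N, b (i + 1) * 256 ^ i + b 0 := by
      intro b
      rw [sum_range_succ', mul_sum, pow_zero, mul_one]
      congr 1
      exact sum_congr rfl fun i _ => by ring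
    rw [e a, e fun _ => 128, land_step (h 0 (by omega)) (by norm_num), land_top _ (h 0 (by omega)), sum_range_succ']
    refine Nat.ModEq.add_right _ ?_
    have := (show 256 ≡ 1 [MOD 255] from rfl).mul (ih (fun i => a (i + 1)) fun i hi => h _ (by omega))
    rwa [one_mul] at this

theorem ON_eq : ON = ∑ i ∈ range 240, 256 ^ i := by decide +kernel
theorem OL_eq : OL = ∑ i ∈ range 240, if i < 120 then 256 ^ i else 0 := by decide +kernel
theorem MK_eq : MK = ∑ i ∈ range 240, 128 * 256 ^ i := by decide +kernel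

theorem XX_eq (a : ℕ → ℕ) (h : ∀ i < 240, a i < 128) {k : ℕ} (hk : k ≤ 128) :
    XX (∑ i ∈ range 240, a i * 256 ^ i) k ≡ ∑ i ∈ range 240, if k ≤ a i then 128 else 0 [MOD 255] := by
  have e : XX (∑ i ∈ range 240, a i * 256 ^ i) k =
      (∑ i ∈ range 240, (a i + (128 - k)) * 256 ^ i) &&& (∑ i ∈ range 240, 128 * 256 ^ i) := by
    change (_ + (128 - k) * ON) &&& MK = _
    rw [ON_eq, MK_eq, mul_sum, ← sum_add_distrib]
    simp only [add_mul]
  rw [e]
  refine (land_sum 240 _ fun i hi => by have := h i hi; omega).trans ?_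
  rw [sum_congr rfl fun i _ => if_congr (show 128 ≤ a i + (128 - k) ↔ k ≤ a i by omega) rfl rfl]

theorem tt_true (a : ℕ → ℕ) (h : ∀ i < 240, a i < 128) {k l : ℕ} (hk : k < 128) (hl : l < 128)
    (e : ∑ i ∈ range 240, (if a i = k then 128 else 0) = ∑ i ∈ range 240, if a i = l then 128 else 0) :
    tt (∑ i ∈ range 240, a i * 256 ^ i) k l = true := by
  have s : ∀ k, ∑ i ∈ range 240, (if k ≤ a i then 128 else 0) =
      (∑ i ∈ range 240, if k + 1 ≤ a i then 128 else 0) + ∑ i ∈ range 240, if a i = k then 128 else 0 := by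
    intro k
    rw [← sum_add_distrib]
    exact sum_congr rfl fun i _ => by split_ifs <;> omega
  have b : ∀ x y : ℕ, x ≡ y [MOD 255] → Nat.beq (Nat.mod x 255) (Nat.mod y 255) = true :=
    fun x y h => Nat.beq_eq ▸ h
  refine b _ _ ?_
  change _ + _ ≡ _ + _ [MOD 255]
  refine ((XX_eq a h hk.le).add (XX_eq a h (k := l + 1) hl)).trans
    (Nat.ModEq.trans ?_ ((XX_eq a h hl.le).add (XX_eq a h (k := k + 1) hk)).symm)
  rw [s k, s l, e]
  rw [add_right_comm, add_right_comm (∑ i ∈ range 240, if l + 1 ≤ a i then 128 else 0),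
    add_comm (∑ i ∈ range 240, if l + 1 ≤ a i then 128 else 0)]

theorem t1_eq (S : ℕ) : t1 S = tt S 1 2 := by
  have h1 : K1 = (128 - 1) * ON := by decide +kernel
  have h2 : K2 = (128 - 2) * ON := by decide +kernel
  have h3 : K3 = (128 - 3) * ON := by decide +kernel
  unfold t1 tt XX
  rw [h1, h2, h3, show ∀ x, Nat.mul 2 x = Nat.add x x from fun x => two_mul x]
  rfl

theorem CC_eq : ∀ j : Fin 8, (CC j : ℤ) = ∑ i ∈ range 240, coN chevE8 i j * 256 ^ i := by decide +kernel
theorem co_bd : ∀ i < 240, ∀ j : Fin 8, (if i < 120 then -(th8 j : ℤ) else 0) ≤ coN chevE8 i j ∧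
    coN chevE8 i j ≤ if i < 120 then 0 else (th8 j : ℤ) := by decide +kernel
theorem co_sm : ∀ j k : Fin 8, coN chevE8 (![162, 141, 135, 130, 126, 123, 121, 120] j) k = if k = j then 1 else 0 := by
  decide +kernel

/-- the value of a root, normalised -/
def av (n : ℕ) (c : Fin 8 → ℕ) (i : ℕ) : ℤ := (if i < 120 then (n : ℤ) else 0) + ∑ j : Fin 8, coN chevE8 i j * c j

theorem av_bd {n : ℕ} {c : Fin 8 → ℕ} (hc : ∑ j, th8 j * c j ≤ n) {i : ℕ} (hi : i < 240) :
    0 ≤ av n c i ∧ av n c i ≤ n := by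
  have h0 : ∑ j, (th8 j : ℤ) * c j ≤ n := by exact_mod_cast hc
  have h1 : ∑ j : Fin 8, (if i < 120 then -(th8 j : ℤ) else 0) * c j ≤ ∑ j : Fin 8, coN chevE8 i j * c j :=
    sum_le_sum fun j _ => mul_le_mul_of_nonneg_right (co_bd i hi j).1 (Int.natCast_nonneg _)
  have h2 : ∑ j : Fin 8, coN chevE8 i j * c j ≤ ∑ j : Fin 8, (if i < 120 then 0 else (th8 j : ℤ)) * c j :=
    sum_le_sum fun j _ => mul_le_mul_of_nonneg_right (co_bd i hi j).2 (Int.natCast_nonneg _)
  unfold av
  by_cases h : i < 120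
  · simp only [h, if_true, neg_mul, sum_neg_distrib, zero_mul, sum_const_zero] at h1 h2 ⊢
    omega
  · simp only [h, if_false, zero_mul, sum_const_zero] at h1 h2 ⊢
    omega

theorem pack {n : ℕ} {c : Fin 8 → ℕ} (hc : ∑ j, th8 j * c j ≤ n) :
    n * OL + ∑ j, c j * CC j = ∑ i ∈ range 240, (av n c i).toNat * 256 ^ i := by
  have e1 : ∑ i ∈ range 240, ((av n c i).toNat : ℤ) * 256 ^ i = ∑ i ∈ range 240, av n c i * 256 ^ i :=
    sum_congr rfl fun i hi => by rw [Int.toNat_of_nonneg (av_bd hc (mem_range.1 hi)).1]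
  have e2 : (n : ℤ) * (OL : ℕ) = ∑ i ∈ range 240, (if i < 120 then (n : ℤ) else 0) * 256 ^ i := by
    rw [OL_eq, Nat.cast_sum, mul_sum]
    exact sum_congr rfl fun i _ => by split_ifs <;> simp
  have e3 : ∑ j, (c j : ℤ) * CC j = ∑ i ∈ range 240, (∑ j : Fin 8, coN chevE8 i j * c j) * 256 ^ i := by
    simp only [CC_eq, mul_sum, sum_mul]
    rw [sum_comm]
    exact sum_congr rfl fun i _ => sum_congr rfl fun j _ => by ring
  apply Int.natCast_inj.1
  simp only [Nat.cast_add, Nat.cast_sum, Nat.cast_mul, Nat.cast_pow, Nat.cast_ofNat]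
  rw [e1, e2, e3, ← sum_add_distrib]
  exact sum_congr rfl fun i _ => by rw [av, add_mul]

theorem cnt {n : ℕ} (ho : Odd n) {c : Fin 8 → ℕ} (hc : ∑ j, th8 j * c j ≤ n) (w : Equiv.Perm R8)
    (h : ∀ r, 2 * val c (w r) ≡ val c r [ZMOD n]) {k : ℕ} (k0 : 0 < k) (kn : k < n) :
    ∑ i ∈ range 240, (if (av n c i).toNat = k then 128 else 0) =
      ∑ i ∈ range 240, if (av n c i).toNat = 2 * k % n then 128 else 0 := by
  have cop : IsCoprime (n : ℤ) 2 := by
    obtain ⟨m, rfl⟩ := ho
    exact ⟨1, -m, by push_cast; ring⟩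
  have key : ∀ (r : R8) {l : ℕ}, 0 < l → l < n → ((av n c r).toNat = l ↔ val c r ≡ l [ZMOD n]) := by
    intro r l l0 ln
    obtain ⟨b0, b1⟩ := av_bd hc (i := r) r.2
    have e : av n c r ≡ val c r [ZMOD n] := by
      change _ + val c r ≡ _ [ZMOD n]
      split_ifs
      · simp
      · simp
    constructor
    · intro e1
      rw [← e1, Int.toNat_of_nonneg b0]; exact e.symm
    · intro e1
      obtain ⟨q, hq⟩ := (e.trans e1).dvd
      have : q = 0 := by
        by_contra q0
        rcases lt_or_gt_of_ne q0 with q1 | q1 <;> nlinarith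
      subst this
      omega
  have l0 : 0 < 2 * k % n := by
    refine Nat.pos_of_ne_zero fun e => ?_
    have h1 : (n : ℤ) ∣ 2 * k := by exact_mod_cast Nat.dvd_of_mod_eq_zero e
    have h2 : n ∣ k := by exact_mod_cast cop.dvd_of_dvd_mul_left h1
    exact absurd (Nat.le_of_dvd k0 h2) (by omega)
  rw [← Fin.sum_univ_eq_sum_range (fun i => if (av n c i).toNat = k then 128 else 0),
    ← Fin.sum_univ_eq_sum_range (fun i => if (av n c i).toNat = 2 * k % n then 128 else 0)]
  symm
  refine Fintype.sum_equiv (show Fin 240 ≃ Fin 240 from w) _ _ fun r => if_congr ?_ rfl rfl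
  refine (key r l0 (Nat.mod_lt _ (by omega))).trans (Iff.trans ?_ (key (w r) k0 kn).symm)
  have e2 : ((2 * k % n : ℕ) : ℤ) ≡ 2 * k [ZMOD n] := by push_cast; exact Int.mod_modEq _ _
  constructor
  · intro e
    have := (((h r).trans e).trans e2).dvd
    rw [← mul_sub] at this
    exact Int.modEq_iff_dvd.2 (cop.dvd_of_dvd_mul_left this)
  · intro e
    exact ((h r).symm.trans (e.mul_left 2)).trans e2.symm

theorem RR_add {n : ℕ} {F : (Fin 8 → ℕ) → Bool} {a b : ℕ} (h1 : ∀ t < a, GG n F t = true)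
    (h2 : RR n F a b = true) : ∀ t < a + b, GG n F t = true := by
  intro t ht
  by_cases h : t < a
  · exact h1 t h
  · have := (allLt_iff _ _).1 h2 (t - a) (by omega)
    rwa [show a + (t - a) = t by omega] at this

theorem GG_eq {n : ℕ} {F : (Fin 8 → ℕ) → Bool} {a b : ℕ} (h : 2 * a + 3 * b ≤ n) (hb : b < 32) :
    GG n F (32 * a + b) = alcAll (List.ofFn fun j : Fin 6 => (th8 j.succ.succ, CC j.succ.succ)) (PP n F)
      (n - 2 * a - 3 * b) (n * OL + a * CC 0 + b * CC 1) := by
  have e : (List.ofFn fun j : Fin 6 => (th8 j.succ.succ, CC j.succ.succ)) =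
      [(4, C2), (6, C3), (5, C4), (4, C5), (3, C6), (2, C7)] := rfl
  have e0 : CC 0 = C0 := rfl
  have e1 : CC 1 = C1 := rfl
  unfold GG
  rw [e, e0, e1, show (32 * a + b) / 32 = a by omega, show (32 * a + b) % 32 = b by omega,
    show Nat.blt n (2 * a + 3 * b) = false from by
      rw [Bool.eq_false_iff]; intro e; rw [Nat.blt_eq] at e; omega]

theorem PP_eq {n S : ℕ} {F : (Fin 8 → ℕ) → Bool} (h1 : t1 S = true) (h2 : ta n S = true) : PP n F S = F (dg S) := by
  have e : ∀ a b c, a = true → b = true → cb a b c = c := by rintro a b c rfl rfl; rfl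
  exact e _ _ _ h1 h2

theorem sum8 (f : Fin 8 → ℕ) : ∑ j, f j = f 0 + f 1 + ∑ j : Fin 6, f j.succ.succ := by
  rw [Fin.sum_univ_succ, Fin.sum_univ_succ, add_assoc]; rfl

/-- soundness of the enumeration -/
theorem sound {n : ℕ} (ho : Odd n) (h1 : 31 < n) (h2 : n < 96) {F : (Fin 8 → ℕ) → Bool}
    (H : ∀ t < 32 * (n / 2 + 1), GG n F t = true) (c : Fin 8 → ℕ) (hc : ∑ j, th8 j * c j ≤ n) (w : Equiv.Perm R8)
    (h : ∀ r, 2 * val c (w r) ≡ val c r [ZMOD n]) : F c = true := by
  have hc' := hc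
  rw [sum8] at hc'
  change 2 * c 0 + 3 * c 1 + _ ≤ n at hc'
  have g := H (32 * c 0 + c 1) (by omega)
  rw [GG_eq (by omega) (by omega)] at g
  have g2 := alcAll_spec (fun j : Fin 6 => th8 j.succ.succ) (fun j => CC j.succ.succ) (by decide) (PP n F) _ _ g
    (fun j => c j.succ.succ) (by omega)
  rw [add_assoc (n * OL), add_assoc (n * OL), ← sum8 fun j => c j * CC j, pack hc] at g2
  have bd : ∀ i < 240, (av n c i).toNat < 128 := fun i hi => by have := av_bd hc hi; omega
  have T : ∀ k, 0 < k → k < n → tt (∑ i ∈ range 240, (av n c i).toNat * 256 ^ i) k (2 * k % n) = true :=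
    fun k k0 kn => tt_true _ bd (by omega) (by have := Nat.mod_lt (2 * k) (show 0 < n by omega); omega)
      (cnt ho hc w h k0 kn)
  have T1 := T 1 one_pos (by omega)
  rw [Nat.mod_eq_of_lt (by omega), ← t1_eq] at T1
  have T2 : ta n (∑ i ∈ range 240, (av n c i).toNat * 256 ^ i) = true :=
    (allLt_iff _ _).2 fun i hi => T (31 - i) (by omega) (by omega)
  rw [PP_eq T1 T2] at g2
  have d : dg (∑ i ∈ range 240, (av n c i).toNat * 256 ^ i) = c := by
    funext j
    have p : 120 ≤ ![162, 141, 135, 130, 126, 123, 121, 120] j ∧ ![162, 141, 135, 130, 126, 123, 121, 120] j < 240 := by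
      revert j; decide
    unfold dg
    rw [digit (fun i => (av n c i).toNat) (fun i hi => (bd i hi).trans (by norm_num)) p.2]
    simp only [av, co_sm, if_neg (not_lt.2 p.1)]
    simp
  rwa [d] at g2

/-- the survivors of order dividing 63 -/
def F63 (c : Fin 8 → ℕ) : Bool := decide ((∀ i, 3 ∣ c i) ∨ (∀ i, 7 ∣ c i) ∨ ∃ i, ∀ j, c j = C63 i j)
/-- the survivors of order dividing 65 -/
def F65 (c : Fin 8 → ℕ) : Bool := decide ((∀ i, 5 ∣ c i) ∨ (∀ i, 13 ∣ c i) ∨ ∃ i, ∀ j, c j = C65 i j)

end CL.E82.En0
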