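/-
`E₈(2)`, `L₂(64)`: enumeration of the Kac points of order 63, part 1.
-/
import Cfsg.Agent.KSG.E82.En0

set_option autoImplicit false

namespace CL.E82.En0.X63
theorem r0 : RR 63 F63 0 1 = true := by decide +kernel
theorem r1 : RR 63 F63 1 1 = true := by decide +kernel
theorem r2 : RR 63 F63 2 1 = true := by decide +kernel
theorem r3 : RR 63 F63 3 1 = true := by decide +kernel
theorem r4 : RR 63 F63 4 1 = true := by decide +kernel
theorem r5 : RR 63 F63 5 2 = true := by decide +kernel
theorem r7 : RR 63 F63 7 25 = true := by decide +kernel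
theorem r32 : RR 63 F63 32 1 = true := by decide +kernel
theorem r33 : RR 63 F63 33 1 = true := by decide +kernel
end CL.E82.En0.X63
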