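/-
`E₈(2)`, `L₂(64)`: enumeration of the Kac points of order 63, part 2.
-/
import Cfsg.Agent.KSG.E82.En0

set_option autoImplicit false

namespace CL.E82.En0.X63
theorem r34 : RR 63 F63 34 1 = true := by decide +kernel
theorem r35 : RR 63 F63 35 1 = true := by decide +kernel
theorem r36 : RR 63 F63 36 2 = true := by decide +kernel
theorem r38 : RR 63 F63 38 26 = true := by decide +kernel
theorem r64 : RR 63 F63 64 1 = true := by decide +kernel
theorem r65 : RR 63 F63 65 1 = true := by decide +kernel
theorem r66 : RR 63 F63 66 1 = true := by decide +kernel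
theorem r67 : RR 63 F63 67 1 = true := by decide +kernel
theorem r68 : RR 63 F63 68 2 = true := by decide +kernel
theorem r70 : RR 63 F63 70 26 = true := by decide +kernel
theorem r96 : RR 63 F63 96 1 = true := by decide +kernel
end CL.E82.En0.X63
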