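/-
`E₈(2)`, `L₂(64)`: enumeration of the Kac points of order 63, part 3.
-/
import Cfsg.Agent.KSG.E82.En0

set_option autoImplicit false

namespace CL.E82.En0.X63
theorem r97 : RR 63 F63 97 1 = true := by decide +kernel
theorem r98 : RR 63 F63 98 1 = true := by decide +kernel
theorem r99 : RR 63 F63 99 2 = true := by decide +kernel
theorem r101 : RR 63 F63 101 27 = true := by decide +kernel
theorem r128 : RR 63 F63 128 1 = true := by decide +kernel
theorem r129 : RR 63 F63 129 1 = true := by decide +kernel
theorem r130 : RR 63 F63 130 2 = true := by decide +kernel
theorem r132 : RR 63 F63 132 28 = true := by decide +kernel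
theorem r160 : RR 63 F63 160 1 = true := by decide +kernel
theorem r161 : RR 63 F63 161 1 = true := by decide +kernel
theorem r162 : RR 63 F63 162 2 = true := by decide +kernel
theorem r164 : RR 63 F63 164 28 = true := by decide +kernel
theorem r192 : RR 63 F63 192 1 = true := by decide +kernel
end CL.E82.En0.X63
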