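/-
`E₈(2)`, `L₂(64)`: enumeration of the Kac points of order 63, part 4.
-/
import Cfsg.Agent.KSG.E82.En0

set_option autoImplicit false

namespace CL.E82.En0.X63
theorem r193 : RR 63 F63 193 2 = true := by decide +kernel
theorem r195 : RR 63 F63 195 29 = true := by decide +kernel
theorem r224 : RR 63 F63 224 2 = true := by decide +kernel
theorem r226 : RR 63 F63 226 30 = true := by decide +kernel
theorem r256 : RR 63 F63 256 2 = true := by decide +kernel
theorem r258 : RR 63 F63 258 30 = true := by decide +kernel
theorem r288 : RR 63 F63 288 4 = true := by decide +kernel
theorem r292 : RR 63 F63 292 32 = true := by decide +kernel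
theorem r324 : RR 63 F63 324 60 = true := by decide +kernel
theorem r384 : RR 63 F63 384 64 = true := by decide +kernel
theorem r448 : RR 63 F63 448 192 = true := by decide +kernel
theorem r640 : RR 63 F63 640 384 = true := by decide +kernel
end CL.E82.En0.X63
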