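/-
`E₈(2)`, `L₂(64)`: enumeration of the Kac points of order 63 conjugate to their squares.
-/
import Cfsg.Agent.KSG.E82.Defs
import Cfsg.Agent.KSG.E82.X63a
import Cfsg.Agent.KSG.E82.X63b
import Cfsg.Agent.KSG.E82.X63c
import Cfsg.Agent.KSG.E82.X63d

set_option autoImplicit false
set_option backward.isDefEq.respectTransparency false

namespace CL.E82
open Module Function Finset CL.SL2Wt CL.Chev CL.AltE Cfsg.Lie
open Matrix hiding zpow_add zpow_mul zpow_sub one_zpow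
open scoped MatrixGroups

theorem En0.all63 : ∀ t < 1024, En0.GG 63 En0.F63 t = true :=
  (En0.RR_add (En0.RR_add (En0.RR_add (En0.RR_add (En0.RR_add (En0.RR_add (En0.RR_add (En0.RR_add (En0.RR_add (En0.RR_add (En0.RR_add (En0.RR_add (En0.RR_add (En0.RR_add (En0.RR_add (En0.RR_add (En0.RR_add (En0.RR_add (En0.RR_add (En0.RR_add (En0.RR_add (En0.RR_add (En0.RR_add (En0.RR_add (En0.RR_add (En0.RR_add (En0.RR_add (En0.RR_add (En0.RR_add (En0.RR_add (En0.RR_add (En0.RR_add (En0.RR_add (En0.RR_add (En0.RR_add (En0.RR_add (En0.RR_add (En0.RR_add (En0.RR_add (En0.RR_add (En0.RR_add (En0.RR_add (En0.RR_add (En0.RR_add (En0.RR_add (fun _ h => absurd h (Nat.not_lt_zero _)) En0.X63.r0) En0.X63.r1) En0.X63.r2) En0.X63.r3) En0.X63.r4) En0.X63.r5) En0.X63.r7) En0.X63.r32) En0.X63.r33) En0.X63.r34) En0.X63.r35) En0.X63.r36) En0.X63.r38) En0.X63.r64) En0.X63.r65) En0.X63.r66) En0.X63.r67) En0.X63.r68) En0.X63.r70) En0.X63.r96) En0.X63.r97)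 En0.X63.r98) En0.X63.r99) En0.X63.r101) En0.X63.r128) En0.X63.r129) En0.X63.r130) En0.X63.r132) En0.X63.r160) En0.X63.r161) En0.X63.r162) En0.X63.r164) En0.X63.r192) En0.X63.r193) En0.X63.r195) En0.X63.r224) En0.X63.r226) En0.X63.r256) En0.X63.r258) En0.X63.r288) En0.X63.r292) En0.X63.r324) En0.X63.r384) En0.X63.r448) En0.X63.r640)

/-- PROOF: as `enum65` (file En65; share the checker and its soundness lemma): 1.9M points, prefilter 7 ∣ Q
(with `hw`: 21 ∣ Q). -/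
theorem enum63 (c : Fin 8 → ℕ) (hc : ∑ j, th8 j * c j ≤ 63) (w : Equiv.Perm R8) (hw : w ∈ (rootSys chevE8).W)
    (h : ∀ r, 2 * val c (w r) ≡ val c r [ZMOD 63]) (h3 : ¬ ∀ i, 3 ∣ c i) (h7 : ¬ ∀ i, 7 ∣ c i) :
    ∃ i, c = C63 i := by
  have H := En0.sound (n := 63) (by decide) (by norm_num) (by norm_num) En0.all63 c hc w h
  rcases of_decide_eq_true H with e | e | ⟨i, e⟩
  · exact absurd e h3
  · exact absurd e h7
  · exact ⟨i, funext e⟩

end CL.E82
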