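/-
`E₈(2)`, `L₂(64)`: enumeration of the Kac points of order 65 conjugate to their squares.
-/
import Cfsg.Agent.KSG.E82.EnC

set_option autoImplicit false
set_option maxRecDepth 100000
set_option exponentiation.threshold 4096
set_option backward.isDefEq.respectTransparency false

namespace CL.E82
open Module Function Finset CL.SL2Wt CL.Chev CL.AltE Cfsg.Lie
open Matrix hiding zpow_add zpow_mul zpow_sub one_zpow
open scoped MatrixGroups

namespace En65
open En

/-- the pairs (residue, budget) without a solution -/
def T : ℕ := 0x2aaa00000000000000000000000000003ffffffffffffffff0000000000000003ffffffffffffffff000000000000000355555555400000000000000000000003ffffffffffffffff0000000000000003ffffffffffffffff0000000000000003ffffffffffffffff0000000000000003ffffffffffffffff0000000000000003aaaaaaaaaa0000000000000000000003ffffd555554000000000000000000003ffffffffffffffff0000000000000003ffffffffffffffff0000000000000003ffffffffffffffff0000000000000003ffd55500000000000000000000000003ffffffffffffffff0000000000000003d4000000000000000000000000000003ffffffffffffffff0000000000000003ffffffffffffffff0000000000000003ffffffffffffffff0000000000000003ffffffffffffffff000000000000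0003ffffffffffffffff0000000000000003ffffffffffffffff0000000000000003ffffffffffffffff0000000000000003ffffffffffffffff0000000000000003eaaaaaaaaaaaaa800000000000000003ffffff55500000000000000000000003ffffffffffffffff0000000000000003ffffffffffffffff0000000000000003fffea000000000000000000000000003fffaaaaaaaaa00000000000000000003ffffffffffffffff0000000000000003ffffffffffffffff0000000000000003ffffffffffffffff0000000000000003ffffffffffffffff0000000000000003ff555555555550000000000000000003f5550000000000000000000000000003ffffffffffffffff0000000000000003ffffffffffffffff0000000000000003ffeaaaaaaaaa80000000000000000003fffffeaaa80000000000000000000003ffffffffffffffff0000000000000003ffffffffffffffff0000000000000003ffffffffffffffff0000000000000003ffffffffffffffff0000000000000003ffffffffffffffff0000000000000003ffffffffffffffff0000000000000003ffffffffffffffff0000000000000003ffffffffffffffff0000000000000003faaaaaa8000000000000000000000003ffffffffffffffff0000000000000003ffffeaaa000000000000000000000003ffffffffffffffff0000000000000003ffffffffffffffff0000000000000003ffffffffffffffff0000000000000003fffffff5000000000000000000000003ffaaa800000000000000000000000003ffffffffffffffff0000000000000003ffffffffffffffff0000000000000003ffffffffffffffff0000000000000003ffffffffffffffff0000000000000003fffd5540000000000000000000000003ffffffffffffffff0000000000000003ffffffffffffffff0000000000000003fd5555555550000000000000000000015555555555555554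
/-- the final test -/
def P := fin 5 13 [9072061977088, 35461414518785, 13402462499137, 35186586943620, 35254182613124, 30992517824709]

theorem tab : tabOK 65 65 T = true := by decide +kernel
theorem pw : PW 65 := by unfold PW; decide +kernel
theorem r0 : rng 65 65 T P 0 1 = true := by decide +kernel
theorem r1 : rng 65 65 T P 1 1 = true := by decide +kernel
theorem r2 : rng 65 65 T P 2 1 = true := by decide +kernel
theorem r3 : rng 65 65 T P 3 2 = true := by decide +kernel
theorem r4 : rng 65 65 T P 5 11 = true := by decide +kernel
theorem r5 : rng 65 65 T P 16 1 = true := by decide +kernel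
theorem r6 : rng 65 65 T P 17 1 = true := by decide +kernel
theorem r7 : rng 65 65 T P 18 3 = true := by decide +kernel
theorem r8 : rng 65 65 T P 21 12 = true := by decide +kernel
theorem r9 : rng 65 65 T P 33 4 = true := by decide +kernel
theorem r10 : rng 65 65 T P 37 15 = true := by decide +kernel
theorem r11 : rng 65 65 T P 52 124 = true := by decide +kernel

theorem all (p : ℕ) (hp : p < 176) : l2 65 65 T P (p / 16) (p % 16) = true := by
  by_cases h0 : p < 1
  · exact rng_spec r0 (by omega) (by omega)
  by_cases h1 : p < 2
  · exact rng_spec r1 (by omega) (by omega)
  by_cases h2 : p < 3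
  · exact rng_spec r2 (by omega) (by omega)
  by_cases h3 : p < 5
  · exact rng_spec r3 (by omega) (by omega)
  by_cases h4 : p < 16
  · exact rng_spec r4 (by omega) (by omega)
  by_cases h5 : p < 17
  · exact rng_spec r5 (by omega) (by omega)
  by_cases h6 : p < 18
  · exact rng_spec r6 (by omega) (by omega)
  by_cases h7 : p < 21
  · exact rng_spec r7 (by omega) (by omega)
  by_cases h8 : p < 33
  · exact rng_spec r8 (by omega) (by omega)
  by_cases h9 : p < 37
  · exact rng_spec r9 (by omega) (by omega)
  by_cases h10 : p < 52
  · exact rng_spec r10 (by omega) (by omega)
  exact rng_spec r11 (by omega) (by omega)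

end En65

/-- PROOF: kernel enumeration of the 2.3M points of the alcove (`alcAll`, `alcAll_spec`, or an own recursion), SPLIT into
many `decide +kernel` theorems (by the values of one or two coordinates, <= 100k leaves each; several files if needed).
Facts from `w`: the multiset of the values `val c r mod 65` is invariant under doubling, so m(k) = m(2k) with
m(k) = #{r | val c r ≡ k}; positive roots (index >= 120) have values in [0,65], negatives are `ng r` (`co_ng`).
CHEAP PREFILTER: Q(c) = c^T A^{-1} c / 2 (sum over all roots of (val c r)^2 is 120 Q), so 360 Q ≡ 0 mod 65, i.e. 13 ∣ Q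
(with `hw` even 65 ∣ Q); carry (Q, packed linear forms) through the recursion, run the heavy test only when it passes.
HEAVY TEST bit-parallel: S = packed 8-bit fields of the 120 positive values, number of fields ≠ k is
((((S xor k*ONES) + 0x7F*ONES) &&& 0x80*ONES) >>> 7) % 255; test m(1)=m(2), m(2)=m(4), m(3)=m(6), ... until only the
six points (or all coordinates divisible by 5 or by 13) survive; C check: scratch kac.c gives exactly `C65`. -/
theorem enum65 (c : Fin 8 → ℕ) (hc : ∑ j, th8 j * c j ≤ 65) (w : Equiv.Perm R8) (hw : w ∈ (rootSys chevE8).W)
    (h : ∀ r, 2 * val c (w r) ≡ val c r [ZMOD 65]) (h5 : ¬ ∀ i, 5 ∣ c i) (h13 : ¬ ∀ i, 13 ∣ c i) :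
    ∃ i, c = C65 i := by
  have e := En.fin_spec (En.main (P := En65.P) (by norm_num) (by norm_num) (fun x hx => by omega) En65.pw En65.tab
    (fun p hp => Or.inr (En65.all p hp)) c (by norm_num) hc w hw h) h5 h13
  simp only [List.mem_cons, List.not_mem_nil, or_false] at e
  rcases e with e | e | e | e | e | e
  · exact ⟨0, En.code_inj hc (by decide) (e.trans (by decide))⟩
  · exact ⟨1, En.code_inj hc (by decide) (e.trans (by decide))⟩
  · exact ⟨2, En.code_inj hc (by decide) (e.trans (by decide))⟩
  · exact ⟨3, En.code_inj hc (by decide) (e.trans (by decide))⟩
  · exact ⟨4, En.code_inj hc (by decide) (e.trans (by decide))⟩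
  · exact ⟨5, En.code_inj hc (by decide) (e.trans (by decide))⟩

end CL.E82
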