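/-
`E₈(2)`, `L₂(64)`: the classes of elements of orders 65 and 63.
-/
import Cfsg.Agent.KSG.E82.En65
import Cfsg.Agent.KSG.E82.En63
import Cfsg.Agent.KSG.E82.Lie0

set_option autoImplicit false
set_option maxRecDepth 20000
set_option maxHeartbeats 200000
set_option backward.isDefEq.respectTransparency false

namespace CL.E82
open Module Function Finset CL.SL2Wt CL.Chev CL.AltE Cfsg.Lie
open Matrix hiding zpow_add zpow_mul zpow_sub one_zpow
open scoped MatrixGroups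

theorem Cls.gen {ι κ C : Type*} [Fintype κ] [DecidableEq κ] {R : RootSys ι κ} [CommGroup C] {z : C} {n : ℕ}
    (hz : orderOf z = n) {a : κ → ℤ} {c : κ → ℕ} (h : ∀ i, (a ᵥ* Matrix.of R.A) i ≡ c i [ZMOD n]) (r : ι) :
    uchr (fun i => z ^ a i) (R.wt r) = z ^ ∑ i, R.rt r i * c i := by
  rw [uchr_zpow_const, zpow_eq_zpow_iff_modEq, hz]
  change a ⬝ᵥ (Matrix.of R.A *ᵥ R.rt r) ≡ _ [ZMOD n]
  rw [dotProduct_mulVec]
  exact Int.ModEq.sum fun j _ => by rw [mul_comm (R.rt r j)]; exact (h j).mul_right _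

theorem Cls.fr {α β K : Type*} [Fintype α] [Fintype β] [Field K] {f : End K (α ⊕ β → K)} {d : β → K}
    (hf : ∀ v i, f v i = Sum.elim (fun _ => (1 : K)) d i * v i) (μ : K) (q : Prop) [Decidable q] (hq : q ↔ 1 = μ)
    (p : β → Prop) [DecidablePred p] (hp : ∀ r, p r ↔ d r = μ) :
    finrank K (f.eigenspace μ) = #{r | p r} + if q then Fintype.card α else 0 := by
  classical
  have := finrank_inf₁ (Pi.basisFun K (α ⊕ β)).linearIndependent (f := f)
    (d := Sum.elim (fun _ => (1 : K)) d) (fun i => funext fun j => by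
      rw [hf, Pi.smul_apply, smul_eq_mul, Pi.basisFun_apply]
      by_cases h : j = i
      · rw [h]
      · rw [Pi.single_eq_of_ne h, mul_zero, mul_zero]) μ (Sum.elim (fun _ => q) p) (by
      rintro (i | r)
      exacts [hq, hp r])
  rw [Basis.span_eq, top_inf_eq] at this
  rw [this, card_filter, card_filter, add_comm, Fintype.sum_sum_type]
  congr 1
  · by_cases h : q <;> simp [h]
  · exact sum_congr rfl fun r _ => by congr

/-- PROOF: `exists_alc alg` gives y, a, c with y ψ(g) y⁻¹ = torHom (z^a), a A ≡ c, so ch t r = z ^ val c r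
(`uchr_zpow_const`; wt r = A * co r); `high8` gives the bound; ψ g is conjugate to its square (copy `E83.conj_cube` with
`alg.exists_act_eq_pow`), `exists_act_of_conj` + `RootSys.uchr_act` give w (see `E83.perm_of_conj` in KSG/E83/Dat);
if p ∣ c i for all i then all ch (t^(n/p)) r = 1, so torHom t ^ (n/p) = 1 (`(w248 K2).faith`, `E83.wtA_root`). -/
theorem exists_kac {n : ℕ} (hn : ¬ 2 ∣ n) {z : K2ˣ} (hz : orderOf z = n) {g : G8} (hg : orderOf g = n) :
    ∃ c : Fin 8 → ℕ, IsCls z c g ∧ ∑ j, th8 j * c j ≤ n ∧ (∃ w ∈ (rootSys chevE8).W,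
      ∀ r, 2 * val c (w r) ≡ val c r [ZMOD n]) ∧ ∀ p, 1 < p → p ∣ n → ¬ ∀ i, p ∣ c i := by
  have n0 : 0 < n := Nat.pos_of_ne_zero (by rintro rfl; simp at hn)
  have hz' : IsPrimitiveRoot (z : K2) n := IsPrimitiveRoot.coe_units_iff.2 (hz ▸ IsPrimitiveRoot.orderOf z)
  have hp : psi g ^ n = 1 := by rw [← map_pow, ← hg, pow_orderOf_eq_one, map_one]
  obtain ⟨y, a, c, e, h1, h2⟩ := exists_alc alg n0 hz' hp
  obtain ⟨t, e, hc⟩ : ∃ t : Fin 8 → K2ˣ, y * psi g * y⁻¹ = tor8 t ∧ ∀ r, ch t r = z ^ val c r :=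
    ⟨_, e, fun r => (Cls.gen hz h2 r).trans (by rfl)⟩
  have : NeZero n := ⟨n0.ne'⟩
  refine ⟨c, ⟨y, t, e, hc⟩, ?_, ?_, fun p p1 pn hd => ?_⟩
  · obtain ⟨r, hr, hθ⟩ := high8
    have := h1 r hr
    simp only [hθ] at this
    exact_mod_cast this
  · obtain ⟨w, hw, t', ht, y', hy⟩ := alg.exists_act_eq_pow ((psi_range (psi g)).1 ⟨g, rfl⟩) fun e0 =>
      hz'.neZero'.out (by
        obtain ⟨k, hk⟩ := orderOf_dvd_of_pow_eq_one hp
        rw [hk, Nat.cast_mul, e0, zero_mul])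
    obtain ⟨m, -, hm⟩ := (stS chevE8 K2).exists_acts hw
    have c1 := alg.r3.conj_torHom hm t'
    rw [ht, map_pow, ← hy, conj_pow] at c1
    have c2 : (y * y'⁻¹ * m * y' * y⁻¹) * tor8 t * (y * y'⁻¹ * m * y' * y⁻¹)⁻¹ = tor8 (t ^ 2) := by
      rw [map_pow, ← e, conj_pow]
      calc _ = y * y'⁻¹ * (m * (y' * psi g * y'⁻¹) * m⁻¹) * y' * y⁻¹ := by group
        _ = _ := by rw [c1]; group
    obtain ⟨w', hw', e'⟩ := alg.r3.exists_act_of_conj alg.good alg.sc (alg.mem _) c2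
    refine ⟨w', hw', fun r => ?_⟩
    have c3 := RootSys.uchr_act hw' t r
    rw [e', uchr_pow] at c3
    have c4 := (congrArg (· ^ 2) (hc (w' r)).symm).trans (c3.trans (hc r))
    simp only [← zpow_natCast, ← zpow_mul, zpow_eq_zpow_iff_modEq, hz] at c4
    rw [mul_comm]
    exact c4
  · obtain ⟨k, rfl⟩ := pn
    have k0 : 0 < k := Nat.pos_of_mul_pos_left n0
    have c1 : t ^ k = 1 := ch_inj fun r => by
      have d : (p : ℤ) ∣ val c r := dvd_sum fun i _ => (Int.natCast_dvd_natCast.2 (hd i)).mul_left _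
      rw [ch, ch, uchr_pow, show uchr t _ = _ from hc r, ← zpow_natCast, ← zpow_mul,
        show uchr (1 : Fin 8 → K2ˣ) _ = 1 by simp [uchr], ← orderOf_dvd_iff_zpow_eq_one, hz, Nat.cast_mul]
      exact mul_dvd_mul_right d _
    have c2 : psi (g ^ k) = psi 1 := by
      have := congrArg (· ^ k) e
      simp only [conj_pow] at this
      rw [← map_pow tor8, c1, map_one] at this
      rw [map_pow, map_one]
      simpa using this
    have c3 := Nat.le_of_dvd k0 (hg ▸ orderOf_dvd_of_pow_eq_one (psi_inj c2))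
    nlinarith

/-- PROOF: `finrank_conj`, `tor_apply`, `finrank_inf₁` on `Pi.basisFun`. -/
theorem IsCls.dim {n : ℕ} {z : K2ˣ} (hz : orderOf z = n) {c : Fin 8 → ℕ} {g : G8} (h : IsCls z c g) (k : ℕ) :
    finrank K2 ((rho g).eigenspace ((z : K2) ^ k)) =
      #{r : R8 | val c r ≡ k [ZMOD n]} + if k ≡ 0 [MOD n] then 8 else 0 := by
  obtain ⟨y, t, e, hc⟩ := h
  rw [rho_apply, finrank_conj rG (isConj_iff.2 ⟨y, e⟩)]
  refine (Cls.fr (α := Fin 8) (β := R8) (tor_apply t) _ (k ≡ 0 [MOD n]) ?_ _ fun r => ?_).trans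
    (by rw [Fintype.card_fin])
  · rw [eq_comm, ← Units.val_pow_eq_pow_val, Units.val_eq_one, ← orderOf_dvd_iff_pow_eq_one, hz,
      Nat.modEq_zero_iff_dvd]
  · rw [hc, ← Units.val_pow_eq_pow_val, Units.val_inj, ← zpow_natCast, zpow_eq_zpow_iff_modEq, hz]

theorem Cls.tab65 : ∀ i : Fin 6, ∀ k < 65, #{r : R8 | val (C65 i) r ≡ (k : ℕ) [ZMOD (65 : ℕ)]} +
    (if k ≡ 0 [MOD 65] then 8 else 0) = (M65 i).getD k 0 := by
  decide +kernel

theorem Cls.tab63 : ∀ i : Fin 8, ∀ k < 63, #{r : R8 | val (C63 i) r ≡ (k : ℕ) [ZMOD (63 : ℕ)]} +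
    (if k ≡ 0 [MOD 63] then 8 else 0) = (M63 i).getD k 0 := by
  decide +kernel

/-- PROOF: the two lemmas above, `enum65`, table check by `decide +kernel` (compute the list of the 240 values once). -/
theorem cls65 {z : K2ˣ} (hz : orderOf z = 65) {g : G8} (hg : orderOf g = 65) : ∃ i, IsCls z (C65 i) g ∧
    ∀ k < 65, finrank K2 ((rho g).eigenspace ((z : K2) ^ k)) = (M65 i).getD k 0 := by
  obtain ⟨c, h1, h2, ⟨w, hw, h3⟩, h4⟩ := exists_kac (by norm_num) hz hg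
  obtain ⟨i, rfl⟩ := enum65 c h2 w hw h3 (h4 5 (by norm_num) (by norm_num)) (h4 13 (by norm_num) (by norm_num))
  exact ⟨i, h1, fun k hk => (h1.dim hz k).trans (Cls.tab65 i k hk)⟩

theorem cls63 {z : K2ˣ} (hz : orderOf z = 63) {g : G8} (hg : orderOf g = 63) : ∃ j,
    ∀ k < 63, finrank K2 ((rho g).eigenspace ((z : K2) ^ k)) = (M63 j).getD k 0 := by
  obtain ⟨c, h1, h2, ⟨w, hw, h3⟩, h4⟩ := exists_kac (by norm_num) hz hg
  obtain ⟨i, rfl⟩ := enum63 c h2 w hw h3 (h4 3 (by norm_num) (by norm_num)) (h4 7 (by norm_num) (by norm_num))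
  exact ⟨i, fun k hk => (h1.dim hz k).trans (Cls.tab63 i k hk)⟩

end CL.E82
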