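/-
`E₈(2)`, `L₂(64)`: the twisted tori of the elements of order 65.
-/
import Cfsg.Agent.KSG.E82.Lie0
import Cfsg.Agent.CHEV.SpecG2

set_option autoImplicit false
set_option backward.isDefEq.respectTransparency false

namespace CL.E82
open Module Function Finset CL.SL2Wt CL.Chev CL.AltE Cfsg.Lie
open Matrix hiding zpow_add zpow_mul zpow_sub one_zpow
open scoped MatrixGroups

namespace Frame

theorem two0 : (2 : K2) = 0 := CharTwo.two_eq_zero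

theorem rG_n (i : Fin 8) (v : V8) : rG ((stS chevE8 K2).n (sm i) 1) v =
    ((nG (sm i) (1 : K2ˣ) : GL chevE8.Idx K2) : Matrix chevE8.Idx chevE8.Idx K2) *ᵥ v := by
  rw [StData.n, map_mul, map_mul, End.mul_apply, End.mul_apply, rG_x, rG_x, rG_x, nG, Units.val_mul, Units.val_mul,
    ← mulVec_mulVec, ← mulVec_mulVec, xg_val, xg_val, rootSys_neg]
  simp

theorem nw_spec (l : List (Fin 8)) :
    (stS chevE8 K2).Acts1 ((stS chevE8 K2).nw l) (l.map (rootSys chevE8).sp).prod ∧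
      (∀ r, rG ((stS chevE8 K2).nw l) (ee r) = ee ((l.map (rootSys chevE8).sp).prod r)) ∧
      ∀ r, rG ((stS chevE8 K2).nw l) (hh r) = hh ((l.map (rootSys chevE8).sp).prod r) := by
  induction l with
  | nil => exact ⟨⟨one_mem _, by simp [StData.nw_nil]⟩, by simp [StData.nw_nil], by simp [StData.nw_nil]⟩
  | cons i l ih =>
    obtain ⟨⟨h1, h2⟩, h3, h4⟩ := ih
    obtain ⟨ε, a1, -, -, a2⟩ := (stS chevE8 K2).exists_n_conj ((rootSys chevE8).simple i)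
    have a3 : ∀ s u, (stS chevE8 K2).n ((rootSys chevE8).simple i) 1 * (stS chevE8 K2).x s u *
        ((stS chevE8 K2).n ((rootSys chevE8).simple i) 1)⁻¹ = (stS chevE8 K2).x ((rootSys chevE8).sp i s) u := fun s u => by
      rw [← RootSys.refl_simple]
      refine (a2 s 1 u one_ne_zero).trans (congrArg _ ?_)
      rcases a1 s with e | e <;> rw [e, one_zpow]
      · ring
      · linear_combination -u * two0
    rw [StData.nw_cons, List.map_cons, List.prod_cons]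
    refine ⟨⟨mul_mem (Subgroup.subset_closure ⟨i, rfl⟩) h1, fun s u => ?_⟩, fun r => ?_, fun r => ?_⟩
    · rw [Equiv.Perm.mul_apply, ← a3, ← h2]; group
    · rw [map_mul, End.mul_apply, h3, rootSys_simple, rG_n, Equiv.Perm.mul_apply, rootSys_sp, nG_bas, one_zpow,
        Units.val_one, mul_one]
      rcases Int.units_eq_one_or (eta (D := chevE8) (sm i) ((l.map (rootSys chevE8).sp).prod r)) with e | e <;> rw [e]
      · simp
      · simp [CharTwo.neg_eq]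
    · rw [map_mul, End.mul_apply, h4, rootSys_simple, rG_n, Equiv.Perm.mul_apply, rootSys_sp, nG_hv]

theorem uchr_act' {ι κ C : Type*} [Fintype κ] [DecidableEq κ] {R : RootSys ι κ} [CommGroup C] {w : Equiv.Perm ι}
    (hw : w ∈ R.W) (t : κ → C) (r : ι) : uchr (R.act w⁻¹ t) (R.wt r) = uchr t (R.wt (w r)) := by
  have := RootSys.uchr_act (inv_mem hw) t (w r)
  rwa [RootSys.perm_inv_apply] at this

theorem ne_zero' {ι κ : Type*} [Fintype κ] [DecidableEq κ] {R : RootSys ι κ} {K Γ : Type*} [Field K] [Group Γ]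
    {S : StData R K Γ} {φ : K →+* K} {q : ℕ} {σ : Monoid.End Γ} [IsAlgClosed K] (A : S.Alg φ q σ) {y g : Γ}
    {t : κ → Kˣ} (e : y * g * y⁻¹ = A.r3.torHom t) : (orderOf g : K) ≠ 0 := by
  have := A.cast_orderOf_ne_zero (A.r3.torHom_mem t)
  rwa [← e, ← MulAut.conj_apply, MulEquiv.orderOf_eq] at this

theorem fix_conj {Γ : Type*} [Group Γ] {τ : Monoid.End Γ} {n x a : Γ} (hx : n = x * (τ x)⁻¹) (h : twE n τ a = a) :
    τ (x⁻¹ * a * x) = x⁻¹ * a * x := by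
  rw [← twE_conj_iff hx]
  simpa [mul_assoc] using h

theorem g1 {Γ : Type*} [Group Γ] {y g a : Γ} (x : Γ) (e : y * g * y⁻¹ = a) : IsConj g (x⁻¹ * a * x) :=
  isConj_iff.2 ⟨x⁻¹ * y, by rw [← e]; group⟩

theorem g2 {Γ : Type*} [Group Γ] {τ : Monoid.End Γ} {n x u g a : Γ} (hx : n = x * (τ x)⁻¹) (hu : τ u = u)
    (e : u * g * u⁻¹ = x⁻¹ * a * x) : n = x * u * (τ (x * u))⁻¹ ∧ x * u * g * (x * u)⁻¹ = a := by
  constructor
  · rw [hx, map_mul, hu]; group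
  · rw [show x * u * g * (x * u)⁻¹ = x * (u * g * u⁻¹) * x⁻¹ by group, e]; group

theorem ch_act {w : Equiv.Perm R8} (hw : w ∈ (rootSys chevE8).W) (t : Fin 8 → K2ˣ) (r : R8) :
    ch ((rootSys chevE8).act w⁻¹ t) r = ch t (w r) := uchr_act' hw t r

theorem uchr_zp {κ C : Type*} [Fintype κ] [CommGroup C] (t : κ → C) (k : ℤ) (x : κ → ℤ) :
    uchr (t ^ k) x = uchr t x ^ k := by
  simp only [uchr, Pi.pow_apply, ← Finset.prod_zpow, ← zpow_mul, mul_comm]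

theorem ch_pow (t : Fin 8 → K2ˣ) (k : ℕ) (r : R8) : ch (t ^ k) r = ch t r ^ k := uchr_pow _ _ _

/-- words -/
def l1 : List (Fin 8) := [4,5,6,0,2,3,4,5,1,3,4,2,3,0,2,1,3,4,5,6,7,6,5,4,3,2,1,3,4,5,6,0,2,3,4,5,1,3,4,2,3,0,
  2,1,3,4,5,6,7]
/-- words -/
def l3 : List (Fin 8) := [1,3,4,5,6,7,2,3,4,5,6,0,2,3,4,5,1,3,4,2,3,0,2,1,3,4,5,6,7]
/-- words -/
def l2 : List (Fin 8) := [2,3,4,5,6,7,2,1,3,4,5,6,0,2,3,4,5,1,3,4,2,3,0,2,1,3,4,5,6,7,2,3,4,5,1,3,4,2,3,0,2,1,3,4,5,6,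
  5,4,3,2,1,3,4,5,0,2,3,4,1,3,2,0]
/-- an element of order five -/
def aa : Fin 8 → ℤ := ![0, 3, 1, 3, 0, 0, 1, 2]

/-- the check -/
def ChkA (c : Fin 8 → ℕ) (l : List (Fin 8)) (a b : Fin 8) : Prop :=
  (∀ r, val c (piL (D := chevE8) l r) ≡ 2 * val c r [ZMOD (65 : ℕ)]) ∧ a ≠ b ∧ (Good.C chevE8).wt a (sm (D := chevE8) b) = 0 ∧
    piL (D := chevE8) l (sm a) = sm b ∧ piL (D := chevE8) l (sm b) = sm a ∧
    ∀ r, (65 : ℤ) ∣ val c r ↔ r = sm a ∨ r = ng (sm a) ∨ r = sm b ∨ r = ng (sm b)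

theorem chk1 : ChkA (C65 1) l1 1 2 := by unfold ChkA; decide +kernel
theorem chk3 : ChkA (C65 3) l3 2 6 := by unfold ChkA; decide +kernel
theorem chk2 : (∀ r, val (C65 2) (piL (D := chevE8) l2 r) ≡ 2 * val (C65 2) r [ZMOD (65 : ℕ)]) ∧
    (∀ r, ¬ (65 : ℤ) ∣ val (C65 2) r) ∧
    (∀ r, 13 * (aa ⬝ᵥ wtv (piL (D := chevE8) l2 r)) ≡ 13 * (aa ⬝ᵥ wtv r) * 2 [ZMOD (65 : ℕ)]) ∧
    aa ⬝ᵥ wtv (sm (D := chevE8) (1 : Fin 8)) = 3 ∧ val (C65 2) (sm (1 : Fin 8)) = 5 := by decide +kernel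

end Frame
open _root_.CL.E82.Frame

set_option maxRecDepth 20000 in
/-- PROOF: m := product of the n_i(1) along l (`nw`; induction gives `Acts1`, `me`, `mh` by `nG_bas`, `nG_hv`, eta = ±1 = 1;
see the proof of `exists_acts1`).  `alg.lang alg.gf m` gives x with m = x σ(x)⁻¹.  act w⁻¹ t = t² by `ch_inj`,
`RootSys.uchr_act` (ch (act w⁻¹ t) r = ch t (w r) = z ^ val c (w r)).  `twE_torHom_iff`, `twE_conj_iff`: s0 = x⁻¹ (tor8 t) x is
σ-fixed; `alg.exists_conj_fixed alg.gf` gives u with σ u = u, u ψ(s) u⁻¹ = s0; y := x u. -/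
theorem exists_frm {n : ℕ} (hn : ¬ 2 ∣ n) {z : K2ˣ} (hz : orderOf z = n) {c : Fin 8 → ℕ} {s : G8} (h : IsCls z c s)
    (l : List (Fin 8)) (hl : ∀ r, val c (piL (D := chevE8) l r) ≡ 2 * val c r [ZMOD n]) :
    ∃ y m t, Frm s y m (l.map (rootSys chevE8).sp).prod t ∧ ∀ r, ch t r = z ^ val c r := by
  obtain ⟨y0, t, e0, ht⟩ := h
  obtain ⟨h1, h2, h3⟩ := nw_spec l
  obtain ⟨x, hx⟩ := alg.lang alg.gf ((stS chevE8 K2).nw l)
  have a1 : (rootSys chevE8).act (l.map (rootSys chevE8).sp).prod⁻¹ t = t ^ 2 := ch_inj fun r => by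
    rw [ch_act h1.1, ch_pow, ht, ht, piL_eq, ← zpow_natCast, ← zpow_mul, zpow_eq_zpow_iff_modEq, hz, mul_comm]
    exact hl r
  have a2 : sig (x⁻¹ * tor8 t * x) = x⁻¹ * tor8 t * x := fix_conj hx ((alg.twE_torHom_iff h1.acts t).2 a1)
  have a3 : sig (psi s) = psi s := (psi_range _).1 ⟨s, rfl⟩
  have a4 : (orderOf (psi s) : K2) ≠ 0 := ne_zero' alg e0
  obtain ⟨u, hu, e⟩ := alg.exists_conj_fixed alg.gf a3 a2 a4 (g1 x e0)
  exact ⟨x * u, _, t, ⟨h1, (g2 hx hu e).1, (g2 hx hu e).2, h2, h3⟩, ht⟩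

/-- PROOF: class 1: a = 1, b = 2, l = [4,5,6,0,2,3,4,5,1,3,4,2,3,0,2,1,3,4,5,6,7,6,5,4,3,2,1,3,4,5,6,0,2,3,4,5,1,3,4,2,3,0,
2,1,3,4,5,6,7]; class 3: a = 2, b = 6, l = [1,3,4,5,6,7,2,3,4,5,6,0,2,3,4,5,1,3,4,2,3,0,2,1,3,4,5,6,7]; checks by
`decide +kernel` through `piL` (CHEV/ToriGlue relates it to the product of the `sp`). -/
theorem frmA {z : K2ˣ} (hz : orderOf z = 65) {i : Fin 6} (hi : i = 1 ∨ i = 3) {s : G8} (h : IsCls z (C65 i) s) :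
    FrmA s := by
  have key : ∀ c l a b, ChkA c l a b → IsCls z c s → FrmA s := fun c l a b ⟨c1, c2, c3, c4, c5, c6⟩ h => by
    obtain ⟨y, m, t, f, ht⟩ := exists_frm (by norm_num) hz h l c1
    refine ⟨y, m, _, t, a, b, f, c2, (A_sm' _ _).trans c3, (piL_eq _ _).trans c4, (piL_eq _ _).trans c5, fun r => ?_⟩
    rw [ht, ← orderOf_dvd_iff_zpow_eq_one, hz]
    exact c6 r
  rcases hi with rfl | rfl
  exacts [key _ _ _ _ chk1 h, key _ _ _ _ chk3 h]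

/-- PROOF: l = [2,3,4,5,6,7,2,1,3,4,5,6,0,2,3,4,5,1,3,4,2,3,0,2,1,3,4,5,6,7,2,3,4,5,1,3,4,2,3,0,2,1,3,4,5,6,5,4,3,2,1,3,4,5,
0,2,3,4,1,3,2,0]; det (2 - coM w⁻¹) = 325 (`RootSys.card_act_eq_pow`, `coM_word` with the reversed word) while
zpowers t has at most 65 elements (t ^ 65 = 1 by `ch_inj`); or give t' explicitly. -/
theorem frmR {z : K2ˣ} (hz : orderOf z = 65) {s : G8} (h : IsCls z (C65 2) s) : FrmR s := by
  obtain ⟨c1, c2, c3, c4, c5⟩ := chk2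
  obtain ⟨y, m, t, f, ht⟩ := exists_frm (by norm_num) hz h l2 c1
  obtain ⟨t', a1⟩ : ∃ t', ∀ r, ch t' r = z ^ (13 * (aa ⬝ᵥ wtv r)) := ⟨fun i => (z ^ (13 : ℤ)) ^ aa i, fun r => by
    rw [ch, uchr_zpow_const, wt_eq_wtv, zpow_mul]⟩
  refine ⟨y, m, _, t, f, fun r e => c2 r ?_, t', ch_inj fun r => ?_, fun ⟨k, hk⟩ => ?_⟩
  · rw [ht, ← orderOf_dvd_iff_zpow_eq_one, hz] at e
    exact e
  · rw [ch_act f.acts.1, ch_pow, a1, a1, piL_eq, ← zpow_natCast, ← zpow_mul, zpow_eq_zpow_iff_modEq, hz]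
    exact c3 r
  · have a2 : ch (t ^ k) (sm (1 : Fin 8)) = ch t (sm (1 : Fin 8)) ^ k := uchr_zp _ _ _
    rw [show t ^ k = _ from hk, a1, ht, c4, c5, ← zpow_mul, zpow_eq_zpow_iff_modEq, hz, Int.modEq_iff_dvd] at a2
    omega

end CL.E82
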