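/-
`E₈(2)`, `L₂(64)`: the invariant form of the adjoint module.
-/
import Cfsg.Agent.KSG.E82.Lie1

set_option autoImplicit false
set_option backward.isDefEq.respectTransparency false

namespace CL.E82
open Module Function Finset CL.SL2Wt CL.Chev CL.AltE Cfsg.Lie
open Matrix hiding zpow_add zpow_mul zpow_sub one_zpow
open scoped MatrixGroups

namespace FormX

theorem len1 : ∀ r : R8, len r = 1 := by
  change ∀ r : Fin 240, (Good.C chevE8).len r = 1
  decide +kernel

theorem As (r s : R8) : A r s = A s r := by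
  simpa [len1] using A_symm r s

/-- the root as a functional -/
noncomputable def lamL (r : R8) : V8 →ₗ[K2] K2 :=
  ∑ i : Fin 8, (A (sm (D := chevE8) i) r : K2) • pr (Sum.inl i)

theorem lamL_apply (r : R8) (v : V8) :
    lamL r v = ∑ i : Fin 8, (A (sm (D := chevE8) i) r : K2) * v (Sum.inl i) := by
  simp [lamL, pr_apply]

/-- the form -/
noncomputable def kap : V8 →ₗ[K2] V8 →ₗ[K2] K2 :=
  ∑ r : R8, (pr (Sum.inr r)).smulRight (pr (Sum.inr (ng r))) +
    ∑ i : Fin 8, (pr (Sum.inl i)).smulRight (lamL (sm i))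

theorem kap_apply (u v : V8) : kap u v = ∑ r : R8, u (Sum.inr r) * v (Sum.inr (ng r)) +
    ∑ i : Fin 8, u (Sum.inl i) * lamL (sm i) v := by
  simp [kap, pr_apply]

theorem kap_symm (u v : V8) : kap u v = kap v u := by
  rw [kap_apply, kap_apply]
  refine congrArg₂ (· + ·) ?_ ?_
  · exact Fintype.sum_equiv Fin.revPerm _ _ fun r => by
      change _ = v (Sum.inr (ng r)) * u (Sum.inr (ng (ng r)))
      rw [ng_ng, mul_comm]
  · simp only [lamL_apply, Finset.mul_sum]
    rw [Finset.sum_comm]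
    exact Finset.sum_congr rfl fun i _ => Finset.sum_congr rfl fun j _ => by
      rw [As (sm j) (sm i)]; ring

theorem ee_inr (r s : R8) : ee r (Sum.inr s) = if s = r then 1 else 0 := by
  simp [bas_inr, Fin.val_inj]

theorem ee_inl (r : R8) (i : Fin 8) : ee r (Sum.inl i) = 0 := bas_inl_of_lt r.2 i

theorem kap_ee (r : R8) (v : V8) : kap (ee r) v = v (Sum.inr (ng r)) := by
  simp [kap_apply, ee_inr, ee_inl]

theorem kap_hh (r : R8) (v : V8) : kap (hh r) v = lamL r v := by
  have e1 : ∀ s : R8, hh r (Sum.inr s) = 0 := fun _ => rfl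
  have e2 : ∀ i : Fin 8, hh r (Sum.inl i) = (cor r i : K2) := fun _ => rfl
  simp only [kap_apply, e1, e2, zero_mul, Finset.sum_const_zero, zero_add, lamL_apply, Finset.mul_sum]
  rw [Finset.sum_comm]
  refine Finset.sum_congr rfl fun j _ => ?_
  rw [As (sm j) r, A_eq_sum r]
  push_cast
  rw [Finset.sum_mul]
  exact Finset.sum_congr rfl fun i _ => by rw [As (sm j) (sm i)]; ring

theorem lam_ee (r s : R8) : lamL r (ee s) = 0 := by simp [lamL_apply, ee_inl]

theorem lam_hh (r s : R8) : lamL r (hh s) = (A s r : K2) := by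
  have e2 : ∀ i : Fin 8, hh s (Sum.inl i) = (cor s i : K2) := fun _ => rfl
  rw [lamL_apply, A_eq_sum s]
  push_cast
  exact Finset.sum_congr rfl fun i _ => by rw [e2, mul_comm]

theorem ext {W : Type} [AddCommGroup W] [Module K2 W] {f g : V8 →ₗ[K2] W} (h1 : ∀ r, f (ee r) = g (ee r))
    (h2 : ∀ r, f (hh r) = g (hh r)) : f = g := LinearMap.ext fun v => by
  rw [eq_sum v]
  simp only [map_add, map_sum, map_smul, h1, h2]

theorem z3 {r s t : R8} (h : co (ng t) ≠ co r + co s) : br (ee r) (ee s) (Sum.inr (ng t)) = 0 := by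
  rcases root_cases r s with rfl | ⟨u, e, -⟩ | e
  · rw [br_ee_ng]; rfl
  · rw [br_ee_add e, ee_inr, if_neg fun c : ng t = u => h (by rw [c, e])]
  · rw [br_ee_zero e]; rfl

theorem eh (r s t : R8) : kap (br (ee r) (ee s)) (hh t) = kap (ee s) (br (ee r) (hh t)) := by
  rw [kap_symm, kap_hh, kap_ee, br_ee_hh, Pi.smul_apply, ee_inr]
  by_cases c : s = ng r
  · rw [c, br_ee_ng, lam_hh, ng_ng, if_pos rfl, As r t, smul_eq_mul, mul_one]
  · rw [if_neg fun e => c (by rw [← e, ng_ng]), smul_zero]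
    rcases root_cases r s with e | ⟨u, e, -⟩ | e
    · exact absurd e c
    · rw [br_ee_add e, lam_ee]
    · rw [br_ee_zero e, map_zero]

theorem adj (r : R8) (u v : V8) : kap (br (ee r) u) v = kap u (br (ee r) v) := by
  have : kap ∘ₗ br (ee r) = kap.compl₂ (br (ee r)) := by
    refine ext (fun s => ext (fun t => ?_) fun t => eh r s t) fun s => ext (fun t => ?_) fun t => ?_
    · change kap (br (ee r) (ee s)) (ee t) = kap (ee s) (br (ee r) (ee t))
      rw [kap_symm, kap_ee, kap_ee]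
      by_cases c : co (ng t) = co r + co s
      · have c' : co (ng s) = co r + co t := by
          rw [co_ng] at c ⊢
          linear_combination c
        rw [br_ee_add c, br_ee_add c', ee_inr, ee_inr, if_pos rfl, if_pos rfl]
      · rw [z3 c, z3 fun c' => c (by
          rw [co_ng] at c' ⊢
          linear_combination c')]
    · change kap (br (ee r) (hh s)) (ee t) = kap (hh s) (br (ee r) (ee t))
      rw [kap_symm, ← eh, kap_symm]
    · change kap (br (ee r) (hh s)) (hh t) = kap (hh s) (br (ee r) (hh t))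
      rw [br_ee_hh, br_ee_hh, map_smul, map_smul, LinearMap.smul_apply, kap_ee, kap_hh, lam_ee]
      exact (smul_zero _).trans (smul_zero _).symm
  exact LinearMap.congr_fun₂ this u v

theorem sq0 (r : R8) (v : V8) : br (ee r) (br (ee r) v) = 0 := by
  have : br (ee r) ∘ₗ br (ee r) = 0 := by
    refine ext (fun s => ?_) fun s => ?_
    · change br (ee r) (br (ee r) (ee s)) = 0
      rcases root_cases r s with rfl | ⟨u, e, e'⟩ | e
      · rw [br_ee_ng, br_ee_hh, A_self]
        simp [CharTwo.two_eq_zero]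
      · rw [br_ee_add e, br_ee_zero]
        rw [← cw_co, e, map_add, cw_co, cw_co, A_self, e']
        norm_num
      · rw [br_ee_zero e, map_zero]
    · change br (ee r) (br (ee r) (hh s)) = 0
      rw [br_ee_hh, map_smul, br_self, smul_zero]
  exact LinearMap.congr_fun this v

theorem inv (γ : Γ8) : ∀ u v, kap (rG γ u) (rG γ v) = kap u v := by
  refine ind_Γ (P := fun γ => ∀ u v, kap (rG γ u) (rG γ v) = kap u v) (by simp) (fun r c u v => ?_)
    (fun a b ha hb u v => by rw [map_mul, End.mul_apply, End.mul_apply, ha, hb]) γ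
  have t : (2 : K2) = 0 := CharTwo.two_eq_zero
  have e1 : kap (br (ee r) u) (br (ee r) v) = 0 := by rw [adj, sq0, map_zero]
  have e2 : kap (br (ee r) u) (ee r) = 0 := by rw [adj, br_self, map_zero]
  have e3 : kap (ee r) (br (ee r) v) = 0 := by rw [← adj, br_self, map_zero, LinearMap.zero_apply]
  have e4 : kap (ee r) (ee r) = 0 := by rw [kap_ee, ee_inr, if_neg (ng_ne r)]
  have e5 : kap u (ee r) = u (Sum.inr (ng r)) := by rw [kap_symm, kap_ee]
  rw [x_apply, x_apply]
  simp only [map_add, map_smul, LinearMap.add_apply, LinearMap.smul_apply, smul_eq_mul, e1, e2, e3, e4, e5]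
  rw [adj, kap_ee]
  linear_combination (c * kap u (br (ee r) v) + c ^ 2 * u (Sum.inr (ng r)) * v (Sum.inr (ng r))) * t

theorem cinv : ∀ i k : Fin 8, ∑ j : Fin 8, A (sm (D := chevE8) i) (sm j) *
    (!![4, 5, 7, 10, 8, 6, 4, 2; 5, 8, 10, 15, 12, 9, 6, 3; 7, 10, 14, 20, 16, 12, 8, 4;
    10, 15, 20, 30, 24, 18, 12, 6; 8, 12, 16, 24, 20, 15, 10, 5; 6, 9, 12, 18, 15, 12, 8, 4; 4, 6, 8, 12, 10, 8, 6, 3;
    2, 3, 4, 6, 5, 4, 3, 2] : Matrix (Fin 8) (Fin 8) ℤ) j k = if i = k then 1 else 0 := by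
  have : ∀ i j : Fin 8, A (sm (D := chevE8) i) (sm j) = _ := fun i j =>
    (A_sm (D := chevE8) i (sm j)).trans (cartan_simple_E8 i j)
  simp only [this]
  decide +kernel

theorem nd {u : V8} (h : ∀ v, kap u v = 0) : u = 0 := by
  funext i
  rcases i with k | r
  · have e : ∀ j : Fin 8, ∑ i : Fin 8, (A (sm (D := chevE8) i) (sm j) : K2) * u (Sum.inl i) = 0 := fun j => by
      rw [← lamL_apply, ← kap_hh, kap_symm, h]
    obtain ⟨P, hP⟩ : ∃ P : Matrix (Fin 8) (Fin 8) ℤ, ∀ i k : Fin 8,
      ∑ j : Fin 8, A (sm (D := chevE8) i) (sm j) * P j k = if i = k then 1 else 0 := ⟨_, cinv⟩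
    have k1 : ∑ j : Fin 8, (∑ i : Fin 8, (A (sm (D := chevE8) i) (sm j) : K2) * u (Sum.inl i)) * (P j k : K2) =
        ∑ i : Fin 8, ((∑ j : Fin 8, A (sm (D := chevE8) i) (sm j) * P j k : ℤ) : K2) * u (Sum.inl i) := by
      push_cast
      simp only [Finset.sum_mul]
      rw [Finset.sum_comm]
      exact Finset.sum_congr rfl fun i _ => Finset.sum_congr rfl fun j _ => by ring
    simp only [e, hP] at k1
    simpa using k1.symm
  · have := h (ee (ng r))
    rwa [kap_symm, kap_ee, ng_ng] at this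

end FormX

/-- PROOF: κ(u,v) = Σ_r u(r) v(-r) + Σ_ij u(i) A_ij v(j).  Nondegenerate: test against e_{-r} and h_j, the Cartan matrix
has determinant 1 (`cartanMat_E8`, explicit inverse by decide).  κ([e_r,u],v) = κ(u,[e_r,v]) on the basis (`root_cases`,
`br_ee_*`), [e_r,[e_r,v]] = 0 (char 2; from x_r(1)² = 1 or the basis), κ(e_r,v) = v(-r); so `x_apply` gives
κ(x u, x v) = κ(u,v); `ind_Γ`.  A functional is κ(u,·) (`LinearMap.BilinForm.toDual`), and κ(u, g v) = κ(u,v) for all v gives
κ(u, g v) = κ(g u, g v), so g u = u. -/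
theorem dualfix (S : Set G8) (h : ∀ v, (∀ g ∈ S, rho g v = v) → v = 0) (φ : Dual K2 V8)
    (hφ : ∀ g ∈ S, ∀ v, φ (rho g v) = φ v) : φ = 0 := by
  have inj : Injective FormX.kap := (injective_iff_map_eq_zero _).2 fun u e =>
    FormX.nd fun v => LinearMap.congr_fun e v
  obtain ⟨u, rfl⟩ := (LinearMap.injective_iff_surjective_of_finrank_eq_finrank
    (Subspace.dual_finrank_eq (K := K2) (V := V8)).symm).1 inj φ
  rw [h u fun g hg => sub_eq_zero.1 (FormX.nd fun w => ?_), map_zero]
  have e : rho g (rho g⁻¹ w) = w := by rw [← End.mul_apply, ← map_mul, mul_inv_cancel, map_one, End.one_apply]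
  rw [← e, map_sub, LinearMap.sub_apply, hφ g hg, rho_apply, FormX.inv, sub_self]

end CL.E82
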