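/-
`E₈(2)`, `L₂(64)`: irreducibility, fixed spaces of involutions.
-/
import Cfsg.Agent.KSG.E82.Lie1
import Cfsg.Agent.S4443
import Cfsg.Agent.CHEV.AutAbs

set_option autoImplicit false
set_option backward.isDefEq.respectTransparency false

namespace CL.E82
open Module Function Finset CL.SL2Wt CL.Chev CL.AltE Cfsg.Lie
open Matrix hiding zpow_add zpow_mul zpow_sub one_zpow
open scoped MatrixGroups

namespace Irr

/-- the highest root -/
def top : R8 := ⟨239, by decide⟩

theorem tab : ∀ s < 239, ∃ r < 240, 120 ≤ r ∧ certE8.add r s < 240 ∧ s < certE8.add r s := by decide +kernel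

theorem up {s : R8} (hs : s ≠ top) : ∃ r u : R8, Pos r ∧ s < u ∧ co u = co r + co s := by
  have h1 : s.1 < 240 := s.2
  obtain ⟨r, a, b, c, d⟩ := tab s (lt_of_le_of_ne (by omega) fun e => hs (Fin.ext e))
  exact ⟨⟨r, a⟩, ⟨_, c⟩, pos_of_le _ b, d, coN_add (D := chevE8) a s.2 c⟩

theorem A_top : ∀ i : Fin 8, 0 ≤ A (sm (D := chevE8) i) top := by
  simp only [A_sm']; decide +kernel

theorem ng_top : ∀ i : Fin 8, ng (sm (D := chevE8) i) ≠ top := by decide +kernel

/-- the inverse of the Cartan matrix -/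
def B : Fin 8 → Fin 8 → ℤ := ![![4, 5, 7, 10, 8, 6, 4, 2], ![5, 8, 10, 15, 12, 9, 6, 3], ![7, 10, 14, 20, 16, 12, 8, 4],
  ![10, 15, 20, 30, 24, 18, 12, 6], ![8, 12, 16, 24, 20, 15, 10, 5], ![6, 9, 12, 18, 15, 12, 8, 4],
  ![4, 6, 8, 12, 10, 8, 6, 3], ![2, 3, 4, 6, 5, 4, 3, 2]]

theorem AB : ∀ i k : Fin 8, ∑ j : Fin 8, A (sm (D := chevE8) i) (sm j) * B j k = if i = k then 1 else 0 := by
  simp only [A_sm']; decide +kernel

theorem ee_inr (r u : R8) : ee r (Sum.inr u) = if u = r then 1 else 0 := by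
  rw [ee, bas_inr]; simp only [Fin.ext_iff]

theorem rho_x (r : R8) (v : V8) :
    rho ((stG chevE8 (ZMod 2)).x r 1) v - v = br (ee r) v + v (Sum.inr (ng r)) • ee r := by
  rw [rho_apply, psi_x, map_one, x_apply, one_smul, one_pow, one_mul]; abel

theorem ne_of {r s u : R8} (h : co u = co r + co s) : u ≠ r := fun e => co_ne_zero s (by
  rw [e] at h; exact left_eq_add.1 h)

theorem br_co {r s u : R8} (h : co u = co r + co s) (v : V8) : br (ee r) v (Sum.inr u) = v (Sum.inr s) := by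
  have h1 : ∀ s' : R8, s' ≠ s → br (ee r) (ee s') (Sum.inr u) = 0 := fun s' ne => by
    rcases root_cases r s' with rfl | ⟨u', e, -⟩ | e
    · rw [br_ee_ng]; rfl
    · rw [br_ee_add e, ee_inr, if_neg]
      rintro rfl
      exact ne (co_injective (add_left_cancel (e.symm.trans h)))
    · rw [br_ee_zero e]; rfl
  conv_lhs => rw [eq_sum v]
  simp only [map_add, map_sum, map_smul, br_ee_hh, Pi.add_apply, Finset.sum_apply, Pi.smul_apply, ee_inr,
    if_neg (ne_of h), smul_zero, sum_const_zero, add_zero]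
  rw [sum_eq_single s (fun s' _ ne => by rw [h1 s' ne, smul_zero]) (by simp), br_ee_add h, ee_inr, if_pos rfl,
    smul_eq_mul, mul_one]

theorem of_fix {v : V8} (h : ∀ r, Pos r → rho ((stG chevE8 (ZMod 2)).x r 1) v = v) : v = v (Sum.inr top) • ee top := by
  have h1 : ∀ s, s ≠ top → v (Sum.inr s) = 0 := fun s hs => by
    obtain ⟨r, u, a, -, c⟩ := up hs
    have := congrFun (rho_x r v) (Sum.inr u)
    rw [h r a, sub_self, Pi.add_apply, br_co c, Pi.smul_apply, ee_inr, if_neg (ne_of c), smul_zero, add_zero] at this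
    exact this.symm
  obtain ⟨w, hw⟩ : ∃ w, w = v - v (Sum.inr top) • ee top := ⟨_, rfl⟩
  have h2 : ∀ s, w (Sum.inr s) = 0 := fun s => by
    rw [hw, Pi.sub_apply, Pi.smul_apply, ee_inr]
    split_ifs with c
    · rw [c, smul_eq_mul, mul_one, sub_self]
    · rw [h1 s c, smul_zero, sub_zero]
  have h3 : ∀ j : Fin 8, lam (sm j) w = 0 := fun j => by
    have := rho_x (sm j) v
    rw [h _ (pos_sm j), sub_self, h1 _ (ng_top j), zero_smul, add_zero, eq_add_of_sub_eq hw.symm, map_add, map_smul,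
      br_ee_zero (A_top j), smul_zero, add_zero, br_ee_cartan _ h2] at this
    have := congrFun this (Sum.inr (sm j))
    rw [Pi.smul_apply, ee_inr, if_pos rfl, smul_eq_mul, mul_one] at this
    exact this.symm
  refine sub_eq_zero.1 (hw ▸ funext fun i => ?_)
  rcases i with k | s
  · have : ∑ j : Fin 8, lam (sm j) w * (B j k : K2) = w (Sum.inl k) := by
      simp only [lam, sum_mul]
      rw [sum_comm]
      simp only [mul_assoc, ← mul_sum, ← Int.cast_mul, ← Int.cast_sum, AB]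
      simp
    rw [← this]
    simp [h3]
  · exact h2 s

theorem rho_eq (g : G8) : rho g = toEnd _ K2 ((adj chevE8 (ZMod 2) g).map (algebraMap (ZMod 2) K2)) := by
  have := (stG chevE8 (ZMod 2)).hom_ext_x stG_top (f := rho.toHomUnits)
    (f' := ((toEnd _ K2).comp ((algebraMap (ZMod 2) K2).mapMatrix.toMonoidHom.comp (adj chevE8 (ZMod 2)))).toHomUnits)
    fun r t => Units.ext (LinearMap.ext fun v => by
      rw [MonoidHom.coe_toHomUnits, rho_apply, psi_x, rG_x, ← xR_map]; rfl)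
  exact congrArg (fun f : G8 →* (End K2 V8)ˣ => (f g : End K2 V8)) this

end Irr

/-- PROOF: D_r = x_r(1) - 1 (x_r(1) = psi of `(stG ..).x r 1` by `psi_x`) maps W to W; D_r v = [e_r,v] + v(-r) e_r.
Take 0 ≠ v ∈ W whose minimal height `ht` (`wI`, `xR_weight`) of the support is maximal; D_{sm i} raises it, so
D_{sm i} v = 0 for all i; then v(s) = 0 whenever s + α_i is a root or 0, and lam (sm i) v = 0, so the Cartan part is 0
(det A = 1); only s = highest root (index 239) survives (decide).  So e_239 ∈ W; D_r e_s = e_{r+s}, or the elements n_r(1)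
(`nG_bas`, `root_induction`), give all e_s; D_r e_{-r} = h_r + e_r gives all h; `eq_sum`. -/
theorem irr (U : Submodule K2 V8) (h : ∀ g, ∀ v ∈ U, rho g v ∈ U) : U = ⊥ ∨ U = ⊤ := by
  classical
  rcases eq_or_ne U ⊥ with h0 | h0
  · exact .inl h0
  right
  obtain ⟨v, hv, v0⟩ := Submodule.exists_mem_ne_zero_of_ne_bot h0
  let b : (stG chevE8 (ZMod 2)).U →* End K2 U :=
    ⟨⟨fun g => (rho g).restrict (h g), by ext; simp⟩, fun g g' => by ext; simp⟩
  let _ := DistribMulAction.compHom U b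
  obtain ⟨w, w0, hw⟩ := Blk.exists_fixed_ne_zero (P := (stG chevE8 (ZMod 2)).U) (V := U) Nat.prime_two
    (stG_good.isPGroup_U (p := 2)) (fun x => by rw [← Nat.cast_smul_eq_nsmul K2, CharP.cast_eq_zero, zero_smul])
    (v := ⟨v, hv⟩) fun e => v0 (congrArg Subtype.val e)
  have h1 := Irr.of_fix (v := w) fun r hr => congrArg Subtype.val
    (hw ⟨_, (stG chevE8 (ZMod 2)).x_mem_XS (T := {r | (rootSys chevE8).IsPos r}) (ht_pos_of_pos r hr) 1⟩)
  have h2 : ee Irr.top ∈ U := by
    refine (U.smul_mem_iff (s := w.1 (Sum.inr Irr.top)) fun e => w0 (Subtype.ext ?_)).1 (h1 ▸ w.2)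
    rw [h1, e, zero_smul]; rfl
  have h3 : ∀ r, ∀ x ∈ U, br (ee r) x + x (Sum.inr (ng r)) • ee r ∈ U := fun r x hx =>
    Irr.rho_x r x ▸ U.sub_mem (h _ x hx) hx
  have h4 : ∀ s, ee s ∈ U := fun s => by
    induction s using WellFoundedGT.induction with
    | ind s ih =>
    by_cases c : s = Irr.top
    · exact c ▸ h2
    obtain ⟨r, u, -, a, e⟩ := Irr.up c
    have := h3 (ng r) _ (ih u a)
    rwa [br_ee_add (u := s) (by rw [co_ng, e]; abel), ng_ng, Irr.ee_inr, if_neg (Irr.ne_of e).symm, zero_smul,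
      add_zero] at this
  have h5 : ∀ r, hh r ∈ U := fun r => by
    have := U.sub_mem (h3 r _ (h4 (ng r))) (U.smul_mem (ee (ng r) (Sum.inr (ng r))) (h4 r))
    rwa [add_sub_cancel_right, br_ee_ng] at this
  refine eq_top_iff.2 fun x _ => ?_
  rw [eq_sum x]
  exact U.add_mem (U.sum_mem fun r _ => U.smul_mem _ (h4 r)) (U.sum_mem fun i _ => U.smul_mem _ (h5 _))

/-- PROOF: rho g = toEnd of the matrix of g mapped along `algebraMap (ZMod 2) K2` (two homomorphisms agreeing on the
generators, `stG_top`, `psi_x`, `rG_x`, `xR_map`); `exists_rep_E8`, `chkReps_E8`, `rank_tL` (CHEV/Inv2Chk, Inv2E): the rank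
of g - 1 is 58, 92, 110 or 120; `Cfsg.Agent.S4443.rank_map`, rank-nullity (`E72.rank_add` in KSG/E72/Dat). -/
theorem fix128 {g : G8} (hg : orderOf g = 2) : 128 ≤ finrank K2 ((rho g).eigenspace 1) := by
  obtain ⟨T, hT, a, -, e⟩ := exists_rep_E8 (K := ZMod 2) g.1 (stData_grp.ge g.2) (by rwa [Subgroup.orderOf_coe])
  obtain ⟨x, hx, rfl⟩ := List.mem_map.1 hT
  have h1 := List.all_eq_true.1 chkReps_E8 x hx
  simp only [Bool.and_eq_true] at h1
  have h2 := rank_tL (D := chevE8) (K := ZMod 2) h1.1.1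
  rw [← e, rank_conj_sub_one, ← Cfsg.Agent.S4443.rank_map (algebraMap (ZMod 2) K2)] at h2
  have h3 : x.2 ≤ 120 := (by decide : ∀ x ∈ rkE8, x.2 ≤ 120) x hx
  have h4 := LinearMap.finrank_range_add_finrank_ker (rho g - 1)
  have h5 : LinearMap.ker (rho g - 1) = (rho g).eigenspace 1 := Submodule.ext fun v => by
    rw [End.mem_eigenspace_iff, LinearMap.mem_ker, LinearMap.sub_apply, one_smul, sub_eq_zero]; rfl
  have h6 : rho g - 1 = (((g.1 : Matrix _ _ (ZMod 2)) - 1).map (algebraMap (ZMod 2) K2)).mulVecLin := by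
    rw [Irr.rho_eq, Matrix.map_sub _ (map_sub _), Matrix.map_one _ (map_zero _) (map_one _)]
    exact LinearMap.ext fun v => by rw [mulVecLin_apply, sub_mulVec, one_mulVec]; rfl
  rw [h5, finrank_V8, h6, ← Matrix.rank, h2] at h4
  omega

end CL.E82
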