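/-
`E₈(2)`, `L₂(64)`: the nonsplit torus is self-centralising in the normaliser.
-/
import Cfsg.Agent.KSG.E82.Grp

set_option autoImplicit false
set_option backward.isDefEq.respectTransparency false

namespace CL.E82
open Module Function Finset CL.SL2Wt CL.Chev CL.AltE Cfsg.Lie
open Matrix hiding zpow_add zpow_mul zpow_sub one_zpow
open scoped MatrixGroups

namespace Cen
variable {F : Type*} [Field F] [Fintype F] (D : Dt F)

omit [Fintype F] in
theorem det2 (g : SL(2, F)) : g 0 0 * g 1 1 - g 0 1 * g 1 0 = 1 := by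
  have := g.det_coe
  rwa [det_fin_two] at this

include D

theorem sq1 {x : F} (h : x * x = 1) : x = 1 := by
  have : (x - 1) ^ 2 = 0 := by linear_combination h + (1 - x) * D.two
  exact sub_eq_zero.1 (pow_eq_zero_iff two_ne_zero |>.1 this)

/-- the centraliser of a transvection -/
theorem cup {x : SL(2, F)} {t : F} (ht : t ≠ 0) (h : Commute x (up t)) : ∃ r, x = up r := by
  have a := congrArg (fun g : SL(2, F) => g 0 0) h.eq
  have b := congrArg (fun g : SL(2, F) => g 0 1) h.eq
  simp only [mul_ap, up, mk00, mk01, mk10, mk11] at a b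
  have h1 : x 1 0 = 0 := mul_left_cancel₀ ht (by linear_combination -a)
  have h2 : x 1 1 = x 0 0 := mul_left_cancel₀ ht (by linear_combination -b)
  have h3 : x 0 0 = 1 := sq1 D (by linear_combination det2 x - x 0 0 * h2 + x 0 1 * h1)
  exact ⟨x 0 1, ext4 ⟨h3, rfl, h1, h2.trans h3⟩⟩

/-- an upper triangular involution -/
theorem inv_up {x : SL(2, F)} (h : x * x = 1) (h1 : x 1 0 = 0) : ∃ r, x = up r := by
  have a := congrArg (fun g : SL(2, F) => g 0 0) h
  have b := congrArg (fun g : SL(2, F) => g 1 1) h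
  simp only [mul_ap, h1, mul_zero, zero_mul, add_zero, zero_add] at a b
  exact ⟨x 0 1, ext4 ⟨sq1 D a, rfl, h1, sq1 D b⟩⟩

omit D [Fintype F] in
theorem low {y : SL(2, F)} {t r : F} (ht : t ≠ 0) (h : y * up t * y⁻¹ = up r) : y 1 0 = 0 := by
  have a := congrArg (fun g : SL(2, F) => g 1 1) (mul_inv_eq_iff_eq_mul.1 h)
  simp only [mul_ap, up, mk01, mk10, mk11] at a
  exact mul_left_cancel₀ ht (by linear_combination a)

omit D [Fintype F] in
theorem cj10 (y g : SL(2, F)) : (g⁻¹ * y * g) 1 0 =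
    g 0 0 * (y 1 0 * g 0 0 + y 1 1 * g 1 0) - g 1 0 * (y 0 0 * g 0 0 + y 0 1 * g 1 0) := by
  have e : g * (g⁻¹ * y * g) = y * g := by group
  generalize g⁻¹ * y * g = z at e
  have a := congrArg (fun g : SL(2, F) => g 0 0) e
  have b := congrArg (fun g : SL(2, F) => g 1 0) e
  simp only [mul_ap] at a b
  linear_combination g 0 0 * b - g 1 0 * a - z 1 0 * det2 g

theorem scal {y : SL(2, F)} (h : ∀ g : SL(2, F), (g⁻¹ * y * g) 1 0 = 0) : y = 1 := by
  have a := h 1
  have b := h ww
  have c := h (mk 1 0 1 1 (by simp))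
  rw [cj10] at b c
  simp only [ww, mk00, mk10, inv_one, one_mul, mul_one] at a b c
  have h1 : y 0 1 = 0 := by linear_combination -b
  have h2 : y 1 1 = y 0 0 := by linear_combination c - a + h1
  have h3 : y 0 0 = 1 := sq1 D (by linear_combination det2 y - y 0 0 * h2 + y 0 1 * a)
  exact ext4 ⟨h3, h1, a, h2.trans h3⟩

/-- the nonsplit torus meets the Borel subgroup trivially -/
theorem tb {z : SL(2, F)} (hz : z ∈ Subgroup.zpowers D.s) (h : z 1 0 = 0) : z = 1 := by
  classical
  obtain ⟨k, rfl⟩ := mem_powers_iff_mem_zpowers.2 hz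
  have e := E83.ev_pow D.ev k
  simp only at h ⊢
  have h1 : ∃ x, D.f x = (D.η : K2) ^ k := by
    obtain ⟨c, d, h0, h1, -⟩ := e
    have a := h1 0
    have b := h1 1
    rw [h, map_zero, zero_mul, zero_add] at b
    by_cases hc : c 1 = 0
    · have : c 0 ≠ 0 := fun e => h0 (by rw [e, hc]; ring)
      rw [hc, mul_zero, add_zero] at a
      exact ⟨_, mul_right_cancel₀ this a⟩
    · exact ⟨_, mul_right_cancel₀ hc b⟩
  obtain ⟨x, hx⟩ := h1
  have h2 : ((D.η : K2) ^ k) ^ 64 = (D.η : K2) ^ k := by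
    rw [← hx, ← map_pow, ← D.card, FiniteField.pow_card]
  have h3 : ((D.η : K2) ^ k) ^ 65 = 1 := by
    rw [← pow_mul, mul_comm, pow_mul, ← Units.val_pow_eq_pow_val, ← D.hη, pow_orderOf_eq_one, Units.val_one, one_pow]
  have h4 : ((D.η : K2) ^ k) ^ 2 = 1 := by rw [← h3, pow_succ _ 64, h2, sq]
  have h5 : (D.η : K2) ^ k = 1 := by
    rw [← h3, show 65 = 2 * 32 + 1 from rfl, pow_succ _ (2 * 32), pow_mul, h4, one_pow, one_mul]
  rw [h5] at e
  exact E83.ev_one e

/-- the nonsplit torus is transitive on the points -/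
theorem trans (x : F) : ∃ z ∈ Subgroup.zpowers D.s, z 0 0 = x * z 1 0 := by
  classical
  let φ : Subgroup.zpowers D.s → Option F := fun z => if z.1 1 0 = 0 then none else some (z.1 0 0 / z.1 1 0)
  have hi : Injective φ := fun a b hab => by
    have h1 : a.1 0 0 * b.1 1 0 = a.1 1 0 * b.1 0 0 := by
      simp only [φ] at hab
      split_ifs at hab with h1 h2 h2
      · rw [h1, h2]; ring
      · have := Option.some.inj hab
        field_simp at this
        linear_combination this
    have e : b.1 = a.1 * (a⁻¹ * b).1 := by simp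
    have h2 := tb D (a⁻¹ * b).2 (by
      rw [e] at h1
      generalize (a⁻¹ * b).1 = z at h1
      simp only [mul_ap] at h1
      linear_combination h1 - z 1 0 * det2 a.1)
    exact Subtype.ext (by rw [e, h2, mul_one])
  have hs := (hi.bijective_of_nat_card_le (by
    rw [Nat.card_zpowers, D.ord_s, Nat.card_eq_fintype_card, Fintype.card_option, D.card])).2
  obtain ⟨z, hz⟩ := hs (some x)
  simp only [φ] at hz
  split_ifs at hz with h1
  exact ⟨z.1, z.2, by rw [← Option.some.inj hz, div_mul_cancel₀ _ h1]⟩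

/-- involutions are conjugate to transvections under the nonsplit torus -/
theorem invol {v : SL(2, F)} (h : v * v = 1) : ∃ z ∈ Subgroup.zpowers D.s, ∃ r, v = z * up r * z⁻¹ := by
  have key : ∃ z ∈ Subgroup.zpowers D.s, (z⁻¹ * v * z) 1 0 = 0 := by
    by_cases h1 : v 1 0 = 0
    · exact ⟨1, one_mem _, by simpa using h1⟩
    · obtain ⟨z, hz, e⟩ := trans D ((v 0 0 + 1) / v 1 0)
      refine ⟨z, hz, ?_⟩
      have a := congrArg (fun g : SL(2, F) => g 0 0) h
      have b := congrArg (fun g : SL(2, F) => g 1 0) h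
      simp only [mul_ap] at a b
      have a' : v 0 0 * v 0 0 + v 0 1 * v 1 0 = 1 := a
      have b' : v 1 1 = - v 0 0 := mul_left_cancel₀ h1 (by
        have : v 1 0 * v 0 0 + v 1 1 * v 1 0 = 0 := b
        linear_combination this)
      rw [cj10, e, b']
      field_simp
      linear_combination (-z 1 0 ^ 2) * a' + (z 1 0 ^ 2 * 0) * D.two
  obtain ⟨z, hz, e⟩ := key
  obtain ⟨r, hr⟩ := inv_up D (x := z⁻¹ * v * z) (by
    rw [show z⁻¹ * v * z * (z⁻¹ * v * z) = z⁻¹ * (v * v) * z by group, h]; group) e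
  exact ⟨z, hz, r, by rw [← hr]; group⟩

theorem up2 (t : F) : up t * up t = 1 := by
  rw [← up_add, ← two_mul, D.two, zero_mul, up_zero]

omit D [Fintype F] in
theorem up1 : (up 1 : SL(2, F)) ≠ 1 := fun e => by simpa [up] using congrArg (fun g : SL(2, F) => g 0 1) e

omit D [Fintype F] in
theorem upc (r t : F) : Commute (up r) (up t) := by
  rw [Commute, SemiconjBy, ← up_add, ← up_add, add_comm]

/-- an automorphism fixing `s` and the group of upper transvections is trivial -/
theorem core (κ : SL(2, F) →* SL(2, F)) (hi : Injective κ) (hs : κ D.s = D.s) {t : F} (h : κ (up 1) = up t)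
    (u : SL(2, F)) : κ u = u := by
  have n1 : ∀ {v r}, v ≠ 1 → κ v = up r → r ≠ 0 := fun hv e e' => hv (hi (by rw [e, e', up_zero, map_one]))
  have a : ∀ v, v * v = 1 → Commute (κ v) v := fun v hv => by
    obtain ⟨z, ⟨k, rfl⟩, r, rfl⟩ := invol D hv
    obtain ⟨r', hr⟩ := cup D (n1 up1 h) (h ▸ (upc r 1).map κ)
    simp only [map_mul, map_inv, map_zpow, hs, hr]
    exact (upc r' r).conj _
  refine (inv_mul_eq_one.1 (scal D fun g => ?_)).symm
  have i1 : ∀ x : SL(2, F), x * up 1 * x⁻¹ * (x * up 1 * x⁻¹) = 1 := fun x => by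
    rw [show x * up 1 * x⁻¹ * (x * up 1 * x⁻¹) = x * (up 1 * up 1) * x⁻¹ by group, up2 D]; group
  have c1 := (a _ (i1 g)).conj g⁻¹
  rw [show g⁻¹ * (g * up 1 * g⁻¹) * g⁻¹⁻¹ = up 1 by group] at c1
  obtain ⟨t1, h1⟩ := cup D one_ne_zero c1
  have c2 := (a _ (i1 (u * g))).conj (u * g)⁻¹
  rw [show (u * g)⁻¹ * (u * g * up 1 * (u * g)⁻¹) * (u * g)⁻¹⁻¹ = up 1 by group] at c2
  obtain ⟨t2, h2⟩ := cup D one_ne_zero c2
  refine low (t := t1) (r := t2) (fun e => up1 (F := F) ?_) ?_
  · rw [e, up_zero, conj_eq_one_iff, ← map_one κ, hi.eq_iff, conj_eq_one_iff] at h1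
    exact h1
  · rw [← h1, ← h2]
    simp only [map_mul, map_inv]
    group

end Cen

/-- the nonsplit torus is self-centralising in `H` -/
theorem cen_s {F : Type*} [Field F] [Fintype F] (D : Dt F) {G : Type*} [Group G] {H : Subgroup G}
    {θ : SL(2, F) →* G} (E : Emb2 H θ) {h : G} (hh : h ∈ H) (hc : Commute h (θ D.s)) :
    h ∈ Subgroup.zpowers (θ D.s) := by
  choose κ hκ using E.norm h hh
  have hm : ∀ a b, κ (a * b) = κ a * κ b := fun a b => E.inj (by rw [map_mul, ← hκ, ← hκ, ← hκ, map_mul]; group)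
  obtain ⟨z, hz, r, hr⟩ := Cen.invol D (v := κ (up 1)) (E.inj (by
    rw [← hm, ← hκ, Cen.up2 D, map_one]; group))
  have hzs : Commute z D.s := by
    obtain ⟨k, rfl⟩ := hz
    exact (Commute.refl _).zpow_left k
  have hi : Injective κ := fun a b e => E.inj (by
    have := congrArg θ e
    rw [← hκ, ← hκ] at this
    simpa using this)
  have a := Cen.core D ((MulAut.conj z⁻¹).toMonoidHom.comp (MonoidHom.mk' κ hm)) ((MulAut.conj z⁻¹).injective.comp hi)
    (by
      have : κ D.s = D.s := E.inj (by rw [← hκ, hc.eq]; group)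
      change z⁻¹ * κ D.s * z⁻¹⁻¹ = _
      rw [this, hzs.inv_left.eq]; group)
    (t := r) (by
      change z⁻¹ * κ (up 1) * z⁻¹⁻¹ = _
      rw [hr]; group)
  have b := E.cen ((θ z)⁻¹ * h) (mul_mem (inv_mem (E.le z)) hh) fun g => by
    have := congrArg θ (a g)
    change θ (z⁻¹ * κ g * z⁻¹⁻¹) = _ at this
    rw [map_mul, map_mul, ← hκ, map_inv, map_inv, map_inv] at this
    rw [Commute, SemiconjBy]
    conv_rhs => rw [← this]
    group
  rw [← inv_mul_eq_one.1 b]
  obtain ⟨k, rfl⟩ := hz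
  exact ⟨k, (map_zpow θ _ _).symm⟩

end CL.E82
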