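/-
`E₈(2)`, `L₂(64)`: divided powers.
-/
import Cfsg.Agent.KSG.E82.Grp

set_option autoImplicit false
set_option backward.isDefEq.respectTransparency false

namespace CL.E82
open Module Function Finset CL.SL2Wt CL.Chev CL.AltE Cfsg.Lie
open Matrix hiding zpow_add zpow_mul zpow_sub one_zpow
open scoped MatrixGroups

variable {F : Type*} [Field F] [Fintype F] (D : Dt F) {W : Type} [AddCommGroup W] [Module K2 W]
  [FiniteDimensional K2 W] (ρ : SL(2, F) →* End K2 W)

omit [FiniteDimensional K2 W]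

namespace DivA

theorem two : (2 : K2) = 0 := CharP.cast_eq_zero K2 2

theorem add_self {M : Type*} [AddCommGroup M] [Module K2 M] (x : M) : x + x = 0 := by
  rw [← two_smul K2, two, zero_smul]

theorem p64 (a : F) : D.f a ^ 64 = D.f a := by
  rw [← map_pow, ← D.card, FiniteField.pow_card]

open Classical in
theorem p63 (a : F) : D.f a ^ 63 = 1 + if a = 0 then 1 else 0 := by
  split_ifs with h
  · rw [h, map_zero, zero_pow (by norm_num)]
    linear_combination -two
  · have h0 : D.f a ≠ 0 := (map_ne_zero D.f).2 h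
    rw [add_zero]
    exact mul_right_cancel₀ h0 (by rw [← pow_succ, p64, one_mul])

open Classical in
theorem geo (a b : F) : ∑ m ∈ range 64, D.f b ^ m * D.f a ^ (63 - m) = 1 + if a = b then 1 else 0 := by
  split_ifs with h
  · rw [h, Finset.sum_congr rfl (g := fun _ => D.f b ^ 63) fun m hm => by
      rw [← pow_add]; congr 1; have := Finset.mem_range.1 hm; omega]
    simp only [Finset.sum_const, Finset.card_range, nsmul_eq_mul]
    push_cast
    linear_combination (32 * D.f b ^ 63 - 1) * two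
  · have h0 : D.f b - D.f a ≠ 0 := sub_ne_zero.2 fun e => h (D.f.injective e).symm
    have := geom_sum₂_mul (D.f b) (D.f a) 64
    rw [p64, p64] at this
    rw [add_zero]
    exact mul_right_cancel₀ h0 (by rw [one_mul]; exact this)

theorem z63 : (D.ζ : K2) ^ 63 = 1 := by
  rw [← Units.val_pow_eq_pow_val, ← D.hζ, pow_orderOf_eq_one, Units.val_one]

theorem wt_congr {k k' : ℕ} (h : k % 63 = k' % 63) : Wt D ρ k = Wt D ρ k' := by
  unfold Wt
  rw [← pow_mod_orderOf _ k, ← pow_mod_orderOf _ k', orderOf_units, D.hζ, h]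

theorem wt_pow {k : ℕ} {v : W} (hv : v ∈ Wt D ρ k) (n : ℕ) : (ρ D.t ^ n) v = (D.ζ : K2) ^ (k * n) • v := by
  have h := Module.End.mem_eigenspace_iff.1 hv
  induction n with
  | zero => simp
  | succ n ih => rw [pow_succ, Module.End.mul_apply, h, map_smul, ih, smul_smul, ← pow_add]; congr 2; ring

include D in
theorem ww2 : (ww : SL(2, F)) * ww = 1 := by
  have := pow_orderOf_eq_one (ww : SL(2, F))
  rwa [D.ord_w, sq] at this

include D in
theorem rww : ρ ww * ρ ww = 1 := by rw [← map_mul, ww2 D, map_one]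

theorem XX0 : XX D ρ 0 = 1 := if_pos rfl

theorem YY0 : YY D ρ 0 = 1 := by rw [YY, XX0, mul_one, rww D]

/-- projection to the fixed space -/
theorem proj {k : ℕ} {v : W} (hv : v ∈ Wt D ρ k) :
    (∑ n ∈ range 63, ρ D.t ^ n) v = if k % 63 = 0 then v else 0 := by
  rw [LinearMap.sum_apply, Finset.sum_congr rfl fun n _ => wt_pow D ρ hv n, ← Finset.sum_smul]
  simp only [pow_mul]
  have h1 : (D.ζ : K2) ^ k = 1 ↔ k % 63 = 0 := by
    rw [← Nat.dvd_iff_mod_eq_zero, ← D.hζ, ← orderOf_units, orderOf_dvd_iff_pow_eq_one]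
  split_ifs with h
  · rw [h1.2 h]
    simp only [one_pow, Finset.sum_const, Finset.card_range, nsmul_eq_mul, mul_one]
    rw [show ((63 : ℕ) : K2) = 1 by push_cast; linear_combination 31 * two, one_smul]
  · have h2 := mul_geom_sum ((D.ζ : K2) ^ k) 63
    rw [← pow_mul, mul_comm k, pow_mul, z63, one_pow, sub_self] at h2
    rw [(mul_eq_zero.1 h2).resolve_left (sub_ne_zero.2 (mt h1.1 h)), zero_smul]

end DivA
open DivA

/-- PROOF: Σ_{m ≤ 63} b^m a^(63-m) picks a = b: for a ≠ b nonzero it is a geometric sum; treat a = 0, b = 0. -/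
theorem up_eq (b : F) : ρ (up b) = ∑ m ∈ range 64, D.f b ^ m • XX D ρ m := by
  classical
  have h1 : ∑ m ∈ range 64, D.f b ^ m • ∑ a : F, D.f a ^ (63 - m) • ρ (up a) = ∑ a : F, ρ (up a) + ρ (up b) := by
    simp only [Finset.smul_sum, smul_smul]
    rw [Finset.sum_comm]
    simp only [← Finset.sum_smul, geo, add_smul, one_smul, ite_smul, zero_smul, Finset.sum_add_distrib,
      Finset.sum_ite_eq', Finset.mem_univ, if_true]
  have h2 : ∑ a : F, D.f a ^ 63 • ρ (up a) = ∑ a : F, ρ (up a) + 1 := by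
    simp only [p63, add_smul, one_smul, ite_smul, zero_smul, Finset.sum_add_distrib,
      Finset.sum_ite_eq', Finset.mem_univ, if_true, up_zero, map_one]
  rw [Finset.sum_range_succ', pow_zero, one_smul, Nat.sub_zero, h2] at h1
  rw [Finset.sum_range_succ', pow_zero, one_smul, XX0]
  simp only [XX, Nat.succ_ne_zero, if_false]
  rw [← add_left_cancel_iff (a := ∑ a : F, ρ (up a)), ← h1]
  abel

/-- uniqueness of the coefficients: multiply by f(b)^(63-n) and sum over b (power sums over F), or Vandermonde -/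
theorem coeff_zero {M : Type*} [AddCommGroup M] [Module K2 M] (x : ℕ → M)
    (h : ∀ b : F, ∑ m ∈ range 64, D.f b ^ m • x m = 0) : ∀ m < 64, x m = 0 := by
  intro m hm
  rw [← Module.forall_dual_apply_eq_zero_iff K2]
  intro φ
  let e : Fin 64 ≃ F := (Fintype.equivFinOfCardEq D.card).symm
  have := Matrix.eq_zero_of_forall_index_sum_pow_mul_eq_zero (f := fun j => D.f (e j)) (v := fun i : Fin 64 => φ (x i))
    (D.f.injective.comp e.injective) fun j => by
      have h1 := congrArg φ (h (e j))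
      rw [map_sum, map_zero, Finset.sum_range] at h1
      simpa only [map_smul, smul_eq_mul] using h1
  exact congrFun this ⟨m, hm⟩

/-- PROOF: ρ(up(a+b)) = ρ(up a) ρ(up b), `up_eq`, `add_pow`, `coeff_zero` twice; (m+n).choose m is odd for disjoint bits
(decide on m, n < 64). -/
theorem XX_mul {m n : ℕ} (hm : m < 64) (hn : n < 64) (h : m &&& n = 0) : XX D ρ m * XX D ρ n = XX D ρ (m + n) := by
  have h1 : ∀ a b : F, ∑ i ∈ range 64, D.f a ^ i • ∑ j ∈ range 64, D.f b ^ j • (XX D ρ i * XX D ρ j -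
      if i + j < 64 then (((i + j).choose i : ℕ) : K2) • XX D ρ (i + j) else 0) = 0 := by
    intro a b
    simp only [smul_sub, Finset.sum_sub_distrib]
    rw [sub_eq_zero]
    have e1 : ∑ i ∈ range 64, D.f a ^ i • ∑ j ∈ range 64, D.f b ^ j • (XX D ρ i * XX D ρ j) = ρ (up (a + b)) := by
      rw [up_add, map_mul, up_eq D ρ a, up_eq D ρ b, Finset.sum_mul]
      refine Finset.sum_congr rfl fun i _ => ?_
      rw [smul_mul_assoc, Finset.mul_sum]
      simp only [mul_smul_comm]
    rw [e1, up_eq D ρ (a + b), map_add]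
    simp only [add_pow, Finset.sum_smul]
    have e2 := Finset.sum_range_diag_flip 64
      (fun i j => (D.f a ^ i * D.f b ^ j * (((i + j).choose i : ℕ) : K2)) • XX D ρ (i + j))
    rw [Finset.sum_congr rfl fun k _ => Finset.sum_congr rfl fun i hi => by
      rw [Nat.add_sub_cancel' (Nat.lt_succ_iff.1 (Finset.mem_range.1 hi))]] at e2
    rw [e2]
    refine Finset.sum_congr rfl fun i hi => ?_
    rw [Finset.smul_sum]
    simp only [smul_ite, smul_zero, smul_smul]
    rw [← Finset.sum_filter]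
    refine Finset.sum_congr (by ext j; simp only [Finset.mem_range, Finset.mem_filter]; omega) fun j _ => ?_
    rw [mul_assoc]
  have h2 := coeff_zero D _ (fun b => coeff_zero D _ (fun a => h1 a b) m hm) n hn
  have h3 : ∀ m < 64, ∀ n < 64, m &&& n = 0 → m + n < 64 ∧ (m + n).choose m % 2 = 1 := by
    simp only [Nat.choose_eq_fast_choose]
    decide +kernel
  obtain ⟨h4, h5⟩ := h3 m hm n hn h
  rw [if_pos h4, CharP.cast_eq_mod K2 2, h5, Nat.cast_one, one_smul, sub_eq_zero] at h2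
  exact h2

/-- t up(a) t⁻¹ = up(c² a) -/
theorem XX_wt {m : ℕ} (hm : m < 64) {k : ℕ} {v : W} (hv : v ∈ Wt D ρ k) : XX D ρ m v ∈ Wt D ρ (k + 2 * m) := by
  have h1 : ∀ a : F, ∑ i ∈ range 64, D.f a ^ i • (ρ D.t * XX D ρ i - (D.ζ : K2) ^ (2 * i) • (XX D ρ i * ρ D.t)) = 0 := by
    intro a
    have e : D.t * up a = up (D.c * D.c * a) * D.t := ext4 (by simp [Dt.t, up, dg, mul_ap]; field_simp)
    have e' := congrArg ρ e
    rw [map_mul, map_mul, up_eq D ρ, up_eq D ρ, Finset.mul_sum, Finset.sum_mul] at e'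
    simp only [smul_sub, Finset.sum_sub_distrib]
    rw [sub_eq_zero]
    simp only [mul_smul_comm, smul_mul_assoc] at e'
    rw [e']
    refine Finset.sum_congr rfl fun i _ => ?_
    rw [smul_smul]
    congr 1
    simp only [map_mul, Dt.ζ, Units.coe_map, RingHom.toMonoidHom_eq_coe, MonoidHom.coe_coe]
    ring
  have h2 := LinearMap.congr_fun (sub_eq_zero.1 (coeff_zero D _ h1 m hm)) v
  rw [Module.End.mem_eigenspace_iff] at hv ⊢
  rw [Module.End.mul_apply, LinearMap.smul_apply, Module.End.mul_apply, hv, map_smul, smul_smul, ← pow_add,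
    add_comm] at h2
  exact h2

/-- `Dt.w_t` -/
theorem ww_wt {k : ℕ} {v : W} (hv : v ∈ Wt D ρ k) : ρ ww v ∈ Wt D ρ (62 * k) := by
  have e : D.t * ww = ww * D.t ^ 62 := by
    have h1 : D.t⁻¹ = D.t ^ 62 := inv_eq_of_mul_eq_one_left (by
      have := pow_orderOf_eq_one D.t
      rwa [D.ord_t, pow_succ] at this)
    rw [← h1, ← D.w_t, ← mul_assoc, ← mul_assoc, ww2 D, one_mul]
  rw [Module.End.mem_eigenspace_iff, ← Module.End.mul_apply, ← map_mul, e, map_mul, map_pow, Module.End.mul_apply,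
    wt_pow D ρ hv, map_smul, mul_comm]

theorem YY_wt {m : ℕ} (hm : m < 64) {k : ℕ} {v : W} (hv : v ∈ Wt D ρ (k + 2 * m)) : YY D ρ m v ∈ Wt D ρ k := by
  have := ww_wt D ρ (XX_wt D ρ hm (ww_wt D ρ hv))
  rwa [wt_congr D ρ (k' := k) (by omega)] at this

/-- PROOF: y = ww * up 1 * ww satisfies ww * y = y * up 1 (char 2); ρ y = Σ_m YY m.  Apply to v and project to the fixed
space of t by π = Σ_{k<63} ρ t^k (π = 1 on Wt 0, 0 on Wt k, 63 ∤ k): left: ww (v + YY 63 v), right: Σ_{m ≡ n mod 63} YY m XX n v;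
XX 63 v = 0 = YY 63 v by `hU` (ww v is fixed by t). -/
theorem key (hU : ∀ v, ρ D.t v = v → ∑ a : F, ρ (up a) v = 0) {v : W} (hv : ρ D.t v = v) :
    ρ ww v - v = ∑ m ∈ Ioo 0 63, YY D ρ m (XX D ρ m v) := by
  have hv0 : v ∈ Wt D ρ 0 := by rw [Module.End.mem_eigenspace_iff, pow_zero, one_smul, hv]
  have x63 : ∀ u ∈ Wt D ρ 0, XX D ρ 63 u = 0 := fun u hu => by
    rw [Module.End.mem_eigenspace_iff, pow_zero, one_smul] at hu
    simpa [XX, LinearMap.sum_apply] using hU u hu
  have y63 : YY D ρ 63 v = 0 := by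
    have h1 := ww_wt D ρ hv0
    rw [mul_zero] at h1
    rw [YY, Module.End.mul_apply, Module.End.mul_apply, x63 _ h1, map_zero]
  have h2 := D.two
  have e : (ww : SL(2, F)) * (ww * up 1 * ww) = ww * up 1 * ww * up 1 := ext4 (by
    simp only [mul_ap, ww, up, mk00, mk01, mk10, mk11]
    exact ⟨by ring, by linear_combination h2, by linear_combination -h2, by ring⟩)
  have u1 : ρ (up 1) = ∑ m ∈ range 64, XX D ρ m := by
    rw [up_eq D ρ]; simp only [map_one, one_pow, one_smul]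
  have y1 : ρ (ww * up 1 * ww) = ∑ m ∈ range 64, YY D ρ m := by
    rw [map_mul, map_mul, u1, Finset.mul_sum, Finset.sum_mul]; rfl
  have e1 : ∑ m ∈ range 63, ρ ww (YY D ρ m v) = ∑ m ∈ range 64, ∑ j ∈ range 63, YY D ρ m (XX D ρ j v) := by
    have a1 : ρ (up 1) v = ∑ j ∈ range 63, XX D ρ j v := by
      rw [u1, LinearMap.sum_apply, Finset.sum_range_succ, x63 v hv0, add_zero]
    have a2 : ρ (ww * up 1 * ww) v = ∑ j ∈ range 63, YY D ρ j v := by
      rw [y1, LinearMap.sum_apply, Finset.sum_range_succ, y63, add_zero]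
    have a3 := LinearMap.congr_fun (congrArg ρ e) v
    have a4 : ∀ u, ρ (ww * up 1 * ww) u = ∑ j ∈ range 64, YY D ρ j u := fun u => by
      rw [y1, LinearMap.sum_apply]
    rw [map_mul ρ ww, map_mul ρ _ (up 1), Module.End.mul_apply, Module.End.mul_apply, a1, a2, a4] at a3
    simpa only [map_sum] using a3
  have e2 : (∑ n ∈ range 63, ρ D.t ^ n) (∑ m ∈ range 63, ρ ww (YY D ρ m v)) =
      (∑ n ∈ range 63, ρ D.t ^ n) (∑ m ∈ range 64, ∑ j ∈ range 63, YY D ρ m (XX D ρ j v)) := by rw [e1]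
  simp only [map_sum] at e2
  have l1 : ∀ m ∈ range 63, (∑ n ∈ range 63, ρ D.t ^ n) (ρ ww (YY D ρ m v)) = if m = 0 then ρ ww v else 0 := by
    intro m hm
    have hm' := Finset.mem_range.1 hm
    have h1 : v ∈ Wt D ρ (61 * m + 2 * m) := by rwa [wt_congr D ρ (k' := 0) (by omega)]
    rw [proj D ρ (ww_wt D ρ (YY_wt D ρ (by omega) h1))]
    by_cases h : m = 0
    · rw [h, YY0]; rfl
    · rw [if_neg h, if_neg (by omega)]
  have l2 : ∀ m ∈ range 64, ∑ j ∈ range 63, (∑ n ∈ range 63, ρ D.t ^ n) (YY D ρ m (XX D ρ j v)) =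
      YY D ρ m (XX D ρ (m % 63) v) := by
    intro m hm
    have hm' := Finset.mem_range.1 hm
    have h3 : ∀ j ∈ range 63, (∑ n ∈ range 63, ρ D.t ^ n) (YY D ρ m (XX D ρ j v)) =
        if j = m % 63 then YY D ρ m (XX D ρ j v) else 0 := by
      intro j hj
      have hj' := Finset.mem_range.1 hj
      have h1 : XX D ρ j v ∈ Wt D ρ (61 * m + 2 * j + 2 * m) := by
        rw [wt_congr D ρ (k' := 0 + 2 * j) (by omega)]
        exact XX_wt D ρ (by omega) hv0
      rw [proj D ρ (YY_wt D ρ hm' h1)]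
      exact if_congr (by omega) rfl rfl
    rw [Finset.sum_congr rfl h3, Finset.sum_ite_eq', if_pos (Finset.mem_range.2 (Nat.mod_lt _ (by norm_num)))]
  rw [Finset.sum_congr rfl l1, Finset.sum_congr rfl l2, Finset.sum_ite_eq', if_pos (by simp), Finset.sum_range_succ _ 63,
    Nat.mod_self, XX0, Module.End.one_apply, y63, add_zero,
    Finset.sum_congr rfl (g := fun m => YY D ρ m (XX D ρ m v)) fun m hm => by
      rw [Nat.mod_eq_of_lt (Finset.mem_range.1 hm)]] at e2
  rw [e2, show range 63 = insert 0 (Ioo 0 63) by decide, Finset.sum_insert (by simp), XX0, YY0]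
  simp

/-- regroup by the bit `asg m` (2 ^ asg m is a bit of m for 0 < m < 63, asg m < 6: decide); `XX_mul`, ww² = 1 -/
theorem key2 (v : W) : ∑ m ∈ Ioo 0 63, YY D ρ m (XX D ρ m v) =
    ∑ i ∈ range 6, YY D ρ (2 ^ i) (CC D ρ i (XX D ρ (2 ^ i) v)) := by
  have h : ∀ m ∈ Ioo 0 63, asg m ∈ range 6 ∧ 2 ^ asg m ≤ m ∧ m < 64 ∧ 2 ^ asg m &&& (m - 2 ^ asg m) = 0 ∧
      (m - 2 ^ asg m) &&& 2 ^ asg m = 0 := by decide +kernel
  rw [← Finset.sum_fiberwise_of_maps_to (g := asg) fun m hm => (h m hm).1]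
  refine Finset.sum_congr rfl fun i _ => ?_
  rw [CC, LinearMap.sum_apply, map_sum]
  refine Finset.sum_congr rfl fun m hm => ?_
  obtain ⟨hm', rfl⟩ := Finset.mem_filter.1 hm
  obtain ⟨-, h1, h2, h3, h4⟩ := h m hm'
  have e1 := XX_mul D ρ (h1.trans_lt h2) ((Nat.sub_le _ _).trans_lt h2) h3
  have e2 := XX_mul D ρ ((Nat.sub_le _ _).trans_lt h2) (h1.trans_lt h2) h4
  rw [Nat.add_sub_cancel' h1] at e1
  rw [Nat.sub_add_cancel h1] at e2
  have e3 : YY D ρ (2 ^ asg m) * YY D ρ (m - 2 ^ asg m) = YY D ρ m := by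
    simp only [YY]
    rw [← e1]
    simp only [mul_assoc]
    rw [← mul_assoc (ρ ww) (ρ ww), rww D, one_mul]
  conv_lhs => rw [← e3, ← e2]
  rfl

theorem CC_wt (i k : ℕ) {v : W} (hv : v ∈ Wt D ρ k) : CC D ρ i v ∈ Wt D ρ k := by
  rw [CC, LinearMap.sum_apply]
  refine Submodule.sum_mem _ fun m hm => ?_
  have : m - 2 ^ i < 64 :=
    (Nat.sub_le _ _).trans_lt ((Finset.mem_Ioo.1 (Finset.mem_filter.1 hm).1).2.trans (by norm_num))
  exact YY_wt D ρ this (XX_wt D ρ this hv)

/-- U, t and ww generate SL₂(F) (Bruhat) -/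
theorem gen {M : Type*} [Monoid M] {j : SL(2, F) →* M} {P : M → Prop} (hm : ∀ a b, P a → P b → P (a * b))
    (hu : ∀ a, P (j (up a))) (ht : P (j D.t)) (hw : P (j ww)) (g : SL(2, F)) : P (j g) := by
  have h1 : ∀ n : ℕ, P (j (D.t ^ n)) := fun n => by
    induction n with
    | zero => rw [pow_zero, ← up_zero]; exact hu 0
    | succ n ih => rw [pow_succ, map_mul]; exact hm _ _ ih ht
  have h2 : ∀ a : Fˣ, P (j (dg a)) := fun a => by
    have : a⁻¹ ∈ Subgroup.zpowers D.c := by
      rw [Subgroup.eq_top_of_card_eq (Subgroup.zpowers D.c)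
        (by rw [Nat.card_zpowers, D.hc, Nat.card_units, Nat.card_eq_fintype_card, D.card])]
      trivial
    obtain ⟨n, hn⟩ := (mem_powers_iff_mem_zpowers.2 this : a⁻¹ ∈ Submonoid.powers D.c)
    have := h1 n
    rwa [Dt.t, dg_pow, inv_pow, show D.c ^ n = a⁻¹ from hn, inv_inv] at this
  have h3 : ∀ g : SL(2, F), g 1 0 = 0 → P (j g) := fun g hg => by
    have hd := g.det_coe
    rw [Matrix.det_fin_two, hg, mul_zero, sub_zero] at hd
    have h0 : g 1 1 ≠ 0 := right_ne_zero_of_mul_eq_one hd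
    have e : g = up (g 0 1 * g 0 0) * dg (Units.mk0 _ h0) := ext4 (by
      simp only [mul_ap, up, dg, mk00, mk01, mk10, mk11, Units.val_mk0, hg]
      refine ⟨?_, ?_, by simp, by simp⟩
      · rw [eq_inv_of_mul_eq_one_left hd]; simp
      · linear_combination (- g 0 1) * hd)
    rw [e, map_mul]
    exact hm _ _ (hu _) (h2 _)
  by_cases hg : g 1 0 = 0
  · exact h3 g hg
  · have e : g = up (g 0 0 / g 1 0) * (ww * (ww * (up (-(g 0 0 / g 1 0)) * g))) := by
      rw [← mul_assoc ww, ww2 D, one_mul, ← mul_assoc, ← up_add, add_neg_cancel, up_zero, one_mul]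
    rw [e, map_mul, map_mul]
    refine hm _ _ (hu _) (hm _ _ hw (h3 _ ?_))
    simp only [mul_ap, ww, up, mk00, mk01, mk10, mk11]
    field_simp
    ring

end CL.E82
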