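/-
`E₈(2)`, `L₂(64)`: the middle factor is injective.
-/
import Cfsg.Agent.KSG.E82.DivA
import Cfsg.Agent.KSG.E82.Ty

set_option autoImplicit false
set_option backward.isDefEq.respectTransparency false

namespace CL.E82
open Module Function Finset CL.SL2Wt CL.Chev CL.AltE Cfsg.Lie
open Matrix hiding zpow_add zpow_mul zpow_sub one_zpow
open scoped MatrixGroups

variable {F : Type*} [Field F] [Fintype F] (D : Dt F) {W : Type} [AddCommGroup W] [Module K2 W]
  [FiniteDimensional K2 W] (ρ : SL(2, F) →* End K2 W)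

namespace DivB

theorem num : ∀ r ∈ LG, ∀ m ∈ Ioo 0 63, m ≠ 2 ^ asg m →
    cw 63 r (2 ^ (asg m + 1)) = 0 ∨ cw 63 r (2 ^ (asg m + 1) + 2 * (m - 2 ^ asg m)) = 0 := by decide +kernel

theorem num2 : ∀ i < 6, 2 ^ i ∈ (Ioo 0 63).filter (asg · = i) := by decide

omit [FiniteDimensional K2 W] in
theorem CC_map {W' : Type} [AddCommGroup W'] [Module K2 W'] (ρ' : SL(2, F) →* End K2 W') (f : W →ₗ[K2] W')
    (hf : ∀ g v, f (ρ g v) = ρ' g (f v)) (i : ℕ) (v : W) : f (CC D ρ i v) = CC D ρ' i (f v) := by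
  have x : ∀ m v, f (XX D ρ m v) = XX D ρ' m (f v) := fun m v => by
    unfold XX
    split_ifs
    · rfl
    · simp only [LinearMap.sum_apply, LinearMap.smul_apply, map_sum, map_smul, hf]
  simp only [CC, YY, LinearMap.sum_apply, End.mul_apply, map_sum, hf, x]

theorem zero {r k : ℕ} (h : Ty D ρ {r}) (h0 : cw 63 r k = 0) {v : W} (hv : v ∈ Wt D ρ k) : v = 0 := by
  have := h.dim_t D ρ k
  rw [Multiset.map_singleton, Multiset.sum_singleton, h0, Submodule.finrank_eq_zero] at this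
  rwa [this] at hv

end DivB

theorem CC_inj {R : Multiset ℕ} (h : Ty D ρ R) (hR : ∀ r ∈ R, r ∈ LG) {i : ℕ} (hi : i < 6) {v : W}
    (hv : v ∈ Wt D ρ (2 ^ (i + 1))) (h0 : CC D ρ i v = 0) : v = 0 := by
  refine ind D ρ (· ∈ LG) (fun W _ _ _ ρ => ∀ v ∈ Wt D ρ (2 ^ (i + 1)), CC D ρ i v = 0 → v = 0)
    (fun _ _ _ _ _ _ _ _ _ => Subsingleton.elim _ _) (fun W _ _ _ ρ r φ z hr S v hv h0 => ?_)
    (fun W _ _ _ ρ U hU h1 h2 v hv h0 => ?_) h hR v hv h0
  · by_contra n
    rw [CC, LinearMap.sum_apply, sum_eq_single_of_mem _ (DivB.num2 i hi) fun m hm ne => ?_] at h0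
    · have e : (ww : SL(2, F)) * ww = 1 := by
        have := pow_orderOf_eq_one (ww : SL(2, F))
        rwa [D.ord_w, pow_two] at this
      simp only [Nat.sub_self, YY, XX, if_true, mul_one, ← map_mul, e, map_one] at h0
      exact n h0
    · obtain ⟨hm', rfl⟩ := mem_filter.1 hm
      rw [End.mul_apply, DivB.zero D ρ S.ty ((DivB.num r hr m hm' ne).resolve_left fun e => n (DivB.zero D ρ S.ty e hv))
        (XX_wt D ρ ((Nat.sub_le _ _).trans_lt ((mem_Ioo.1 hm').2.trans (by decide))) hv), map_zero]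
  · rw [End.mem_eigenspace_iff] at hv
    have hu : v ∈ U := (Submodule.Quotient.mk_eq_zero U).1 (h2 (U.mkQ v)
      (End.mem_eigenspace_iff.2 (by rw [quoR_mk, hv, map_smul]))
      (by rw [← DivB.CC_map D ρ _ U.mkQ fun g v => (quoR_mk ρ U hU g v).symm, h0, map_zero]))
    exact congrArg Subtype.val (h1 ⟨v, hu⟩ (End.mem_eigenspace_iff.2 (Subtype.ext hv))
      (Subtype.ext ((DivB.CC_map D (subR ρ U hU) ρ U.subtype (fun _ _ => rfl) i _).trans h0)))

end CL.E82
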