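/-
`E₈(2)`, `L₂(64)`: the rank of the involution on the fixed space of the split torus.
-/
import Cfsg.Agent.KSG.E82.DivB

set_option autoImplicit false
set_option backward.isDefEq.respectTransparency false

namespace CL.E82
open Module Function Finset CL.SL2Wt CL.Chev CL.AltE Cfsg.Lie
open Matrix hiding zpow_add zpow_mul zpow_sub one_zpow
open scoped MatrixGroups

variable {F : Type*} [Field F] [Fintype F] (D : Dt F) {W : Type} [AddCommGroup W] [Module K2 W]
  [FiniteDimensional K2 W] (ρ : SL(2, F) →* End K2 W)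

namespace DivC

theorem lt6 : ∀ i < 6, 2 ^ i < 64 ∧ 2 * 2 ^ i ≤ 126 := by decide

theorem bit : ∀ m < 64, 0 < m → ∃ i < 6, 2 ^ i ≤ m ∧ (m - 2 ^ i) &&& 2 ^ i = 0 ∧ 2 ^ i &&& (m - 2 ^ i) = 0 := by
  decide +kernel

include D in
omit [FiniteDimensional K2 W] in
theorem ww2 : ρ ww * ρ ww = 1 := by
  have := pow_orderOf_eq_one (ww : SL(2, F))
  rw [D.ord_w] at this
  rw [← map_mul, ← sq, this, map_one]

omit [FiniteDimensional K2 W] in
theorem YY_mul {m n : ℕ} (hm : m < 64) (hn : n < 64) (h : m &&& n = 0) :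
    YY D ρ m * YY D ρ n = YY D ρ (m + n) := by
  unfold YY
  rw [← XX_mul D ρ hm hn h]
  calc ρ ww * XX D ρ m * ρ ww * (ρ ww * XX D ρ n * ρ ww)
      = ρ ww * XX D ρ m * (ρ ww * ρ ww) * XX D ρ n * ρ ww := by simp only [mul_assoc]
    _ = _ := by rw [ww2 D ρ]; simp only [mul_assoc, one_mul]

theorem z63 : (D.ζ : K2) ^ 63 = 1 := by
  rw [← Units.val_pow_eq_pow_val, ← D.hζ, pow_orderOf_eq_one, Units.val_one]

omit [FiniteDimensional K2 W] in
theorem t63 : ρ D.t ^ 63 = 1 := by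
  rw [← map_pow, ← D.ord_t, pow_orderOf_eq_one, map_one]

theorem c63 : ((63 : ℕ) : K2) = 1 := by
  have : ((63 : ℕ) : K2) = ((2 : ℕ) : K2) * 31 + 1 := by push_cast; norm_num
  rw [this, CharP.cast_eq_zero K2 2]; simp

/-- the projection on the fixed space of the torus -/
@[irreducible] noncomputable def pi : End K2 W := ∑ k ∈ range 63, ρ D.t ^ k

omit [FiniteDimensional K2 W] in
theorem pi_t : pi D ρ * ρ D.t = pi D ρ := by
  have : pi D ρ * (ρ D.t - 1) = 0 := by unfold pi; rw [geom_sum_mul, t63, sub_self]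
  rw [mul_sub, sub_eq_zero] at this
  exact this.trans (mul_one _)

omit [FiniteDimensional K2 W] in
theorem pi_fix {v : W} (hv : ρ D.t v = v) : pi D ρ v = v := by
  have : ∀ k, (ρ D.t ^ k) v = v := fun k => by
    induction k with
    | zero => rfl
    | succ k ih => rw [pow_succ, Module.End.mul_apply, hv, ih]
  unfold pi
  rw [LinearMap.sum_apply]
  simp only [this, sum_const, card_range]
  rw [← Nat.cast_smul_eq_nsmul K2, c63, one_smul]

omit [FiniteDimensional K2 W] in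
theorem pi_zero {μ : K2} (h : μ ≠ 1) {v : W} (hv : v ∈ (ρ D.t).eigenspace μ) : pi D ρ v = 0 := by
  rw [Module.End.mem_eigenspace_iff] at hv
  have e := congrArg (fun e : End K2 W => e v) (pi_t D ρ)
  simp only [Module.End.mul_apply, hv, map_smul] at e
  have : (μ - 1) • pi D ρ v = 0 := by rw [sub_smul, e, one_smul, sub_self]
  exact (smul_eq_zero.1 this).resolve_left (sub_ne_zero.2 h)

/-- a functional which vanishes on all weight spaces vanishes -/
theorem wt_ind (φ : Dual K2 W) (h : ∀ k, ∀ v ∈ Wt D ρ k, φ v = 0) (v : W) : φ v = 0 := by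
  have hs : (ρ D.t).IsSemisimple := by
    refine Module.End.isSemisimple_of_squarefree_aeval_eq_zero
      (p := Polynomial.X ^ 63 - 1) (Polynomial.Separable.squarefree ?_) ?_
    · rw [Polynomial.X_pow_sub_one_separable_iff, c63]; exact one_ne_zero
    · simp [t63 D ρ]
  have ht := hs.iSup_eigenspace_eq_top
  have : (⊤ : Submodule K2 W) ≤ LinearMap.ker φ := by
    rw [← ht]
    refine iSup_le fun μ x hx => ?_
    by_cases x0 : x = 0
    · simp [x0]
    have hx' := Module.End.mem_eigenspace_iff.1 hx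
    have e : ∀ k, (ρ D.t ^ k) x = μ ^ k • x := fun k => by
      induction k with
      | zero => simp
      | succ k ih => rw [pow_succ', Module.End.mul_apply, ih, map_smul, hx', smul_smul, pow_succ]
    have e1 : μ ^ 63 = 1 := by
      have := e 63
      rw [t63 D ρ] at this
      have h2 : (μ ^ 63 - 1) • x = 0 := by rw [sub_smul, ← this, one_smul]; simp
      exact sub_eq_zero.1 ((smul_eq_zero.1 h2).resolve_right x0)
    have pr : IsPrimitiveRoot (D.ζ : K2) 63 := by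
      rw [IsPrimitiveRoot.coe_units_iff, ← D.hζ]; exact IsPrimitiveRoot.orderOf _
    obtain ⟨k, -, rfl⟩ := pr.eq_pow_of_pow_eq_one e1
    exact h k x hx
  exact this Submodule.mem_top

omit [FiniteDimensional K2 W] in
theorem wt0 {v : W} : v ∈ Wt D ρ 0 ↔ ρ D.t v = v := by
  rw [Module.End.mem_eigenspace_iff, pow_zero, one_smul]

omit [FiniteDimensional K2 W] in
theorem YY_fix (i : Fin 6) {u : W} (hu : u ∈ Wt D ρ (2 ^ (i.1 + 1))) : ρ D.t (YY D ρ (2 ^ i.1) u) = YY D ρ (2 ^ i.1) u := by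
  refine (wt0 D ρ).1 (YY_wt D ρ (lt6 _ i.2).1 ?_)
  rwa [zero_add, ← pow_succ']

end DivC
open DivC

omit [FiniteDimensional K2 W] in
/-- PROOF: XX m v = 0 for 0 < m < 64 (XX m = XX (m - 2^i) * XX (2^i) for a bit i of m), so v is fixed by U (`up_eq`), by ww
(`key`), by t; `gen`. -/
theorem alpha_inj (hU : ∀ v, ρ D.t v = v → ∑ a : F, ρ (up a) v = 0) (h1 : NoFix ρ) {v : W} (hv : ρ D.t v = v)
    (h : ∀ i < 6, XX D ρ (2 ^ i) v = 0) : v = 0 := by
  have hx : ∀ m < 64, 0 < m → XX D ρ m v = 0 := fun m hm m0 => by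
    obtain ⟨i, hi, a, b, -⟩ := bit m hm m0
    have := XX_mul D ρ (m := m - 2 ^ i) (n := 2 ^ i) ((Nat.sub_le _ _).trans_lt hm) (lt6 i hi).1 b
    rw [Nat.sub_add_cancel a] at this
    rw [← this, Module.End.mul_apply, h i hi, map_zero]
  refine h1 v fun g => gen D (j := ρ) (P := fun e => e v = v) ?_ ?_ hv ?_ g
  · intro a b ha hb
    rw [Module.End.mul_apply, hb, ha]
  · intro a
    rw [up_eq D ρ, LinearMap.sum_apply, sum_eq_single 0]
    · simp [XX]
    · intro m hm m0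
      rw [LinearMap.smul_apply, hx m (mem_range.1 hm) (by omega), smul_zero]
    · simp
  · rw [← sub_eq_zero, key D ρ hU hv]
    refine sum_eq_zero fun m hm => ?_
    rw [mem_Ioo] at hm
    rw [hx m (by omega) hm.1, map_zero]

/-- PROOF: if the subspace N of such sums is proper in Wt 0, take a functional φ0 on W vanishing on N but not on Wt 0;
φ = φ0 ∘ π (π = Σ_{k<63} ρ t^k, the projection on Wt 0; W is the sum of the Wt k).  φ ∘ YY (2^i) = 0 on every Wt k, so
φ ∘ YY m = 0 for 0 < m < 64, φ is fixed by ww U ww and by t, and by ww (`key` on Wt 0; ww preserves ker π); so by U;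
`gen`, `h2`. -/
theorem beta_surj (hU : ∀ v, ρ D.t v = v → ∑ a : F, ρ (up a) v = 0) (h2 : NoFixD ρ) {v : W} (hv : ρ D.t v = v) :
    ∃ u : Fin 6 → W, (∀ i, u i ∈ Wt D ρ (2 ^ (i.1 + 1))) ∧ v = ∑ i, YY D ρ (2 ^ i.1) (u i) := by
  let N : Submodule K2 W := ⨆ i : Fin 6, (Wt D ρ (2 ^ (i.1 + 1))).map (YY D ρ (2 ^ i.1))
  have hN : v ∈ N := by
    by_contra hn
    obtain ⟨φ0, p1, p2⟩ := N.exists_dual_map_eq_bot_of_notMem hn inferInstance
    have p3 : ∀ x ∈ N, φ0 x = 0 := fun x hx => by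
      have : φ0 x ∈ N.map φ0 := ⟨x, hx, rfl⟩
      rwa [p2, Submodule.mem_bot] at this
    let φ : Dual K2 W := φ0 ∘ₗ pi D ρ
    have φa : ∀ x, φ x = φ0 (pi D ρ x) := fun _ => rfl
    have y1 : ∀ i : Fin 6, ∀ x, φ (YY D ρ (2 ^ i.1) x) = 0 := fun i => by
      refine wt_ind D ρ (φ ∘ₗ YY D ρ (2 ^ i.1)) fun k x hx => ?_
      have hi := lt6 _ i.2
      change φ0 (pi D ρ (YY D ρ (2 ^ i.1) x)) = 0
      have e : (D.ζ : K2) ^ (k + 126 - 2 * 2 ^ i.1 + 2 * 2 ^ i.1) = (D.ζ : K2) ^ k := by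
        rw [Nat.sub_add_cancel (by omega), pow_add, show 126 = 63 * 2 from rfl, pow_mul, z63]; simp
      by_cases c : (D.ζ : K2) ^ (k + 126 - 2 * 2 ^ i.1) = 1
      · rw [pow_add, c, one_mul, ← pow_succ'] at e
        have hx' : x ∈ Wt D ρ (2 ^ (i.1 + 1)) := by unfold Wt at hx ⊢; rwa [e]
        rw [pi_fix D ρ (YY_fix D ρ i hx')]
        exact p3 _ (Submodule.mem_iSup_of_mem i ⟨x, hx', rfl⟩)
      · have hx' : x ∈ Wt D ρ (k + 126 - 2 * 2 ^ i.1 + 2 * 2 ^ i.1) := by unfold Wt at hx ⊢; rwa [e]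
        rw [pi_zero D ρ c (YY_wt D ρ hi.1 hx'), map_zero]
    have y2 : ∀ m < 64, 0 < m → ∀ x, φ (YY D ρ m x) = 0 := fun m hm m0 x => by
      obtain ⟨i, hi, a, -, b⟩ := bit m hm m0
      have := YY_mul D ρ (m := 2 ^ i) (n := m - 2 ^ i) (lt6 i hi).1 ((Nat.sub_le _ _).trans_lt hm) b
      rw [Nat.add_sub_cancel' a] at this
      rw [← this, Module.End.mul_apply]
      exact y1 ⟨i, hi⟩ _
    have w2 : ∀ x, ρ ww (ρ ww x) = x := fun x => by rw [← Module.End.mul_apply, ww2 D ρ]; rfl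
    have fl : ∀ b x, φ (ρ ww (ρ (up b) (ρ ww x))) = φ x := fun b x => by
      rw [up_eq D ρ, LinearMap.sum_apply, map_sum, map_sum, sum_eq_single 0]
      · simp [XX, w2]
      · intro m hm m0
        rw [LinearMap.smul_apply, map_smul, map_smul]
        change _ • φ (YY D ρ m x) = 0
        rw [y2 m (mem_range.1 hm) (by omega), smul_zero]
      · simp
    have fw : ∀ x, φ (ρ ww x) = φ x := fun x => by
      rw [← sub_eq_zero]
      refine wt_ind D ρ (φ ∘ₗ ρ ww - φ) (fun k x hx => ?_) x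
      change φ (ρ ww x) - φ x = 0
      by_cases c : (D.ζ : K2) ^ k = 1
      · have hx' : ρ D.t x = x := by
          have := Module.End.mem_eigenspace_iff.1 hx
          rwa [c, one_smul] at this
        rw [← map_sub, key D ρ hU hx', map_sum]
        refine sum_eq_zero fun m hm => ?_
        rw [mem_Ioo] at hm
        exact y2 m (by omega) hm.1 _
      · have c' : (D.ζ : K2) ^ (62 * k) ≠ 1 := fun e => c (by
          have : (D.ζ : K2) ^ (62 * k) * (D.ζ : K2) ^ k = 1 := by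
            rw [← pow_add, show 62 * k + k = 63 * k by ring, pow_mul, z63, one_pow]
          rwa [e, one_mul] at this)
        rw [φa, φa, pi_zero D ρ c hx, pi_zero D ρ c' (ww_wt D ρ hx), sub_self]
    have : φ = 0 := by
      refine h2 φ fun g => gen D (j := ρ) (P := fun e => ∀ x, φ (e x) = φ x) ?_ ?_ ?_ fw g
      · intro a b ha hb x
        rw [Module.End.mul_apply, ha, hb]
      · intro b x
        rw [← fw, ← w2 x, fl, w2, fw]
      · intro x
        rw [φa, φa, ← Module.End.mul_apply, pi_t]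
    apply p1
    rw [← pi_fix D ρ hv, ← φa, this]; rfl
  obtain ⟨f, hf⟩ := (Submodule.mem_iSup_iff_exists_finsupp _ _).1 hN
  choose u hu using hf.1
  refine ⟨u, fun i => (hu i).1, ?_⟩
  rw [← hf.2, Finsupp.sum_fintype _ _ (fun _ => rfl)]
  exact sum_congr rfl fun i _ => (hu i).2.symm

/-- PROOF: B = Π i : Fin 6, Wt (2^(i+1)); γ : (fix t ⊓ fix ww) → B, v ↦ (CC i (XX (2^i) v)) is injective (`CC_inj`,
`alpha_inj`) with image in ker β, β : B → fix t, u ↦ Σ YY (2^i) (u i) (`key`, `key2`), β is onto; rank-nullity,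
`finrank_pi_fintype`. -/
theorem div {R : Multiset ℕ} (h : Ty D ρ R) (hR : ∀ r ∈ R, r ∈ LG)
    (hU : ∀ v, ρ D.t v = v → ∑ a : F, ρ (up a) v = 0) (h1 : NoFix ρ) (h2 : NoFixD ρ) :
    finrank K2 ↥((ρ D.t).eigenspace 1 ⊓ (ρ ww).eigenspace 1) + finrank K2 ((ρ D.t).eigenspace 1) ≤
      ∑ i ∈ range 6, finrank K2 (Wt D ρ (2 ^ (i + 1))) := by
  let β : ((i : Fin 6) → Wt D ρ (2 ^ (i.1 + 1))) →ₗ[K2] W :=
    ∑ i : Fin 6, YY D ρ (2 ^ i.1) ∘ₗ (Wt D ρ (2 ^ (i.1 + 1))).subtype ∘ₗ LinearMap.proj i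
  have βa : ∀ u, β u = ∑ i : Fin 6, YY D ρ (2 ^ i.1) (u i) := fun u => by
    simp only [β, LinearMap.sum_apply]; rfl
  have fx : ∀ v : ↥((ρ D.t).eigenspace 1 ⊓ (ρ ww).eigenspace 1), ρ D.t v = v ∧ ρ ww v = v := fun v => by
    have a := Module.End.mem_eigenspace_iff.1 v.2.1
    have b := Module.End.mem_eigenspace_iff.1 v.2.2
    rw [one_smul] at a b
    exact ⟨a, b⟩
  have xw : ∀ (i : ℕ), i < 6 → ∀ v : W, ρ D.t v = v → XX D ρ (2 ^ i) v ∈ Wt D ρ (2 ^ (i + 1)) := fun i hi v hv => by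
    have := XX_wt D ρ (m := 2 ^ i) (lt6 i hi).1 ((wt0 D ρ).2 hv)
    rwa [zero_add, ← pow_succ'] at this
  let γ : ↥((ρ D.t).eigenspace 1 ⊓ (ρ ww).eigenspace 1) →ₗ[K2] ((i : Fin 6) → Wt D ρ (2 ^ (i.1 + 1))) :=
    LinearMap.pi fun i => LinearMap.codRestrict _
      (CC D ρ i.1 ∘ₗ XX D ρ (2 ^ i.1) ∘ₗ Submodule.subtype _) fun v => CC_wt D ρ _ _ (xw i.1 i.2 v (fx v).1)
  have γa : ∀ v i, (γ v i : W) = CC D ρ i.1 (XX D ρ (2 ^ i.1) v) := fun _ _ => rfl
  have γi : Injective γ := by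
    rw [injective_iff_map_eq_zero]
    intro v hv
    refine Subtype.ext (alpha_inj D ρ hU h1 (fx v).1 fun i hi => ?_)
    refine CC_inj D ρ h hR hi (xw i hi v (fx v).1) ?_
    rw [← γa v ⟨i, hi⟩, hv]; rfl
  have γβ : LinearMap.range γ ≤ LinearMap.ker β := by
    rintro _ ⟨v, rfl⟩
    rw [LinearMap.mem_ker, βa]
    simp only [γa]
    rw [Fin.sum_univ_eq_sum_range (fun i => YY D ρ (2 ^ i) (CC D ρ i (XX D ρ (2 ^ i) v))) 6, ← key2,
      ← key D ρ hU (fx v).1, (fx v).2, sub_self]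
  have βs : (ρ D.t).eigenspace 1 ≤ LinearMap.range β := fun v hv => by
    have a := Module.End.mem_eigenspace_iff.1 hv
    rw [one_smul] at a
    obtain ⟨u, hu, e⟩ := beta_surj D ρ hU h2 a
    exact ⟨fun i => ⟨u i, hu i⟩, by rw [βa, e]⟩
  have r1 := LinearMap.finrank_range_add_finrank_ker β
  have r2 := Submodule.finrank_mono γβ
  have r3 := Submodule.finrank_mono βs
  rw [LinearMap.finrank_range_of_inj γi] at r2
  rw [finrank_pi_fintype, Fin.sum_univ_eq_sum_range (fun i => finrank K2 (Wt D ρ (2 ^ (i + 1)))) 6] at r1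
  omega

end CL.E82
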