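/-
`E₈(2)`, `L₂(64)`: abelian subalgebras of the centraliser of type `A₁A₁T₆`.
-/
import Cfsg.Agent.KSG.E82.Tw
import Cfsg.Agent.KSG.E82.FixA0

set_option autoImplicit false
set_option backward.isDefEq.respectTransparency false

namespace CL.E82
open Module Function Finset CL.SL2Wt CL.Chev CL.AltE Cfsg.Lie
open Matrix hiding zpow_add zpow_mul zpow_sub one_zpow
open scoped MatrixGroups

namespace FixA

theorem two : (2 : K2) = 0 := CharTwo.two_eq_zero
theorem e_e (r s : R8) : ee r (Sum.inr s) = if s = r then 1 else 0 := by simp [ee, bas_root, Pi.single_apply]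
theorem e_l (r : R8) (i : Fin 8) : ee r (Sum.inl i) = 0 := by simp [ee, bas_root]
theorem h_r (r s : R8) : hh r (Sum.inr s) = 0 := rfl
theorem h_l (i j : Fin 8) : hh (sm i) (Sum.inl j) = if j = i then 1 else 0 := by
  simp [hh, hv, cor_sm, Pi.single_apply]
theorem h_ng (r : R8) : hh (ng r) = hh r := by
  rw [hh, hv_ng]; funext i; exact CharTwo.neg_eq _

/-- `v` is a weight vector of weight zero for the `SL₂` of `α` -/
structure Z0 (α : R8) (v : V8) (l : K2) : Prop where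
  h1 : br (ee α) v = l • ee α
  h2 : br (ee (ng α)) v = l • ee (ng α)
  h3 : v (Sum.inr α) = 0
  h4 : v (Sum.inr (ng α)) = 0

noncomputable def vec (α : R8) (v : V8) (s : K2 × K2 × K2) : V8 := v + s.1 • hh α + s.2.1 • ee α + s.2.2 • ee (ng α)

noncomputable def gg (α : R8) (c : Fin 4 → K2) : Γ8 := XG α (c 0) * XG (ng α) (c 1) * XG α (c 2) * XG (ng α) (c 3)

variable {α β : R8} {u v : V8} {l k : K2}

theorem b_ng (α : R8) : br (ee (ng α)) (ee α) = hh α := by rw [br_comm, br_ee_ng]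
theorem b_h (α : R8) : br (ee α) (hh α) = 0 := by rw [br_ee_hh, A_self, Int.cast_two, two, zero_smul]
theorem b_h' (α : R8) : br (ee (ng α)) (hh α) = 0 := by rw [← h_ng, b_h]

theorem Z0.co (z : Z0 α v l) (s : K2 × K2 × K2) :
    vec α v s (Sum.inr α) = s.2.1 ∧ vec α v s (Sum.inr (ng α)) = s.2.2 := by
  simp [vec, z.h3, z.h4, e_e, h_r, ng_ne, (ng_ne α).symm]

theorem Z0.x (z : Z0 α v l) (c : K2) (s : K2 × K2 × K2) : rG (XG α c) (vec α v s) = vec α v (X c l s) := by
  rw [x_apply, (z.co s).2]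
  simp only [vec, X, map_add, map_smul, z.h1, b_h, br_self, br_ee_ng]
  module

theorem Z0.y (z : Z0 α v l) (c : K2) (s : K2 × K2 × K2) : rG (XG (ng α) c) (vec α v s) = vec α v (Y c l s) := by
  rw [x_apply, ng_ng, (z.co s).1]
  simp only [vec, Y, map_add, map_smul, z.h2, b_h', br_self, b_ng]
  module

theorem Z0.g (z : Z0 α v l) (c : Fin 4 → K2) (a a' : K2) :
    rG (gg α c) (vec α v (0, a, a')) = vec α v (GG c l a a') := by
  simp only [gg, map_mul, End.mul_apply, z.x, z.y, GG]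

theorem Z0.b (z : Z0 α u l) (z' : Z0 α v k) (a a' b b' : K2) : br (vec α u (0, a, a')) (vec α v (0, b, b')) =
    br u v + (b * l + a * k) • ee α + (b' * l + a' * k) • ee (ng α) + (a * b' + a' * b) • hh α := by
  simp only [vec, zero_smul, add_zero, map_add, map_smul, LinearMap.add_apply, LinearMap.smul_apply, z'.h1, z'.h2,
    br_comm u (ee _), z.h1, z.h2, br_self, br_ee_ng, b_ng]
  module

theorem car (α : R8) (h : ∀ s : R8, v (Sum.inr s) = 0) : Z0 α v (lam α v) :=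
  ⟨br_ee_cartan α h, (br_ee_cartan _ h).trans (congrArg (· • _) (by
    simp only [lam, A_ng_right, Int.cast_neg, CharTwo.neg_eq])), h _, h _⟩

theorem osymm {D : ChevalleyDatum} [Good D] {α β : Rt D} (o : A α β = 0) : A β α = 0 := by
  rw [← rootSys_pair] at o ⊢; exact ((rootSys D).pair_eq_zero_comm α β).1 o

theorem wng {D : ChevalleyDatum} [Good D] {w : Equiv.Perm (Rt D)} (h : w ∈ (rootSys D).W) (r : Rt D) :
    w (ng r) = ng (w r) := RootSys.W_neg h r

theorem orth {D : ChevalleyDatum} [Good D] {K G : Type*} [Field K] [Group G] (S : StData (rootSys D) K G)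
    {a b : Fin D.rank} (ab : a ≠ b) (o : A (sm a) (sm b) = 0) (c d : Fin 4 → K) :
    Commute (S.x (sm a) (c 0) * S.x (ng (sm a)) (c 1) * S.x (sm a) (c 2) * S.x (ng (sm a)) (c 3))
      (S.x (sm b) (d 0) * S.x (ng (sm b)) (d 1) * S.x (sm b) (d 2) * S.x (ng (sm b)) (d 3)) :=
  have mem : ∀ (i : Fin D.rank) (c : Fin 4 → K), S.x (sm i) (c 0) * S.x (ng (sm i)) (c 1) * S.x (sm i) (c 2) *
      S.x (ng (sm i)) (c 3) ∈ S.XS ((rootSys D).sub {i}) := fun i _ =>
    have h1 := (rootSys D).simple_mem_sub_self i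
    have h2 := (rootSys D).neg_mem_sub_self i
    mul_mem (mul_mem (mul_mem (S.x_mem_XS h1 _) (S.x_mem_XS h2 _)) (S.x_mem_XS h1 _)) (S.x_mem_XS h2 _)
  StData.commute_orth ab o (mem a c) (mem b d)

theorem uz {κ C : Type*} [Fintype κ] [CommGroup C] (t : κ → C) (n : ℤ) (x : κ → ℤ) :
    uchr (t ^ n) x = uchr t x ^ n := by simp [uchr, ← Finset.prod_zpow, ← zpow_mul, mul_comm]

theorem ne4 (o : A α β = 0) : α ≠ β ∧ α ≠ ng β ∧ ng α ≠ β ∧ ng α ≠ ng β := by
  refine ⟨?_, ?_, ?_, fun e => ?_⟩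
  · rintro rfl; simp [A_self] at o
  · rintro rfl; simp [A_ng_left, A_self] at o
  · rintro rfl; simp [A_ng_right, A_self] at o
  · rw [← ng_ng α, e, ng_ng, A_self] at o; simp at o

theorem Z0.add (o : A α β = 0) (z : Z0 α v l) (b b' : K2) : Z0 α (vec β v (0, b, b')) l := by
  obtain ⟨n1, n2, n3, n4⟩ := ne4 o
  refine ⟨?_, ?_, by simp [vec, z.h3, e_e, n1, n2], by simp [vec, z.h4, e_e, n3, n4]⟩
  · simp [vec, z.h1, br_ee_zero o.ge, br_ee_zero (r := α) (s := ng β) (by simp [A_ng_right, o])]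
  · simp [vec, z.h2, br_ee_zero (r := ng α) (s := β) (by simp [A_ng_left, o]),
      br_ee_zero (r := ng α) (s := ng β) (by simp [A_ng_left, A_ng_right, o])]

/-- supported on the Cartan subalgebra and `±α, ±β` -/
def Sup (α β : R8) (v : V8) : Prop := ∀ r, r ≠ α → r ≠ ng α → r ≠ β → r ≠ ng β → v (Sum.inr r) = 0

/-- the `α`-triple -/
noncomputable def trp (α : R8) (v : V8) : K2 × K2 × K2 := (lam α v, v (Sum.inr α), v (Sum.inr (ng α)))

theorem dec (o : A α β = 0) (h : Sup α β v) : ∃ w : V8, (∀ s : R8, w (Sum.inr s) = 0) ∧ (∀ r, lam r w = lam r v) ∧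
    v = vec α (vec β w (0, (trp β v).2.1, (trp β v).2.2)) (0, (trp α v).2.1, (trp α v).2.2) := by
  obtain ⟨n1, n2, n3, n4⟩ := ne4 o
  refine ⟨Sum.elim (fun i => v (Sum.inl i)) 0, fun _ => rfl, fun _ => rfl, funext fun i => ?_⟩
  rcases i with i | r
  · simp [vec, e_l]
  simp only [vec, trp, zero_smul, add_zero, Pi.add_apply, Pi.smul_apply, e_e, Sum.elim_inr, Pi.zero_apply, smul_eq_mul]
  by_cases h1 : r = α
  · simp [h1, n1, n2, (ng_ne α).symm]
  by_cases h2 : r = ng α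
  · simp [h2, n3, n4, ng_ne]
  by_cases h3 : r = β
  · simp [h3, n1.symm, n3.symm, (ng_ne β).symm]
  by_cases h4 : r = ng β
  · simp [h4, n2.symm, n4.symm, ng_ne]
  simp [h1, h2, h3, h4, h r h1 h2 h3 h4]

theorem act (o : A α β = 0) (h : Sup α β v) (c : Fin 4 → K2) : (Fix c (trp α v) → rG (gg α c) v = v) ∧
    (rG (gg α c) v = v → (GG c (trp α v).1 (trp α v).2.1 (trp α v).2.2).2 = (trp α v).2) := by
  obtain ⟨w, hw, e1, e⟩ := dec o h
  have z := (car α hw).add o (trp β v).2.1 (trp β v).2.2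
  have g := z.g c (trp α v).2.1 (trp α v).2.2
  rw [← e, e1] at g
  refine ⟨fun f => by rw [g]; exact (congrArg _ f).trans e.symm, fun f => ?_⟩
  rw [g] at f
  exact Prod.ext ((z.co _).1.symm.trans (congrFun f _)) ((z.co _).2.symm.trans (congrFun f _))

theorem prop {a b : Fin 8} (ab : a ≠ b) (o : A (sm (D := chevE8) a) (sm b) = 0) (hu : Sup (sm a) (sm b) u)
    (hv : Sup (sm a) (sm b) v) (h : br u v = 0) :
    (trp (sm a) v).2.1 * (trp (sm a) u).1 + (trp (sm a) u).2.1 * (trp (sm a) v).1 = 0 ∧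
    (trp (sm a) v).2.2 * (trp (sm a) u).1 + (trp (sm a) u).2.2 * (trp (sm a) v).1 = 0 ∧
    (trp (sm a) u).2.1 * (trp (sm a) v).2.2 + (trp (sm a) u).2.2 * (trp (sm a) v).2.1 = 0 := by
  obtain ⟨n1, n2, n3, n4⟩ := ne4 o
  obtain ⟨w, hw, e1, e⟩ := dec o hu
  obtain ⟨w', hw', e1', e'⟩ := dec o hv
  have := ((car _ hw).add o (trp (sm b) u).2.1 (trp (sm b) u).2.2).b ((car _ hw').add o (trp (sm b) v).2.1
    (trp (sm b) v).2.2) (trp (sm a) u).2.1 (trp (sm a) u).2.2 (trp (sm a) v).2.1 (trp (sm a) v).2.2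
  have h' := congrArg₂ (fun p q => br p q) e e'
  beta_reduce at h'
  replace h := this.symm.trans (h'.symm.trans h)
  rw [(car (sm b) hw).b (car (sm b) hw'), br_cartan hw hw', e1, e1, e1', e1'] at h
  exact ⟨by simpa [trp, e_e, h_r, n1, n2, (ng_ne _).symm] using congrFun h (Sum.inr (sm a)),
    by simpa [trp, e_e, h_r, n3, n4, ng_ne] using congrFun h (Sum.inr (ng (sm a))),
    by simpa [e_l, h_l, ab] using congrFun h (Sum.inl a)⟩

theorem conj {m : Γ8} {w : Equiv.Perm R8} (h : (stS chevE8 K2).Acts1 m w) (α : R8) (c : Fin 4 → K2) :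
    m * sig (gg α c) * m⁻¹ = gg (w α) fun i => c i ^ 2 := by
  have e : w (ng α) = ng (w α) := wng h.1 α
  simp only [gg, map_mul, alg.fe, phi_apply, ← e, ← h.2]
  group

theorem cgg {a b : Fin 8} (ab : a ≠ b) (o : A (sm (D := chevE8) a) (sm b) = 0) (c d : Fin 4 → K2) :
    Commute (gg (sm a) c) (gg (sm b) d) := orth (D := chevE8) (stS chevE8 K2) ab o c d

end FixA
open FixA

/-- PROOF: M' = M.map (rG y) consists of v = h + a e_α + a' e_{-α} + b e_β + b' e_{-β}, is abelian and stable under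
Φ v = rG m (Fr v) (`Frm.fr`), which sends the α-triple (lam α v, a, a') to the β-triple by squaring and conversely
(`fr_root`, `fr_lam`).  [v,v'] = 0 says that the α-triples are proportional (coefficients of e_α, e_{-α}, and of
h_α = coordinate `inl a`).  So all α-triples are multiples of one triple T = (λ,a,a'), the β-triples multiples of its square,
and Φ² (fourth powers) shows that T normalised has entries in F₄ (x⁴ = x).
x_α(c): h ↦ h + c a' h_α, a ↦ a + cλ + c² a' (`x_apply`), λ, a' and the β-triple are unchanged.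
Case a' = 1: choose c3, c2 ∈ F₄, c2 ≠ 0, c2 (a + c3 λ + c3²) = λ (λ = 0: c3 = a², c2 = 1; λ ≠ 0: c3 ∈ {0, 1, λ..} with
a + c3 λ + c3² ≠ 0), c1 = c3 + λ; g_α = x_α(c1) x_{-α}(c2) x_α(c3) fixes every v ∈ M'; γ = g_α g_β with the squared
parameters on β; m σ(γ) m⁻¹ = γ (c⁴ = c, the α and β subgroups commute); γ e_α has e_{-α}-coordinate c2² ≠ 0, so
γ ∉ zpowers.  Case a' = 0, a = 1: the same with -α, -β (state the core for roots α, β, not only simple ones).
Case a = a' = 0 on M': M' is in the Cartan subalgebra, γ = tor8 (ω at a, ω² at b, 1 elsewhere), ω³ = 1 ≠ ω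
(or h_α(ω) h_β(ω²)), it moves e_α.  Finish with `Frm.exists_cent`. -/
theorem fixA {s : G8} (h : FrmA s) (M : Submodule K2 V8) (hM : ∀ v ∈ M, rho s v = v) (hF : ∀ v ∈ M, Fr v ∈ M)
    (hab : ∀ u ∈ M, ∀ v ∈ M, br u v = 0) : ∃ g : G8, Commute g s ∧ g ∉ Subgroup.zpowers s ∧
      ∀ v ∈ M, rho g v = v := by
  obtain ⟨y, m, w, t, a, b, Φ, ab, o, wa, wb, hc⟩ := h
  have o' := osymm o
  have wn : ∀ r, w (ng r) = ng (w r) := wng Φ.acts.1
  have sup : ∀ v ∈ M, Sup (sm a) (sm b) (rG y v) := fun v hv r h1 h2 h3 h4 =>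
    (Φ.fix_iff v).1 (hM v hv) r fun e => ((hc r).1 e).elim h1 fun e => e.elim h2 fun e => e.elim h3 h4
  have fr : ∀ v r, trp (w r) (rG y (Fr v)) = (phi (trp r (rG y v)).1, phi (trp r (rG y v)).2.1, phi (trp r (rG y v)).2.2) :=
    fun v r => by simp only [trp, Φ.fr, ← wn, Φ.fr_root, Φ.fr_lam, phi_apply]
  obtain ⟨ω, hω⟩ := IsAlgClosed.exists_root (Polynomial.X ^ 2 + Polynomial.X + 1 : Polynomial K2) (by
    rw [show (Polynomial.X ^ 2 + Polynomial.X + 1 : Polynomial K2).degree = 2 by compute_degree!]; decide)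
  obtain ⟨c, c4, cf, cn⟩ := par two (ω := ω) (by simpa using hω) (S := {T | ∃ v ∈ M, T = trp (sm a) (rG y v)})
    (by
      rintro _ ⟨u, hu, rfl⟩ _ ⟨v, hv, rfl⟩
      exact prop ab o (sup u hu) (sup v hv) (by rw [← br_map, hab u hu v hv, map_zero]))
    (by
      rintro _ ⟨v, hv, rfl⟩
      refine ⟨_, hF _ (hF v hv), ?_⟩
      conv_rhs => rw [← wb, fr, ← wa, fr]
      simp only [phi_apply, ← pow_mul])
  have c4' : (fun i => (c i ^ 2) ^ 2) = c := funext fun i => by rw [← pow_mul, c4]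
  have ct : ∀ r c, ch t r = 1 → Commute (XG r c) (tor8 t) := fun r c e => by
    have := alg.r3.torHom_conj' alg.good t r c
    rw [show uchr t ((rootSys chevE8).wt r) = 1 from e, Units.val_one, one_mul, mul_inv_eq_iff_eq_mul] at this
    exact this.symm
  have cg : ∀ r c, ch t r = 1 → ch t (ng r) = 1 → Commute (gg r c) (tor8 t) := fun r c e e' =>
    (((ct _ _ e).mul_left (ct _ _ e')).mul_left (ct _ _ e)).mul_left (ct _ _ e')
  have mv : ∀ r, r = sm a ∨ r = ng (sm a) → gg (sm a) c * gg (sm b) (fun i => c i ^ 2) ∈ Subgroup.zpowers (tor8 t) →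
      (GG c (trp (sm a) (ee r)).1 (trp (sm a) (ee r)).2.1 (trp (sm a) (ee r)).2.2).2 = (trp (sm a) (ee r)).2 :=
    fun r hr ⟨n, e⟩ => by
    obtain ⟨n1, n2, n3, n4⟩ := ne4 o
    have s1 : Sup (sm a) (sm b) (ee r) := fun s h1 h2 _ _ => by
      rw [e_e, if_neg]; rcases hr with rfl | rfl <;> assumption
    have s2 : trp (sm b) (ee r) = (0 : K2) • (0, 0, 0) := by
      rcases hr with rfl | rfl <;> simp [trp, lam, e_l, e_e, n1.symm, n2.symm, n3.symm, n4.symm]
    have s3 := (act o' (v := ee r) (fun s h1 h2 h3 h4 => s1 s h3 h4 h1 h2) fun i => c i ^ 2).1 (by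
      rw [s2]; simp [FixA.Fix, GG, X, Y])
    refine (act o s1 c).2 ?_
    have e' : rG (tor8 (t ^ n)) = rG (gg (sm a) c * gg (sm b) fun i => c i ^ 2) := by rw [map_zpow]; exact congrArg _ e
    have := tor_ee (t ^ n) r
    rw [e', map_mul, End.mul_apply, s3] at this
    have c1 : ch t r = 1 := (hc r).2 (hr.imp_right .inl)
    rw [this, show ch (t ^ n) r = ch t r ^ n from uz _ _ _, c1, one_zpow,
      Units.val_one, one_smul]
  obtain ⟨g, g1, g2, g3⟩ := Φ.exists_cent (γ := gg (sm a) c * gg (sm b) fun i => c i ^ 2) (by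
      rw [map_mul, show ∀ p q : Γ8, m * (p * q) * m⁻¹ = m * p * m⁻¹ * (m * q * m⁻¹) from fun p q => by group,
        conj Φ.acts, conj Φ.acts, wa, wb, c4']
      exact (cgg ab o _ _).eq.symm)
    ((cg _ _ ((hc _).2 (by simp)) ((hc _).2 (by simp))).mul_left (cg _ _ ((hc _).2 (by simp)) ((hc _).2 (by simp))))
    fun e => cn.elim (fun c => c (by simpa [trp, lam, e_l, e_e, ng_ne] using mv _ (.inl rfl) e))
      fun c => c (by simpa [trp, lam, e_l, e_e, (ng_ne _).symm] using mv _ (.inr rfl) e)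
  refine ⟨g, g1, g2, fun v hv => ?_⟩
  have f1 := (act o (sup v hv) c).1 (cf _ ⟨v, hv, rfl⟩)
  have f2 := (act o' (fun s h1 h2 h3 h4 => sup v hv s h3 h4 h1 h2) fun i => c i ^ 2).1 (Fix.of_map phi (by
    simp only [phi_apply (c _ ^ 2), c4']
    have := fr v (sm b)
    rw [wb] at this
    exact cf _ ⟨_, hF v hv, this.symm⟩))
  have := congrArg (rG y⁻¹) (g3 v)
  rwa [map_mul, End.mul_apply, f2, f1, ← End.mul_apply, ← End.mul_apply (rG y⁻¹), ← map_mul, inv_mul_cancel, map_one,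
    End.one_apply, End.one_apply] at this

end CL.E82
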