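/-
`E₈(2)`, `L₂(64)`: linear algebra.
-/
import Cfsg.Agent.KSG.E82.Defs

set_option autoImplicit false
set_option backward.isDefEq.respectTransparency false

namespace CL.E82
open Module Function Finset CL.SL2Wt CL.Chev CL.AltE Cfsg.Lie
open Matrix hiding zpow_add zpow_mul zpow_sub one_zpow
open scoped MatrixGroups

/-- PROOF: π = Σ_{k<63} t^k is the projection on fix t, it commutes with w (w t^k = t^(62k) w permutes the sum);
W = fix t ⊕ ker π.  fix w embeds in (fix t ⊓ fix w) × U, U = fix w ⊓ ker π.  U ⊓ t U = 0: u = t u' gives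
t u' = w t u' = t^62 u', so t^61 u' = u', t u' = u' (gcd(61,63) = 1), u' ∈ fix t ⊓ ker π = 0.  So 2 dim U ≤ dim ker π. -/
theorem half {W : Type} [AddCommGroup W] [Module K2 W] [FiniteDimensional K2 W] {t w : End K2 W} (ht : t ^ 63 = 1)
    (hw : w * t = t ^ 62 * w) : 2 * finrank K2 (w.eigenspace 1) + finrank K2 (t.eigenspace 1) ≤
      finrank K2 W + 2 * finrank K2 ↥(t.eigenspace 1 ⊓ w.eigenspace 1) := by
  have mE : ∀ (f : End K2 W) x, x ∈ f.eigenspace 1 ↔ f x = x := fun f x => by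
    rw [End.mem_eigenspace_iff, one_smul]
  have tk : ∀ (f : End K2 W) x, f x = x → ∀ k, (f ^ k) x = x := by
    intro f x hx k
    induction k with
    | zero => rfl
    | succ k ih => rw [pow_succ, End.mul_apply, hx, ih]
  obtain ⟨p, hp⟩ : ∃ p : End K2 W, p = ∑ k ∈ range 63, t ^ k := ⟨_, rfl⟩
  have tp : ∀ x, t (p x) = p x := fun x => by
    have h := mul_geom_sum t 63
    rw [ht, sub_self, ← hp, sub_mul, one_mul, sub_eq_zero] at h
    rw [← End.mul_apply, h]
  have pt : ∀ x, p (t x) = p x := fun x => by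
    have h := geom_sum_mul t 63
    rw [ht, sub_self, ← hp, mul_sub, mul_one, sub_eq_zero] at h
    rw [← End.mul_apply, h]
  have s63 : ∀ x : W, ∑ _k ∈ range 63, x = x := fun x => by
    have e : ((63 : ℕ) : K2) = 1 := by
      have h2 : ((2 : ℕ) : K2) = 0 := CharP.cast_eq_zero K2 2
      rw [show (63 : ℕ) = 2 * 31 + 1 from rfl, Nat.cast_add, Nat.cast_mul, h2, zero_mul, zero_add, Nat.cast_one]
    rw [sum_const, card_range, ← Nat.cast_smul_eq_nsmul K2, e, one_smul]
  have pf : ∀ x, t x = x → p x = x := fun x hx => by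
    rw [hp, LinearMap.sum_apply, sum_congr rfl fun k _ => tk t x hx k, s63]
  have ptk : ∀ k x, p ((t ^ k) x) = p x := by
    intro k
    induction k with
    | zero => intro x; rfl
    | succ k ih => intro x; rw [pow_succ', End.mul_apply, pt, ih]
  have wt : ∀ x, w (t x) = (t ^ 62) (w x) := fun x => by rw [← End.mul_apply, hw, End.mul_apply]
  have t63 : ∀ x, t ((t ^ 62) x) = x := fun x => by
    rw [← End.mul_apply, ← pow_succ', ht]; rfl
  have wk : ∀ k x, w ((t ^ k) x) = (t ^ (62 * k)) (w x) := by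
    intro k
    induction k with
    | zero => intro x; rfl
    | succ k ih => intro x; rw [pow_succ', End.mul_apply, wt, ih, ← End.mul_apply, ← pow_add, mul_add, mul_one, add_comm]
  have wp : ∀ x, w x = x → w (p x) = p x := fun x hx => by
    have h1 : (t ^ 62) (w (p x)) = w (p x) := by rw [← wt, tp]
    have h2 : t (w (p x)) = w (p x) := by
      conv_lhs => rw [← h1]
      exact t63 _
    have h3 : p x = ∑ k ∈ range 63, (t ^ k) x := by rw [hp, LinearMap.sum_apply]
    have h4 : ∀ k, p (w ((t ^ k) x)) = p x := fun k => by rw [wk, ptk, hx]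
    rw [← pf _ h2]
    conv_lhs => rw [h3, map_sum, map_sum]
    rw [sum_congr rfl fun k _ => h4 k, s63]
  have ti : Injective t := fun x y h => by
    have : (t ^ 62) (t x) = (t ^ 62) (t y) := by rw [h]
    rwa [← End.mul_apply, ← End.mul_apply, ← pow_succ, ht] at this
  have e1 := Submodule.finrank_sup_add_finrank_inf_eq (w.eigenspace 1) ((w.eigenspace 1).map t)
  have e2 := Submodule.finrank_sup_add_finrank_inf_eq (w.eigenspace 1 ⊔ (w.eigenspace 1).map t) (t.eigenspace 1)
  have e3 : finrank K2 ((w.eigenspace 1).map t) = finrank K2 (w.eigenspace 1) :=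
    (Submodule.equivMapOfInjective t ti _).finrank_eq.symm
  have e4 := Submodule.finrank_le (w.eigenspace 1 ⊔ (w.eigenspace 1).map t ⊔ t.eigenspace 1)
  have e5 : w.eigenspace 1 ⊓ (w.eigenspace 1).map t ≤ t.eigenspace 1 ⊓ w.eigenspace 1 := by
    rintro _ ⟨h1, u, hu, rfl⟩
    refine ⟨(mE _ _).2 ?_, h1⟩
    have h1' := (mE _ _).1 h1
    have hu' := (mE _ _).1 hu
    rw [wt, hu'] at h1'
    have h2 : (t ^ 2) u = u := by rw [pow_two, End.mul_apply, ← h1', t63]
    have h3 := tk _ _ h2 31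
    rw [← pow_mul] at h3
    have h4 : t u = u := h1'.symm.trans h3
    rw [h4, h4]
  have e6 : (w.eigenspace 1 ⊔ (w.eigenspace 1).map t) ⊓ t.eigenspace 1 ≤ t.eigenspace 1 ⊓ w.eigenspace 1 := by
    rintro x ⟨h1, h2⟩
    refine ⟨h2, (mE _ _).2 ?_⟩
    obtain ⟨a, ha, _, ⟨b, hb, rfl⟩, e⟩ := Submodule.mem_sup.1 h1
    rw [← pf x ((mE _ _).1 h2), ← e, map_add, pt, map_add, wp a ((mE _ _).1 ha), wp b ((mE _ _).1 hb)]
  have e7 := Submodule.finrank_mono e5
  have e8 := Submodule.finrank_mono e6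
  omega

/-- the map `mkQ` restricted to the left side has kernel inside U -/
theorem fix_le {F : Type*} [Field F] {W : Type} [AddCommGroup W] [Module K2 W] [FiniteDimensional K2 W]
    (ρ : SL(2, F) →* End K2 W) {U : Submodule K2 W} (hU : Inv ρ U) (a b : SL(2, F)) :
    finrank K2 ↥((ρ a).eigenspace 1 ⊓ (ρ b).eigenspace 1) ≤
      finrank K2 ↥((subR ρ U hU a).eigenspace 1 ⊓ (subR ρ U hU b).eigenspace 1) +
        finrank K2 ((quoR ρ U hU a).eigenspace 1) := by
  have e1 := LinearMap.finrank_range_add_finrank_ker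
    (U.mkQ.domRestrict ((ρ a).eigenspace 1 ⊓ (ρ b).eigenspace 1))
  have e2 : LinearMap.range (U.mkQ.domRestrict ((ρ a).eigenspace 1 ⊓ (ρ b).eigenspace 1)) ≤
      (quoR ρ U hU a).eigenspace 1 := by
    rintro _ ⟨⟨x, h1, h2⟩, rfl⟩
    rw [End.mem_eigenspace_iff, one_smul, LinearMap.domRestrict_apply, quoR_mk]
    have := End.mem_eigenspace_iff.1 h1
    rw [one_smul] at this
    exact congrArg U.mkQ this
  have e3 : (LinearMap.ker (U.mkQ.domRestrict ((ρ a).eigenspace 1 ⊓ (ρ b).eigenspace 1))).map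
      ((ρ a).eigenspace 1 ⊓ (ρ b).eigenspace 1).subtype ≤
      ((subR ρ U hU a).eigenspace 1 ⊓ (subR ρ U hU b).eigenspace 1).map U.subtype := by
    rintro _ ⟨⟨x, h1, h2⟩, hx, rfl⟩
    have hx' : x ∈ U := (Submodule.Quotient.mk_eq_zero U).1 hx
    refine ⟨⟨x, hx'⟩, ⟨End.mem_eigenspace_iff.2 (Subtype.ext ?_), End.mem_eigenspace_iff.2 (Subtype.ext ?_)⟩, rfl⟩
    · exact End.mem_eigenspace_iff.1 h1
    · exact End.mem_eigenspace_iff.1 h2
  have e4 := Submodule.finrank_mono e2
  have e5 := Submodule.finrank_mono e3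
  rw [Submodule.finrank_map_subtype_eq, Submodule.finrank_map_subtype_eq] at e5
  omega

end CL.E82
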