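/-
`E₈(2)`, `L₂(64)`: the Steinberg block idempotent.
-/
import Cfsg.Agent.KSG.E82.Grp

set_option autoImplicit false
set_option backward.isDefEq.respectTransparency false

namespace CL.E82
open Module Function Finset CL.SL2Wt CL.Chev CL.AltE Cfsg.Lie
open Matrix hiding zpow_add zpow_mul zpow_sub one_zpow
open scoped MatrixGroups

variable {F : Type*} [Field F] [Fintype F] (D : Dt F) {W : Type} [AddCommGroup W] [Module K2 W]
  [FiniteDimensional K2 W] (ρ : SL(2, F) →* End K2 W)

omit [FiniteDimensional K2 W] in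
theorem EE_comm (g : SL(2, F)) : EE ρ * ρ g = ρ g * EE ρ := by
  classical
  rw [EE, sum_mul, mul_sum]
  refine sum_equiv (MulAut.conj g⁻¹).toEquiv (fun u => ?_) fun u _ => ?_
  · simp only [mem_filter, mem_univ, true_and, MulEquiv.toEquiv_eq_coe, EquivLike.coe_coe, ← map_pow, EmbeddingLike.map_eq_one_iff]
  · rw [← map_mul, ← map_mul]
    simp [mul_assoc]

omit [FiniteDimensional K2 W] in
theorem NoFix.sz (h : NoFix ρ) : SZ ρ := by
  classical
  refine LinearMap.ext fun v => h _ fun g => ?_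
  rw [← End.mul_apply, mul_sum]
  simp only [← map_mul]
  rw [Equiv.sum_comp (Equiv.mulLeft g) ρ |>.symm]
  rfl

open Classical in
/-- the sum over the upper Borel subgroup -/
noncomputable def BB : End K2 W := ∑ b ∈ univ.filter (fun b : SL(2, F) => b 1 0 = 0), ρ b

namespace Idm

omit [FiniteDimensional K2 W]

theorem c64 : ((64 : ℕ) : K2) = 0 := (CharP.cast_eq_zero_iff K2 2 64).2 (by norm_num)

theorem c63 : ((63 : ℕ) : K2) = 1 := by
  have := c64
  have h2 : ((2 : ℕ) : K2) = 0 := CharP.cast_eq_zero K2 2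
  push_cast at this h2 ⊢
  linear_combination this - h2

open Classical in
theorem one : BB ρ = ∑ g : SL(2, F), if g 1 0 = 0 then ρ g else 0 := by rw [BB, sum_filter]

open Classical in
theorem cj (x y : SL(2, F)) : ρ x * BB ρ * ρ y = ∑ g : SL(2, F), if (x⁻¹ * g * y⁻¹) 1 0 = 0 then ρ g else 0 := by
  rw [one, mul_sum, sum_mul]
  refine Fintype.sum_equiv ((Equiv.mulLeft x).trans (Equiv.mulRight y)) _ _ fun g => ?_
  simp only [Equiv.trans_apply, Equiv.coe_mulLeft, Equiv.coe_mulRight]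
  rw [show x⁻¹ * (x * g * y) * y⁻¹ = g by group]
  split_ifs
  · rw [map_mul, map_mul]
  · rw [mul_zero, zero_mul]

omit [Fintype F] in
theorem det (g : SL(2, F)) : g 0 0 * g 1 1 - g 0 1 * g 1 0 = 1 := by
  have := g.det_coe
  rwa [det_fin_two] at this

theorem mul_B {b : SL(2, F)} (hb : b 1 0 = 0) : BB ρ * ρ b = BB ρ := by
  classical
  have := cj ρ 1 b
  rw [map_one, one_mul] at this
  rw [this, one]
  refine sum_congr rfl fun g _ => ?_
  have d := det b
  rw [hb, mul_zero, sub_zero] at d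
  have e : (1⁻¹ * g * b⁻¹) 1 0 = g 1 0 * b 1 1 := by
    rw [inv_one, one_mul, mul_ap, SpecialLinearGroup.SL2_inv_expl]
    simp [hb]
  simp only [e, mul_eq_zero, right_ne_zero_of_mul_eq_one d, or_false]

theorem key (h : SZ ρ) : BB ρ * ρ ww * ∑ a : F, ρ (up a) = BB ρ := by
  classical
  have e : ∀ a : F, BB ρ * ρ ww * ρ (up a) = ∑ g : SL(2, F), if g 1 0 * a = g 1 1 then ρ g else 0 := fun a => by
    have := cj ρ 1 (ww * up a)
    rw [map_one, one_mul, map_mul, ← mul_assoc] at this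
    rw [this]
    refine sum_congr rfl fun g _ => ?_
    have e : (1⁻¹ * g * (ww * up a)⁻¹) 1 0 = g 1 0 * a - g 1 1 := by
      rw [inv_one, one_mul, mul_ap, SpecialLinearGroup.SL2_inv_expl]
      simp [mul_ap, up, ww, sub_eq_add_neg]
    simp only [e, sub_eq_zero]
  have k : BB ρ + BB ρ * ρ ww * ∑ a : F, ρ (up a) = 0 := by
    rw [mul_sum]
    simp only [e]
    rw [sum_comm, one, ← sum_add_distrib]
    refine Eq.trans (sum_congr (by congr) fun g _ => ?_) h
    by_cases c : g 1 0 = 0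
    · have d := det g
      rw [c, mul_zero, sub_zero] at d
      simp [c, (right_ne_zero_of_mul_eq_one d).symm]
    · have : ∀ a : F, g 1 0 * a = g 1 1 ↔ a = g 1 1 / g 1 0 := fun a => by rw [eq_div_iff c, mul_comm]
      simp [c, this]
  have h2 : BB ρ + BB ρ = 0 := by rw [← two_smul K2, show (2 : K2) = 0 from CharP.cast_eq_zero K2 2, zero_smul]
  exact add_left_cancel (k.trans h2.symm)

include D

theorem sq_iff (g : SL(2, F)) : g ^ 2 = 1 ↔ g 0 0 + g 1 1 = 0 := by
  have h2 := D.two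
  have d := det g
  refine ⟨fun e => by_contra fun n => ?_, fun e => ext4 ?_⟩
  · have a := congrArg (fun g : SL(2, F) => g 0 0) e
    have b := congrArg (fun g : SL(2, F) => g 1 1) e
    simp only [sq, mul_ap] at a b
    change _ = (1 : F) at a b
    refine n (pow_eq_zero_iff two_ne_zero |>.1 ?_)
    linear_combination a + b + (1 + g 0 0 * g 1 1 - g 0 1 * g 1 0) * h2
  · simp only [sq, mul_ap]
    change _ = (1 : F) ∧ _ = (0 : F) ∧ _ = (0 : F) ∧ _ = (1 : F)
    refine ⟨?_, ?_, ?_, ?_⟩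
    · linear_combination g 0 0 * e - d - h2
    · linear_combination g 0 1 * e
    · linear_combination g 1 0 * e
    · linear_combination g 1 1 * e - d - h2

open Classical in
theorem cnt (b c t : F) : ((if c = 0 then 1 else 0 : K2) + ∑ x : F, if c * x ^ 2 + t * x + b = 0 then (1 : K2) else 0) =
    if t = 0 then 1 else 0 := by
  have h2 := D.two
  have k2 : (1 : K2) + 1 = 0 := by rw [one_add_one_eq_two]; exact CharP.cast_eq_zero K2 2
  by_cases ht : t = 0 <;> by_cases hc : c = 0
  · simp only [ht, hc, zero_mul, zero_add, if_true]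
    rw [sum_const, card_univ, D.card, nsmul_eq_mul, c64, zero_mul, add_zero]
  · have : CharP F 2 := charP_of_card_eq_prime_pow (p := 2) (f := 6) D.card
    obtain ⟨y, hy⟩ := (Finite.surjective_of_injective (frobenius F 2).injective) (b / c)
    rw [frobenius_def, eq_div_iff hc] at hy
    have : ∀ x : F, c * x ^ 2 + t * x + b = 0 ↔ x = y := fun x => by
      rw [← show c * (x - y) ^ 2 = c * x ^ 2 + t * x + b by rw [ht]; linear_combination hy - c * x * y * h2,
        mul_eq_zero_iff_left hc, pow_eq_zero_iff two_ne_zero, sub_eq_zero]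
    simp only [this]
    simp [ht, hc]
  · have : ∀ x : F, c * x ^ 2 + t * x + b = 0 ↔ x = -b / t := fun x => by
      rw [eq_div_iff ht, hc, zero_mul, zero_add, mul_comm, add_eq_zero_iff_eq_neg]
    simp only [this]
    simp [ht, hc, k2]
  · rw [if_neg hc, if_neg ht, zero_add]
    refine sum_involution (fun x _ => x + t / c) (fun x _ => ?_) (fun x _ _ e => ?_) (fun _ _ => mem_univ _) fun x _ => ?_
    · rw [show c * (x + t / c) ^ 2 + t * (x + t / c) + b = c * x ^ 2 + t * x + b by
        field_simp; linear_combination (c * x * t + t ^ 2) * h2]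
      split_ifs
      exacts [k2, add_zero _]
    · exact div_ne_zero ht hc (by simpa using e)
    · linear_combination (t / c) * h2

theorem eq : BB ρ = (∑ a : F, ρ (up a)) * ∑ k ∈ range 63, ρ D.t ^ k := by
  classical
  have ho : orderOf D.c⁻¹ = 63 := by rw [orderOf_inv, D.hc]
  rw [sum_mul_sum, ← sum_product', BB]
  refine (sum_bij (fun p _ => up p.1 * D.t ^ p.2) (fun p _ => ?_) (fun p hp q hq e => ?_) (fun b hb => ?_) fun p _ => ?_).symm
  · rw [Dt.t, dg_pow]; simp [mul_ap, up, dg]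
  · have e1 := congrArg (fun g : SL(2, F) => g 1 1) e
    simp only [Dt.t, dg_pow] at e1
    simp only [mul_ap, up, dg, mk10, mk11, zero_mul, one_mul, zero_add, Units.val_inj] at e1
    have e2 : p.2 = q.2 := pow_injOn_Iio_orderOf (x := D.c⁻¹) (by simpa [ho, D.hc] using hp) (by simpa [ho, D.hc] using hq) e1
    rw [e2, mul_left_inj] at e
    exact Prod.ext (congrArg (fun g : SL(2, F) => g 0 1) e) e2
  · have hb : b 1 0 = 0 := (mem_filter.1 hb).2
    have d := det b
    rw [hb, mul_zero, sub_zero] at d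
    have top : Subgroup.zpowers D.c⁻¹ = ⊤ := Subgroup.eq_top_of_card_eq _ (by
      rw [Nat.card_zpowers, ho, Nat.card_units, Nat.card_eq_fintype_card, D.card])
    have m : Units.mk0 (b 1 1) (right_ne_zero_of_mul_eq_one d) ∈ Subgroup.zpowers D.c⁻¹ := top ▸ Subgroup.mem_top _
    rw [mem_zpowers_iff_mem_range_orderOf, ho, mem_image] at m
    obtain ⟨k, hk, e⟩ := m
    refine ⟨(b 0 1 * b 0 0, k), by simpa using hk, ext4 ?_⟩
    simp only [Dt.t, dg_pow, e]
    simp [up, dg, mul_ap, hb, mul_assoc, d, ← eq_inv_of_mul_eq_one_left d]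
  · rw [map_mul, map_pow]

end Idm

include D

omit [FiniteDimensional K2 W] in
/-- PROOF: the coefficient of g on the right is the number of fixed points of g on the projective line (g = [[a,b],[c,d]];
∞ iff c = 0, and the x with (lo-conjugate entry) c x² + (a+d) x + b = 0 or its mirror); it is odd iff the trace is 0 iff
g² = 1 (trace 0: Frobenius bijective; trace ≠ 0: x ↦ x + (a+d)/c pairs the roots). -/
theorem EE_eq : EE ρ = BB ρ + ∑ a : F, ρ (up a * ww) * BB ρ * ρ (up a * ww)⁻¹ := by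
  classical
  have h2 := D.two
  simp only [Idm.cj]
  rw [sum_comm, Idm.one, EE, sum_filter, ← sum_add_distrib]
  refine sum_congr rfl fun g _ => ?_
  have e : ∀ a : F, ((up a * ww)⁻¹ * g * (up a * ww)⁻¹⁻¹) 1 0 = g 1 0 * a ^ 2 + (g 0 0 + g 1 1) * a + g 0 1 := fun a => by
    rw [inv_inv, mul_ap, mul_ap, mul_ap, SpecialLinearGroup.SL2_inv_expl]
    simp [mul_ap, up, ww]
    linear_combination (-(g 0 0 * a) - g 0 1) * h2
  have := congrArg (· • ρ g) (Idm.cnt D (g 0 1) (g 1 0) (g 0 0 + g 1 1))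
  simp only [add_smul, sum_smul, ite_smul, one_smul, zero_smul] at this
  simp only [e, this, Idm.sq_iff D g]

omit [FiniteDimensional K2 W] in
/-- PROOF: BB² = |B| BB = 0; by `EE_comm`-free computation: BB * (g BB g⁻¹) for g = up a * ww is
(Σ over B w B) * 63 * g⁻¹ = (Ŝ - BB) g⁻¹ = BB g⁻¹ (|B ∩ wBw| = 63 odd), and Σ_a BB (up a * ww)⁻¹ = Σ over B w B = Ŝ - BB = BB.
(B w U → BwB is a bijection; BB * ρ b = BB = ρ b * BB for b ∈ B.) -/
theorem BB_EE (h : SZ ρ) : BB ρ * EE ρ = BB ρ := by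
  have k := Idm.key ρ h
  have w : (ww : SL(2, F))⁻¹ = ww := inv_eq_of_mul_eq_one_right (by
    have := pow_orderOf_eq_one (ww : SL(2, F))
    rwa [D.ord_w, pow_two] at this)
  have u : ∀ a : F, BB ρ * ρ (up a) = BB ρ := fun a => Idm.mul_B ρ rfl
  have z : BB ρ * ∑ a : F, ρ (up a) = 0 := by
    rw [mul_sum]
    simp only [u]
    rw [sum_const, card_univ, D.card, ← Nat.cast_smul_eq_nsmul K2, Idm.c64, zero_smul]
  have t : BB ρ * ∑ k ∈ range 63, ρ D.t ^ k = BB ρ := by
    have : ∀ k, BB ρ * ρ D.t ^ k = BB ρ := fun k => by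
      rw [← map_pow, Dt.t, dg_pow]; exact Idm.mul_B ρ rfl
    rw [mul_sum]
    simp only [this]
    rw [sum_const, card_range, ← Nat.cast_smul_eq_nsmul K2, Idm.c63, one_smul]
  have m : ∀ a : F, BB ρ * (ρ (up a * ww) * BB ρ * ρ (up a * ww)⁻¹) = BB ρ * ρ ww * ρ (up (-a)) := fun a => by
    have : BB ρ * ρ ww * BB ρ = BB ρ := by
      conv_lhs => rw [← mul_one (BB ρ), mul_one]
      nth_rewrite 2 [Idm.eq D ρ]
      rw [← mul_assoc, k, t]
    rw [map_mul, ← mul_assoc, ← mul_assoc, ← mul_assoc, u, this, _root_.mul_inv_rev, w,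
      inv_eq_of_mul_eq_one_right (show up a * up (-a) = 1 by rw [← up_add, add_neg_cancel, up_zero]), map_mul, mul_assoc]
  rw [EE_eq D, mul_add, mul_sum]
  simp only [m]
  rw [← mul_sum, show ∑ a : F, ρ (up (-a)) = _ from Equiv.sum_comp (Equiv.neg F) fun a => ρ (up a), k]
  nth_rewrite 2 [Idm.eq D ρ]
  rw [← mul_assoc, z, zero_mul, zero_add]

omit [FiniteDimensional K2 W] in
/-- EE * EE = Σ (g BB g⁻¹) EE = Σ g (BB EE) g⁻¹ -/
theorem EE_idem (h : SZ ρ) : EE ρ * EE ρ = EE ρ := by
  nth_rewrite 1 [EE_eq D]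
  rw [add_mul, sum_mul, BB_EE D ρ h]
  simp only [mul_assoc, ← EE_comm]
  simp only [← mul_assoc]
  simp only [mul_assoc _ (BB ρ) (EE ρ), BB_EE D ρ h]
  exact (EE_eq D ρ).symm

omit [FiniteDimensional K2 W] in
/-- B = U T, T = zpowers t of order 63: BB = (Σ_a ρ (up a)) * Σ_{k<63} ρ (t^k) -/
theorem BB_eq : BB ρ = (∑ a : F, ρ (up a)) * ∑ k ∈ range 63, ρ D.t ^ k := by
  exact Idm.eq D ρ

omit [FiniteDimensional K2 W] in
theorem U_zero (h : SZ ρ) (h0 : EE ρ = 0) (v : W) (hv : ρ D.t v = v) : ∑ a : F, ρ (up a) v = 0 := by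
  have := BB_EE D ρ h
  rw [h0, mul_zero, BB_eq D] at this
  have e : ∀ k, (ρ D.t ^ k) v = v := fun k => by
    induction k with
    | zero => rfl
    | succ k ih => rw [pow_succ, End.mul_apply, hv, ih]
  have := congrArg (· v) this
  simp only [End.mul_apply, LinearMap.sum_apply, e, sum_const, card_range, LinearMap.zero_apply] at this
  rw [← Nat.cast_smul_eq_nsmul K2, Idm.c63, one_smul] at this
  exact this.symm

end CL.E82
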