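/-
`E₈(2)`, `L₂(64)`: the types of the two blocks.
-/
import Cfsg.Agent.KSG.E82.Ty
import Cfsg.Agent.KSG.E82.Idem

set_option autoImplicit false
set_option backward.isDefEq.respectTransparency false

namespace CL.E82
open Module Function Finset CL.SL2Wt CL.Chev CL.AltE Cfsg.Lie
open Matrix hiding zpow_add zpow_mul zpow_sub one_zpow
open scoped MatrixGroups

variable {F : Type*} [Field F] [Fintype F] (D : Dt F) {W : Type} [AddCommGroup W] [Module K2 W]
  [FiniteDimensional K2 W] (ρ : SL(2, F) →* End K2 W)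

omit [FiniteDimensional K2 W] in
theorem EE_sub {U : Submodule K2 W} (hU : Inv ρ U) (v : U) : (EE (subR ρ U hU) v : W) = EE ρ v := by
  unfold EE
  rw [LinearMap.sum_apply, LinearMap.sum_apply, Submodule.coe_sum]
  rfl

omit [FiniteDimensional K2 W] in
theorem EE_quo {U : Submodule K2 W} (hU : Inv ρ U) (v : W) : EE (quoR ρ U hU) (U.mkQ v) = U.mkQ (EE ρ v) := by
  unfold EE
  rw [LinearMap.sum_apply, LinearMap.sum_apply, map_sum]
  rfl

omit [FiniteDimensional K2 W] in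
theorem SZ.sub (h : SZ ρ) {U : Submodule K2 W} (hU : Inv ρ U) : SZ (subR ρ U hU) := by
  unfold SZ at h ⊢
  ext v
  have := congrArg (· v.1) h
  rw [LinearMap.sum_apply] at this
  rw [LinearMap.sum_apply, Submodule.coe_sum]
  exact this

omit [FiniteDimensional K2 W] in
theorem SZ.quo (h : SZ ρ) {U : Submodule K2 W} (hU : Inv ρ U) : SZ (quoR ρ U hU) := by
  unfold SZ at h ⊢
  refine LinearMap.ext fun x => ?_
  obtain ⟨v, rfl⟩ := U.mkQ_surjective x
  have := congrArg (fun A : End K2 W => U.mkQ (A v)) h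
  simp only [LinearMap.sum_apply, map_sum, LinearMap.zero_apply, map_zero] at this
  rw [LinearMap.sum_apply]
  exact this

omit [FiniteDimensional K2 W] in
theorem Idem2.sum_pow (α β : F) {r : ℕ} (hr : r < Fintype.card F - 1) : ∑ a : F, (α + β * a) ^ r = 0 := by
  simp only [add_pow, mul_pow]
  rw [sum_comm]
  refine sum_eq_zero fun m _ => ?_
  rw [← sum_mul, ← mul_sum, ← mul_sum, FiniteField.sum_pow_lt_card_sub_one F _ (by omega)]
  simp

theorem Idem2.gen (q : ℕ → Prop)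
    (C : ∀ (W : Type) [AddCommGroup W] [Module K2 W], (SL(2, F) →* End K2 W) → Prop)
    (hs : ∀ (W : Type) [AddCommGroup W] [Module K2 W] (ρ : SL(2, F) →* End K2 W) (U : Submodule K2 W)
      (hU : Inv ρ U), C W ρ → C U (subR ρ U hU) ∧ C (W ⧸ U) (quoR ρ U hU))
    (h1 : ∀ (W : Type) [AddCommGroup W] [Module K2 W] (ρ : SL(2, F) →* End K2 W) r φ z,
      Simp D ρ r φ z → C W ρ → q r)
    (hC : C W ρ) {R : Multiset ℕ} (h : Ty D ρ R) : ∀ r ∈ R, q r := by
  refine ind D ρ (fun _ => True) (fun W _ _ _ ρ => C W ρ → ∀ R, Ty D ρ R → ∀ r ∈ R, q r) ?_ ?_ ?_ h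
    (fun _ _ => trivial) hC R h
  · intro W _ _ _ ρ hW _ R hR r hr
    have : Ty D ρ 0 := ⟨by simp, fun t => by simp [LinearMap.det_eq_one_of_subsingleton],
      fun t => by simp [LinearMap.det_eq_one_of_subsingleton]⟩
    rw [Ty.unique D ρ hR this] at hr
    simp at hr
  · intro W _ _ _ ρ r φ z _ hS hC R hR r' hr'
    rw [Ty.unique D ρ hR hS.ty, Multiset.mem_singleton] at hr'
    exact hr' ▸ h1 W ρ r φ z hS hC
  · intro W _ _ _ ρ U hU h1 h2 hC R hR r hr
    obtain ⟨R1, hR1⟩ := exists_ty D (subR ρ U hU)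
    obtain ⟨R2, hR2⟩ := exists_ty D (quoR ρ U hU)
    rw [Ty.unique D ρ hR (Ty.add D ρ hU hR1 hR2), Multiset.mem_add] at hr
    rcases hr with hr | hr
    · exact h1 (hs W ρ U hU hC).1 _ hR1 r hr
    · exact h2 (hs W ρ U hU hC).2 _ hR2 r hr

/-- PROOF: `ind` with p = True, P = (EE ρ = 1 → ∀ R, Ty D ρ R → ∀ r ∈ R, r = 63).  Simple case r < 63:
φ (ρ g (Σ_a ρ (up a)) (ρ h z)) = Σ_a f((g up(a) h) 1 0)^r = Σ_a (α + f(a) β)^r = 0 (`FiniteField.sum_pow_lt_card_sub_one`), so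
Σ_a ρ (up a) = 0 (`inj`, `span`), BB = 0 (`BB_eq`), EE = 0 (`EE_eq`), so W = 0, but φ (ρ ww z) = 1. -/
theorem ty_one (h1 : EE ρ = 1) {R : Multiset ℕ} (h : Ty D ρ R) : ∀ r ∈ R, r = 63 := by
  refine Idem2.gen D ρ (· = 63) (fun W _ _ ρ => EE ρ = 1) ?_ ?_ h1 h
  · intro W _ _ ρ U hU h
    refine ⟨LinearMap.ext fun v => Subtype.ext ?_, LinearMap.ext fun x => ?_⟩
    · rw [EE_sub, h]; rfl
    · obtain ⟨v, rfl⟩ := U.mkQ_surjective x
      rw [EE_quo, h]; rfl
  · intro W _ _ ρ r φ z hS h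
    by_contra hr
    have hr' : r < Fintype.card F - 1 := by have := hS.lt; rw [D.card]; omega
    have h0 : ∑ a : F, ρ (up a) = 0 := by
      refine LinearMap.ext_on_range hS.span fun k => hS.inj _ fun g => ?_
      rw [LinearMap.sum_apply, map_sum, map_sum]
      have : ∀ a : F, φ (ρ g (ρ (up a) (ρ k z))) =
          D.f (((g 1 0 * k 0 0 + g 1 1 * k 1 0) + g 1 0 * k 1 0 * a) ^ r) := fun a => by
        rw [← End.mul_apply, ← End.mul_apply, ← map_mul, ← map_mul, hS.top, map_pow]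
        congr 2
        simp only [mul_ap, up, mk00, mk01, mk10, mk11]
        ring
      rw [sum_congr rfl fun a _ => this a, ← map_sum, Idem2.sum_pow _ _ hr', map_zero]
    have hB : BB ρ = 0 := by rw [BB_eq D, h0, zero_mul]
    have hE : EE ρ = 0 := by rw [EE_eq D, hB]; simp
    have h2 := hS.top ww
    have h3 : ρ ww z = 0 := by
      have := congrArg (· (ρ ww z)) (h.symm.trans hE)
      exact this
    rw [h3, map_zero] at h2
    simp [ww] at h2

/-- PROOF: `ind`; simple case r = 63: BB = BB * EE = 0, but φ (ρ ww (BB (ρ ww z))) = #{b ∈ B | b 0 1 ≠ 0} = 63 * 63 ≠ 0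
(or use `BB_eq`). -/
theorem ty_zero (hs : SZ ρ) (h0 : EE ρ = 0) {R : Multiset ℕ} (h : Ty D ρ R) : 63 ∉ R := by
  classical
  intro h63
  refine Idem2.gen D ρ (· ≠ 63) (fun W _ _ ρ => SZ ρ ∧ EE ρ = 0) ?_ ?_ ⟨hs, h0⟩ h 63 h63 rfl
  · intro W _ _ ρ U hU h
    refine ⟨⟨h.1.sub ρ hU, LinearMap.ext fun v => Subtype.ext ?_⟩, h.1.quo ρ hU, LinearMap.ext fun x => ?_⟩
    · rw [EE_sub, h.2]; rfl
    · obtain ⟨v, rfl⟩ := U.mkQ_surjective x
      rw [EE_quo, h.2]; rfl
  · rintro W _ _ ρ r φ z hS h rfl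
    have hc : ((D.c : F)⁻¹) ^ 63 = 1 := by
      rw [inv_pow, ← Units.val_pow_eq_pow_val, ← D.hc, pow_orderOf_eq_one]; simp
    have hv : ρ D.t (ρ ww z) = ρ ww z := by
      refine sub_eq_zero.1 (hS.inj _ fun g => ?_)
      rw [map_sub, map_sub, ← End.mul_apply, ← End.mul_apply, ← End.mul_apply (ρ g), ← map_mul, ← map_mul,
        ← map_mul, hS.top, hS.top, ← map_pow, ← map_pow, ← map_sub]
      have : (g * D.t * ww : SL(2, F)) 1 0 = (g * ww : SL(2, F)) 1 0 * (D.c : F)⁻¹ := by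
        simp [mul_ap, Dt.t, dg, ww]
      rw [this, mul_pow, hc, mul_one, sub_self, map_zero]
    have h1 := congrArg (fun x => φ (ρ ww x)) (U_zero D ρ h.1 h.2 _ hv)
    simp only [map_sum, map_zero] at h1
    have h2 : ∀ a : F, φ (ρ ww (ρ (up a) (ρ ww z))) = D.f (1 - if a = 0 then 1 else 0) := fun a => by
      rw [← End.mul_apply, ← End.mul_apply, ← map_mul, ← map_mul, hS.top, ← map_pow]
      have : (ww * up a * ww : SL(2, F)) 1 0 = a := by simp [mul_ap, up, ww]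
      rw [this]
      split_ifs with ha
      · simp [ha]
      · have := FiniteField.pow_card_sub_one_eq_one a ha
        rw [D.card] at this
        rw [this, sub_zero]
    rw [sum_congr rfl fun a _ => h2 a, ← map_sum, sum_sub_distrib] at h1
    simp at h1

end CL.E82
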