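/-
`E₈(2)`, `L₂(64)`: the socle of a maximal subgroup fixes no vector of the adjoint module.
-/
import Cfsg.Agent.KSG.E82.FixA
import Cfsg.Agent.KSG.E82.Irr
import Cfsg.Agent.KSG.E82.Cen
import Cfsg.Agent.KSG.E82.Idem

set_option autoImplicit false
set_option maxRecDepth 20000
set_option backward.isDefEq.respectTransparency false

namespace CL.E82
open Module Function Finset CL.SL2Wt CL.Chev CL.AltE Cfsg.Lie
open Matrix hiding zpow_add zpow_mul zpow_sub one_zpow
open scoped MatrixGroups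

instance finG8 : Finite G8 := inferInstanceAs (Finite (chevE8.group (ZMod 2)))

/-- the stabiliser of a subspace -/
def stabS {G V : Type*} [Group G] [Finite G] [AddCommGroup V] [Module K2 V] (ρ : G →* End K2 V) (U : Submodule K2 V) :
    Subgroup G where
  carrier := {g | ∀ v ∈ U, ρ g v ∈ U}
  one_mem' := fun v hv => by rwa [map_one]
  mul_mem' := fun {a b} ha hb v hv => by rw [map_mul]; exact ha _ (hb v hv)
  inv_mem' := fun {a} ha v hv => by
    have h : ∀ k : ℕ, ρ (a ^ k) v ∈ U := fun k => by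
      induction k with
      | zero => rwa [pow_zero, map_one]
      | succ k ih => rw [pow_succ', map_mul]; exact ha _ ih
    have e : a⁻¹ = a ^ (orderOf a - 1) := inv_eq_of_mul_eq_one_right (by
      rw [← pow_succ', Nat.sub_add_cancel (orderOf_pos a), pow_orderOf_eq_one])
    exact e ▸ h _

theorem Emb2.fix {F G V : Type*} [Field F] [Group G] [AddCommGroup V] [Module K2 V] (ρ : G →* End K2 V)
    {H : Subgroup G} {θ : SL(2, F) →* G} (E : Emb2 H θ) {h : G} (hh : h ∈ H) {v : V} (hv : ∀ g, ρ (θ g) v = v)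
    (g : SL(2, F)) : ρ (θ g) (ρ h v) = ρ h v := by
  obtain ⟨g', e⟩ := E.norm h⁻¹ (inv_mem hh) g
  rw [← End.mul_apply, ← map_mul, show θ g * h = h * θ g' by rw [← e]; group, map_mul, End.mul_apply, hv]

theorem Emb2.EE_H {F G : Type*} {V : Type} [Field F] [Fintype F] [Group G] [AddCommGroup V] [Module K2 V]
    (ρ : G →* End K2 V) {H : Subgroup G} {θ : SL(2, F) →* G} (E : Emb2 H θ) {h : G} (hh : h ∈ H) :
    EE (ρ.comp θ) * ρ h = ρ h * EE (ρ.comp θ) := by
  classical
  choose κ hκ using E.norm h hh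
  have h1 : Injective κ := fun a b e => E.inj ((MulAut.conj h).injective (by
    rw [MulAut.conj_apply, MulAut.conj_apply, hκ, hκ, e]))
  rw [EE, sum_mul, mul_sum]
  refine (sum_bijective κ (Finite.injective_iff_bijective.1 h1) (fun a => ?_) fun a _ => ?_).symm
  · simp only [mem_filter, mem_univ, true_and]
    rw [← E.inj.eq_iff, ← E.inj.eq_iff (a := κ a ^ 2), map_pow, map_pow, ← hκ, conj_pow, map_one, conj_eq_one_iff]
  · rw [MonoidHom.comp_apply, MonoidHom.comp_apply, ← map_mul, ← map_mul, ← hκ, inv_mul_cancel_right]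

theorem stab {H : Subgroup G8} (hH : IsCoatom H) {U : Submodule K2 V8} (h0 : U ≠ ⊥) (h1 : U ≠ ⊤)
    (hU : ∀ h ∈ H, ∀ v ∈ U, rho h v ∈ U) {g : G8} (hg : ∀ v ∈ U, rho g v ∈ U) : g ∈ H := by
  have h2 : H ≤ stabS rho U := hU
  rcases h2.lt_or_eq with h | h
  · exact ((irr U fun g => (hH.2 _ h).ge (Subgroup.mem_top g)).elim h0 h1).elim
  · exact h.ge hg

variable {F : Type*} [Field F] [Fintype F] (D : Dt F) {H : Subgroup G8} (hH : IsCoatom H) {θ : SL(2, F) →* G8}
  (E : Emb2 H θ)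

/-- canonical subspaces of the centraliser -/
structure Can (H : Subgroup G8) (s : G8) (U : Submodule K2 V8) : Prop where
  inv : ∀ h ∈ H, ∀ v ∈ U, rho h v ∈ U
  fix : ∀ v ∈ U, rho s v = v
  fr : ∀ v ∈ U, Fr v ∈ U

theorem br_rho (g : G8) (u v : V8) : rho g (br u v) = br (rho g u) (rho g v) := br_map _ u v

theorem Fr_zero : Fr 0 = 0 := funext fun _ => zero_pow two_ne_zero

theorem Can.der {s : G8} {U : Submodule K2 V8} (h : Can H s U) : Can H s (der U) := by
  refine ⟨fun g hg v hv => ?_, fun v hv => ?_, fun v hv => ?_⟩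
  · refine Submodule.mem_comap.1 (Submodule.span_le.2 ?_ hv)
    rintro _ ⟨a, ha, b, hb, rfl⟩
    exact Submodule.subset_span ⟨_, h.inv g hg a ha, _, h.inv g hg b hb, br_rho g a b⟩
  · refine LinearMap.mem_eqLocus.1 (Submodule.span_le.2 ?_ hv : v ∈ LinearMap.eqLocus (rho s) LinearMap.id)
    rintro _ ⟨a, ha, b, hb, rfl⟩
    exact LinearMap.mem_eqLocus.2 (by rw [br_rho, h.fix a ha, h.fix b hb]; rfl)
  · induction hv using Submodule.span_induction with
    | mem x hx =>
      obtain ⟨a, ha, b, hb, rfl⟩ := hx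
      exact Submodule.subset_span ⟨_, h.fr a ha, _, h.fr b hb, br_Fr a b⟩
    | zero => rw [Fr_zero]; exact zero_mem _
    | add x y _ _ hx hy => rw [Fr_add]; exact add_mem hx hy
    | smul c x _ hx => rw [Fr_smul]; exact Submodule.smul_mem _ _ hx

include hH E in
theorem kill {U : Submodule K2 V8} (h0 : U ≠ ⊥) (h1 : U ≠ ⊤) (hU : ∀ h ∈ H, ∀ v ∈ U, rho h v ∈ U)
    (h : ∃ g : G8, Commute g (θ D.s) ∧ g ∉ Subgroup.zpowers (θ D.s) ∧ ∀ v ∈ U, rho g v ∈ U) : False := by
  obtain ⟨g, a, b, c⟩ := h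
  exact b (cen_s D E (stab hH h0 h1 hU c) a)

include hH E in
theorem nofix (hd : ∃ v, rho (θ D.s) v ≠ v) (hs : FrmA (θ D.s) ∨ FrmR (θ D.s)) : NoFix (rho.comp θ) := by
  let M : Submodule K2 V8 := ⨅ g, LinearMap.eqLocus (rho (θ g)) LinearMap.id
  have hM : ∀ v, v ∈ M ↔ ∀ g, rho (θ g) v = v := fun v => by
    simp only [M, Submodule.mem_iInf, LinearMap.mem_eqLocus, LinearMap.id_apply]
  have cM : Can H (θ D.s) M := by
    exact ⟨fun h hh v hv => (hM _).2 (E.fix rho hh ((hM v).1 hv)), fun v hv => (hM v).1 hv _,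
      fun v hv => (hM _).2 fun g => (Fr_rho _ _).symm.trans (congrArg Fr ((hM v).1 hv g))⟩
  have k : ∀ U, Can H (θ D.s) U → (∃ g : G8, Commute g (θ D.s) ∧ g ∉ Subgroup.zpowers (θ D.s) ∧
      ∀ v ∈ U, rho g v = v) → U = ⊥ := fun U hU ⟨g, a, b, c⟩ => by
    by_contra h0
    refine kill D hH E h0 (fun h1 => ?_) hU.inv ⟨g, a, b, fun v hv => (c v hv).symm ▸ hv⟩
    obtain ⟨v, hv⟩ := hd
    exact hv (hU.fix v (h1.ge (Submodule.mem_top)))
  have e : M = ⊥ := by
    rcases hs with hs | hs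
    · have k2 : ∀ U, Can H (θ D.s) U → der U = ⊥ → U = ⊥ := fun U hU h => k U hU (fixA hs U hU.fix hU.fr
        fun u hu v hv => (Submodule.eq_bot_iff _).1 h _ (Submodule.subset_span ⟨u, hu, v, hv, rfl⟩))
      exact k2 _ cM (k2 _ cM.der (k2 _ cM.der.der (solvA hs M cM.fix)))
    · obtain ⟨g, a, b, c⟩ := fixR hs
      exact k M cM ⟨g, a, b, fun v hv => c v (cM.fix v hv)⟩
  exact fun v hv => (Submodule.eq_bot_iff _).1 e v ((hM v).2 hv)

end CL.E82
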