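/-
`E₈(2)`, `L₂(64)`: no Steinberg quotient of a tensor square.
-/
import Cfsg.Agent.KSG.E82.Idem2

set_option autoImplicit false
set_option backward.isDefEq.respectTransparency false

namespace CL.E82
open Module Function Finset CL.SL2Wt CL.Chev CL.AltE Cfsg.Lie
open Matrix hiding zpow_add zpow_mul zpow_sub one_zpow
open scoped MatrixGroups

variable {F : Type*} [Field F] [Fintype F] (D : Dt F) {W : Type} [AddCommGroup W] [Module K2 W]
  [FiniteDimensional K2 W] (ρ : SL(2, F) →* End K2 W)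

namespace Ten

theorem tens (A : End K2 W) {n : ℕ} (n0 : (n : K2) ≠ 0) (hA : A ^ n = 1) {ζ : K2} (hζ : IsPrimitiveRoot ζ n) :
    finrank K2 (End.eigenspace (TensorProduct.map A A) (ζ ^ 0)) =
      ∑ k ∈ range n, finrank K2 (A.eigenspace (ζ ^ k)) * finrank K2 (A.eigenspace (ζ ^ ((n - k) % n))) := by
  classical
  have : NeZero n := ⟨fun h => n0 (by rw [h, Nat.cast_zero])⟩
  obtain ⟨I, _, v, d, li, sp, hd⟩ := exists_eb_top (J := Unit) (fun _ => A) (fun _ _ => Commute.refl _) n0 fun _ => hA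
  have dm : ∀ μ, finrank K2 (A.eigenspace μ) = #{i | d () i = μ} := fun μ => by
    have := finrank_inf₁ li (hd ()) μ (fun i => d () i = μ) fun _ => Iff.rfl
    rwa [sp, top_inf_eq] at this
  let b := Basis.mk li sp.ge
  have h1 := finrank_inf₁ (b.tensorProduct b).linearIndependent (f := TensorProduct.map A A)
    (d := fun p => d () p.1 * d () p.2) (fun p => by
      rw [Basis.tensorProduct_apply', TensorProduct.map_tmul, Basis.mk_apply, Basis.mk_apply, hd, hd,
        TensorProduct.smul_tmul_smul]) (ζ ^ 0) (fun p => d () p.1 * d () p.2 = ζ ^ 0) fun _ => Iff.rfl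
  rw [Basis.span_eq, top_inf_eq] at h1
  have h2 : ∀ i, ∃ k < n, ζ ^ k = d () i := fun i => hζ.eq_pow_of_pow_eq_one (by
    have := (End.hasEigenvector_iff.2 ⟨End.mem_eigenspace_iff.2 (hd () i), li.ne_zero i⟩).pow_apply n
    rw [hA, End.one_apply] at this
    exact smul_left_injective K2 (li.ne_zero i) (this.symm.trans (one_smul K2 _).symm))
  choose κ hκ eκ using h2
  rw [h1, card_filter, Fintype.sum_prod_type, ← sum_fiberwise_of_maps_to (g := κ) fun i _ => mem_range.2 (hκ i)]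
  refine sum_congr rfl fun k hk => ?_
  have hk' := mem_range.1 hk
  rw [dm, dm, card_eq_sum_ones, sum_mul, one_mul]
  refine sum_congr (filter_congr fun i _ => ?_) fun i hi => ?_
  · rw [← eκ]
    exact ⟨fun h => by rw [h], fun h => hζ.pow_inj (hκ i) hk' h⟩
  · have e : ζ ^ k * ζ ^ ((n - k) % n) = 1 := by
      rw [← pow_eq_pow_mod _ hζ.pow_eq_one, ← pow_add, Nat.add_sub_cancel' hk'.le, hζ.pow_eq_one]
    rw [card_filter]
    refine sum_congr rfl fun j _ => if_congr ?_ rfl rfl
    dsimp only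
    rw [(mem_filter.1 hi).2, pow_zero, ← e]
    exact mul_right_inj' (pow_ne_zero _ (hζ.ne_zero (NeZero.ne n)))

theorem conv {n : ℕ} (hn : 0 < n) (R : Multiset ℕ) (m : ℕ → ℕ) :
    ∑ k ∈ range n, (R.map (cw n · k)).sum * m ((n - k) % n) = (R.map (fn n · m)).sum := by
  induction R using Multiset.induction with
  | empty => simp
  | cons r R ih =>
    simp only [Multiset.map_cons, Multiset.sum_cons, add_mul, sum_add_distrib, ih, add_left_inj]
    rw [fn, ← sum_fiberwise_of_maps_to (s := JJ r) (g := fun j => (r + (n - 2) * j) % n)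
      fun j _ => mem_range.2 (Nat.mod_lt _ hn)]
    refine sum_congr rfl fun k hk => ?_
    rw [cw, Nat.mod_eq_of_lt (mem_range.1 hk), card_eq_sum_ones, sum_mul, one_mul]
    exact sum_congr rfl fun j hj => by rw [(mem_filter.1 hj).2]

theorem fn_zero (n : ℕ) (m : ℕ → ℕ) : fn n 0 m = m 0 := by
  rw [fn, show JJ 0 = {0} by decide]
  simp

end Ten

/-- PROOF: τ = ρ ⊗ ρ on W ⊗ W, b = `TensorProduct.lift B`, U = ker b is invariant; the quotient embeds equivariantly in W', so
EE = 1 on it and its type consists of 63's (`ty_one`); if B ≠ 0 it is nonempty (`Ty.ne_zero`), so the type T of τ contains 63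
(`Ty.add`, `Ty.unique`).  `fn_count` with J = 0: dim fix τ(t) = dim fix τ(s) + 2 count 63 T.  On eigenbases
(`exists_eb_top`, `Basis.tensorProduct`) dim fix τ(t) = Σ_{k<63} d(k) d(63-k) = Σ_{r' ∈ R} fn 63 r' (dim Wt), the same for s;
`fn_count` with J = r' < 63 shows they are equal, as count (63 - r') R = 0. -/
theorem ten {R : Multiset ℕ} (h : Ty D ρ R) (hR : ∀ r ∈ R, r ≠ 63 ∧ ∀ r' ∈ R, r + r' ≠ 63) {W' : Type}
    [AddCommGroup W'] [Module K2 W'] [FiniteDimensional K2 W'] (ρ' : SL(2, F) →* End K2 W') (h1 : EE ρ' = 1)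
    (B : W →ₗ[K2] W →ₗ[K2] W') (hB : ∀ g u v, B (ρ g u) (ρ g v) = ρ' g (B u v)) : B = 0 := by
  by_contra B0
  let τ : SL(2, F) →* End K2 (TensorProduct K2 W W) := Representation.tprod ρ ρ
  have hb : ∀ g x, TensorProduct.lift B (τ g x) = ρ' g (TensorProduct.lift B x) := fun g x =>
    LinearMap.congr_fun (TensorProduct.ext' (g := TensorProduct.lift B ∘ₗ τ g) (h := ρ' g ∘ₗ TensorProduct.lift B)
      fun u v => hB g u v) x
  have hU : Inv τ (LinearMap.ker (TensorProduct.lift B)) := fun g x hx => by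
    rw [LinearMap.mem_ker, hb, LinearMap.mem_ker.1 hx, map_zero]
  have h2 : EE (quoR τ _ hU) = 1 := LinearMap.ext fun x => by
    obtain ⟨x, rfl⟩ := Submodule.mkQ_surjective _ x
    rw [EE_quo, End.one_apply, Submodule.mkQ_apply, Submodule.mkQ_apply, Submodule.Quotient.eq, LinearMap.mem_ker,
      map_sub, sub_eq_zero]
    have := LinearMap.congr_fun h1 (TensorProduct.lift B x)
    rw [End.one_apply] at this
    rw [← this]
    simp only [EE, LinearMap.sum_apply, map_sum, hb]
  have : Nontrivial (TensorProduct K2 W W ⧸ LinearMap.ker (TensorProduct.lift B)) :=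
    Submodule.Quotient.nontrivial_iff.2 fun e => B0 (LinearMap.ext₂ fun u v =>
      LinearMap.congr_fun (LinearMap.ker_eq_top.1 e) (u ⊗ₜ v))
  obtain ⟨T1, t1⟩ := exists_ty D (subR τ _ hU)
  obtain ⟨T2, t2⟩ := exists_ty D (quoR τ _ hU)
  obtain ⟨r, hr⟩ := Multiset.exists_mem_of_ne_zero (t2.ne_zero D _)
  have t3 := Ty.add D τ hU t1 t2
  have h3 := Multiset.count_pos.2 (Multiset.mem_add.2 (.inr (ty_one D _ h2 t2 r hr ▸ hr : 63 ∈ T2)) : 63 ∈ T1 + T2)
  have h4 := fn_count t3.1 (J := 0) (by norm_num)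
  have n0 : ∀ n : ℕ, ¬ 2 ∣ n → (n : K2) ≠ 0 := fun n hn => mt (CharP.cast_eq_zero_iff K2 2 n).1 hn
  have h5 := Ten.tens (ρ D.t) (n0 63 (by norm_num)) (by rw [← map_pow, ← D.ord_t, pow_orderOf_eq_one, map_one])
    (IsPrimitiveRoot.coe_units_iff.2 (D.hζ ▸ IsPrimitiveRoot.orderOf D.ζ))
  have h6 := Ten.tens (ρ D.s) (n0 65 (by norm_num)) (by rw [← map_pow, ← D.ord_s, pow_orderOf_eq_one, map_one])
    (IsPrimitiveRoot.coe_units_iff.2 (D.hη ▸ IsPrimitiveRoot.orderOf D.η))
  simp only [h.dim_t D ρ] at h5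
  simp only [h.dim_s D ρ] at h6
  rw [Ten.conv (by norm_num) R fun k => (R.map (cw 63 · k)).sum] at h5
  rw [Ten.conv (by norm_num) R fun k => (R.map (cw 65 · k)).sum] at h6
  rw [Ten.fn_zero, Ten.fn_zero, ← t3.dim_t D τ, ← t3.dim_s D τ] at h4
  have h7 : (R.map (fn 63 · fun k => (R.map (cw 63 · k)).sum)).sum = (R.map (fn 65 · fun k => (R.map (cw 65 · k)).sum)).sum :=
    congrArg _ (Multiset.map_congr rfl fun r hr => by
      have := h.1 r hr
      have := (hR r hr).1
      rw [fn_count h.1 (by omega), Multiset.count_eq_zero.2 fun h' => (hR r hr).2 _ h' (by omega), mul_zero, add_zero])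
  rw [← h5, ← h6] at h7
  have h8 := h7.symm.trans h4
  change finrank K2 (End.eigenspace (TensorProduct.map (ρ D.s) (ρ D.s)) _) =
    finrank K2 (End.eigenspace (TensorProduct.map (ρ D.s) (ρ D.s)) _) + 2 * Multiset.count 63 _ at h8
  omega

end CL.E82
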