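/-
`E₈(2)` has no maximal subgroup with socle `L₂(64)`.
-/
import Cfsg.Agent.KSG.E82.LemF
import Cfsg.Agent.KSG.E82.Cls
import Cfsg.Agent.KSG.E82.Frame
import Cfsg.Agent.KSG.E82.Form
import Cfsg.Agent.KSG.E82.DivC
import Cfsg.Agent.KSG.E82.Half
import Cfsg.Agent.KSG.E82.Ten

set_option autoImplicit false
set_option maxRecDepth 20000
set_option backward.isDefEq.respectTransparency false

namespace CL.E82
open Module Function Finset CL.SL2Wt CL.Chev CL.AltE Cfsg.Lie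
open Matrix hiding zpow_add zpow_mul zpow_sub one_zpow
open scoped MatrixGroups

theorem num1 {R : Multiset ℕ} (hR : ∀ r ∈ R, r < 64) {j : Fin 8}
    (h65 : ∀ k < 65, (R.map (cw 65 · k)).sum = (M65 1).getD k 0)
    (h63 : ∀ k < 63, (R.map (cw 63 · k)).sum = (M63 j).getD k 0) : R.count 63 = 2 := by
  have k : ∀ J < 63, fn 63 J ((M63 j).getD · 0) = fn 65 J ((M65 1).getD · 0) + 2 * R.count (63 - J) := fun J hJ => by
    rw [← fn_congr (by norm_num) J h63, ← fn_congr (by norm_num) J h65, fn_count hR hJ]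
  have k0 := k 0 (by norm_num)
  rcases tab 1 j fun J hJ => by have := k J hJ; omega with ⟨-, rfl⟩ | ⟨h, -⟩ | ⟨h, -⟩
  · have : fn 63 0 ((M63 0).getD · 0) = fn 65 0 ((M65 1).getD · 0) + 4 := by decide +kernel
    simp only [Nat.sub_zero] at k0
    omega
  · exact absurd h (by decide)
  · exact absurd h (by decide)

variable {F : Type*} [Field F] [Fintype F] (D : Dt F) {W : Type} [AddCommGroup W] [Module K2 W]
  [FiniteDimensional K2 W] (ρ : SL(2, F) →* End K2 W)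

omit [FiniteDimensional K2 W] in
theorem inv_ker : Inv ρ (LinearMap.ker (EE ρ)) := fun g v hv => by
  rw [LinearMap.mem_ker, ← End.mul_apply, EE_comm, End.mul_apply, LinearMap.mem_ker.1 hv, map_zero]

omit [FiniteDimensional K2 W] in
theorem EE_sub_zero : EE (subR ρ _ (inv_ker ρ)) = 0 :=
  LinearMap.ext fun v => Subtype.ext ((EE_sub ρ _ v).trans v.2)

include D in
omit [FiniteDimensional K2 W] in
theorem sub_mem_ker (h : SZ ρ) (v : W) : v - EE ρ v ∈ LinearMap.ker (EE ρ) := by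
  rw [LinearMap.mem_ker, map_sub, ← End.mul_apply, EE_idem D ρ h, sub_self]

include D in
omit [FiniteDimensional K2 W] in
theorem EE_quo_one (h : SZ ρ) : EE (quoR ρ _ (inv_ker ρ)) = 1 := LinearMap.ext fun v => by
  obtain ⟨v, rfl⟩ := (LinearMap.ker (EE ρ)).mkQ_surjective v
  rw [EE_quo, End.one_apply]
  exact ((Submodule.Quotient.eq _).2 (sub_mem_ker D ρ h v)).symm

/-- the types of the two blocks -/
theorem split (h : SZ ρ) {R : Multiset ℕ} (hR : Ty D ρ R) : ∃ R1, Ty D (subR ρ _ (inv_ker ρ)) R1 ∧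
    Ty D (quoR ρ _ (inv_ker ρ)) (Multiset.replicate (R.count 63) 63) ∧ 63 ∉ R1 ∧
    R = R1 + Multiset.replicate (R.count 63) 63 := by
  obtain ⟨R1, h1⟩ := exists_ty D (subR ρ _ (inv_ker ρ))
  obtain ⟨R2, h2⟩ := exists_ty D (quoR ρ _ (inv_ker ρ))
  have e := hR.unique D ρ (Ty.add D ρ _ h1 h2)
  have a1 := ty_zero D _ (h.sub ρ _) (EE_sub_zero ρ) h1
  have a2 := Multiset.eq_replicate_card.2 (ty_one D _ (EE_quo_one D ρ h) h2)
  have a3 : R.count 63 = R2.card := by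
    rw [e, Multiset.count_add, Multiset.count_eq_zero.2 a1, zero_add, a2, Multiset.count_replicate_self,
      Multiset.card_replicate]
  rw [a3, ← a2]
  exact ⟨R1, h1, h2, a1, e⟩

omit [FiniteDimensional K2 W] in
theorem Wt_zero : Wt D ρ 0 = (ρ D.t).eigenspace 1 := by rw [Wt, pow_zero]

theorem cw_St : cw 63 63 0 = 2 ∧ cw 65 63 0 = 0 ∧ ∀ i < 6, cw 63 63 (2 ^ (i + 1)) = 1 := by decide +kernel

/-- the bound for the fixed space of an involution -/
theorem bound (h1 : NoFix ρ) (h2 : NoFixD ρ) {R : Multiset ℕ} (hR : Ty D ρ R) (hL : ∀ r ∈ R, r ≠ 63 → r ∈ LG) :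
    2 * finrank K2 ((ρ ww).eigenspace 1) + 3 * finrank K2 (Wt D ρ 0) + 4 * R.count 63 ≤
      finrank K2 W + 2 * ∑ i ∈ range 6, finrank K2 (Wt D ρ (2 ^ (i + 1))) := by
  have hs := h1.sz ρ
  obtain ⟨R1, a1, a2, a3, a4⟩ := split D ρ hs hR
  obtain ⟨k, hk⟩ : ∃ k, R.count 63 = k := ⟨_, rfl⟩
  rw [hk] at a2 a4 ⊢
  have b1 := div D _ a1 (fun r hr => hL r (a4 ▸ Multiset.mem_add.2 (.inl hr)) fun e => a3 (e ▸ hr))
    (U_zero D _ (hs.sub ρ _) (EE_sub_zero ρ)) (fun v hv => Subtype.ext (h1 v fun g => congrArg Subtype.val (hv g)))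
    (fun φ hφ => by
      have := h2 (φ ∘ₗ (1 - EE ρ).codRestrict _ (sub_mem_ker D ρ hs)) fun g v => by
        rw [LinearMap.comp_apply, LinearMap.comp_apply, ← hφ g ((1 - EE ρ).codRestrict _ _ v)]
        refine congrArg φ (Subtype.ext ?_)
        change ρ g v - EE ρ (ρ g v) = ρ g (v - EE ρ v)
        rw [map_sub, ← End.mul_apply, EE_comm, End.mul_apply]
      ext v
      refine Eq.trans (congrArg φ (Subtype.ext ?_)) (DFunLike.congr_fun this v.1)
      change v.1 = v.1 - EE ρ v.1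
      rw [LinearMap.mem_ker.1 v.2, sub_zero])
  have b2 := fix_le ρ (inv_ker ρ) D.t ww
  have b3 := half (t := ρ D.t) (w := ρ ww) (by rw [← map_pow, ← D.ord_t, pow_orderOf_eq_one, map_one]) (by
    have e1 : (ww : SL(2, F)) * ww = 1 := by rw [← sq]; exact orderOf_dvd_iff_pow_eq_one.1 D.ord_w.dvd
    have e2 : D.t ^ 62 = D.t⁻¹ := eq_inv_of_mul_eq_one_left (by
      rw [← pow_succ]; exact orderOf_dvd_iff_pow_eq_one.1 D.ord_t.dvd)
    rw [← map_pow, ← map_mul, ← map_mul, e2, ← D.w_t, mul_assoc, e1, mul_one])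
  have c : ∀ n, finrank K2 (Wt D ρ n) = finrank K2 (Wt D (subR ρ _ (inv_ker ρ)) n) + k * cw 63 63 n := fun n => by
    rw [hR.dim_t, a1.dim_t, a4, Multiset.map_add, Multiset.sum_add, Multiset.map_replicate, Multiset.sum_replicate,
      smul_eq_mul]
  have c0 := c 0
  have c1 := a2.dim_t D _ 0
  rw [Multiset.map_replicate, Multiset.sum_replicate, smul_eq_mul] at c1
  rw [sum_congr rfl fun i hi => (c _).trans (by rw [cw_St.2.2 i (mem_range.1 hi)]), sum_add_distrib, sum_const,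
    card_range, smul_eq_mul]
  rw [Wt_zero, cw_St.1] at c0 c1
  rw [Wt_zero] at c0 ⊢
  omega

/-- the principal block part is closed under an equivariant product -/
theorem closed (hs : SZ ρ) {R : Multiset ℕ} (hR : Ty D ρ R)
    (h : ∀ r ∈ R, ∀ r' ∈ R, r ≠ 63 → r' ≠ 63 → r + r' ≠ 63) (h0 : R.count 63 ≠ 0) (B : W →ₗ[K2] W →ₗ[K2] W)
    (hB : ∀ g u v, ρ g (B u v) = B (ρ g u) (ρ g v)) : LinearMap.ker (EE ρ) ≠ ⊤ ∧
      (∀ v, ρ D.s v = v → v ∈ LinearMap.ker (EE ρ)) ∧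
      ∀ u ∈ LinearMap.ker (EE ρ), ∀ v ∈ LinearMap.ker (EE ρ), B u v ∈ LinearMap.ker (EE ρ) := by
  obtain ⟨R1, a1, a2, a3, a4⟩ := split D ρ hs hR
  refine ⟨fun e => h0 (Multiset.count_eq_zero.2 (ty_zero D ρ hs (LinearMap.ker_eq_top.1 e) hR)), fun v hv => ?_,
    fun u hu v hv => ?_⟩
  · have c := a2.dim_s D _ 0
    rw [Multiset.map_replicate, Multiset.sum_replicate, cw_St.2.1, smul_zero, pow_zero, Submodule.finrank_eq_zero] at c
    exact (Submodule.Quotient.mk_eq_zero _).1 ((Submodule.eq_bot_iff _).1 c ((LinearMap.ker (EE ρ)).mkQ v)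
      (End.mem_eigenspace_iff.2 (by rw [quoR_mk, hv, one_smul])))
  · have m : ∀ r ∈ R1, r ∈ R ∧ r ≠ 63 := fun r hr => ⟨a4 ▸ Multiset.mem_add.2 (.inl hr), fun e => a3 (e ▸ hr)⟩
    have := ten D _ a1 (fun r hr => ⟨(m r hr).2, fun r' hr' => h r (m r hr).1 r' (m r' hr').1 (m r hr).2 (m r' hr').2⟩)
      _ (EE_quo_one D ρ hs) ((B.domRestrict₁₂ _ _).compr₂ (LinearMap.ker (EE ρ)).mkQ) fun g u v =>
        congrArg (LinearMap.ker (EE ρ)).mkQ (hB g u v).symm
    exact (Submodule.Quotient.mk_eq_zero _).1 (DFunLike.congr_fun (DFunLike.congr_fun this ⟨u, hu⟩) ⟨v, hv⟩)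

omit [FiniteDimensional K2 W] in
theorem ex_ne {A : End K2 W} (h : finrank K2 (A.eigenspace 1) ≠ finrank K2 W) : ∃ v, A v ≠ v := by
  by_contra! h'
  refine h ?_
  rw [(Submodule.eq_top_iff'.2 fun v => End.mem_eigenspace_iff.2 (by rw [h', one_smul]) : A.eigenspace 1 = ⊤),
    finrank_top]

include D in
theorem main {H : Subgroup G8} {θ : SL(2, F) →* G8} (E : Emb2 H θ) : ¬ IsCoatom H := fun hH => by
  have ho : ∀ g, orderOf (θ g) = orderOf g := orderOf_injective θ E.inj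
  obtain ⟨i, a1, a2⟩ := cls65 D.hη ((ho _).trans D.ord_s)
  obtain ⟨j, a3⟩ := cls63 D.hζ ((ho _).trans D.ord_t)
  obtain ⟨R, hR⟩ := exists_ty D (rho.comp θ)
  have b2 := fun k hk => (hR.dim_s D _ k).symm.trans (a2 k hk)
  have b3 := fun k hk => (hR.dim_t D _ k).symm.trans (a3 k hk)
  have hn := num hR.1 b2 b3
  have a0 := a2 0 (by norm_num)
  rw [pow_zero] at a0
  have h1 : NoFix (rho.comp θ) := nofix D hH E (ex_ne (by
    rw [a0, finrank_V8]; exact (by decide : ∀ i, (M65 i).getD 0 0 ≠ 248) i)) (by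
    rcases hn with ⟨h, -⟩ | ⟨rfl, -⟩ | ⟨h, -⟩
    exacts [.inl (frmA D.hη (.inl h) a1), .inr (frmR D.hη a1), .inl (frmA D.hη (.inr h) a1)])
  have h2 : NoFixD (rho.comp θ) := fun φ hφ => dualfix (Set.range θ) (fun v hv => h1 v fun g => hv _ ⟨g, rfl⟩) φ
    (Set.forall_mem_range.2 hφ)
  have h3 := fix128 ((ho _).trans D.ord_w)
  have h4 : ∀ i < 6, finrank K2 (Wt D (rho.comp θ) (2 ^ (i + 1))) = (M63 j).getD (2 ^ (i + 1) % 63) 0 := fun i _ => by
    rw [← b3 _ (Nat.mod_lt _ (by norm_num)), hR.dim_t]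
    simp only [cw, Nat.mod_mod]
  have h5 := fun hL => bound D _ h1 h2 hR hL
  rw [sum_congr rfl fun i hi => h4 i (mem_range.1 hi), finrank_V8, hR.dim_t, b3 0 (by norm_num)] at h5
  rcases hn with ⟨rfl, h⟩ | ⟨-, rfl, c, h⟩ | ⟨-, rfl, c, h⟩
  · obtain ⟨c1, c2, c3⟩ := closed D _ (h1.sz _) hR h (by rw [num1 hR.1 b2 b3]; norm_num) br fun g => br_rho (θ g)
    refine kill D hH E (fun e => ?_) c1 (fun g hg v hv => ?_) (subA (frmA D.hη (.inl rfl) a1) _ c2 c3)
    · have e' : (rho (θ D.s)).eigenspace 1 = ⊥ := (Submodule.eq_bot_iff _).2 fun v hv =>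
        (Submodule.eq_bot_iff _).1 e v (c2 v ((End.mem_eigenspace_iff.1 hv).trans (one_smul _ _)))
      rw [e', finrank_bot] at a0
      exact absurd a0 (by decide)
    · rw [LinearMap.mem_ker, ← End.mul_apply, E.EE_H rho hg, End.mul_apply, LinearMap.mem_ker.1 hv, map_zero]
  · have := h5 h
    rw [c, show ∑ i ∈ range 6, (M63 1).getD (2 ^ (i + 1) % 63) 0 = 18 by decide, show (M63 1).getD 0 0 = 10 from rfl,
      MonoidHom.comp_apply] at this
    omega
  · have := h5 h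
    rw [c, show ∑ i ∈ range 6, (M63 4).getD (2 ^ (i + 1) % 63) 0 = 18 by decide, show (M63 4).getD 0 0 = 12 from rfl,
      MonoidHom.comp_apply] at this
    omega

end CL.E82
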